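import Cfsg.Agent.EightCore.Auto
import Cfsg.Agent.Solvable.Basics
import Cfsg.Agent.Kinf.LocalBalance

/-!
# Groups in which abelian `p`-subgroups of equal order are related by automorphisms
-/

set_option autoImplicit false
set_option linter.unusedSectionVars false
set_option linter.style.haveILetI false

namespace CfsgLib.EightCore

open Subgroup

universe u

/-- Abelian subgroups of equal prime power order are conjugate. -/
def PAbConj (G : Type*) [Group G] : Prop :=
  ∀ p : ℕ, p.Prime → ∀ A B : Subgroup G, IsPGroup p A → IsPGroup p B → IsMulCommutative A →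
    IsMulCommutative B → Nat.card A = Nat.card B → ∃ g : G, B = A.map (MulAut.conj g).toMonoidHom

/-- Abelian subgroups of equal prime power order are related by automorphisms. -/
def AutConj (X : Type*) [Group X] : Prop :=
  ∀ p : ℕ, p.Prime → ∀ A B : Subgroup X, IsPGroup p A → IsPGroup p B → IsMulCommutative A →
    IsMulCommutative B → Nat.card A = Nat.card B → ∃ φ : MulAut X, B = A.map φ.toMonoidHom

/-- The hypothesis passes to normal subgroups. -/
theorem PAbConj.autConj {G : Type*} [Group G] (h : PAbConj G) (M : Subgroup G) [M.Normal] :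
    AutConj ↥M := by
  intro p hp A B hA hB hAc hBc hc
  obtain ⟨g, hg⟩ := h p hp (A.map M.subtype) (B.map M.subtype) (hA.map _) (hB.map _)
    inferInstance inferInstance
    (by rw [card_map_of_injective M.subtype_injective, card_map_of_injective M.subtype_injective, hc])
  refine ⟨MulAut.conjNormal g, map_injective M.subtype_injective ?_⟩
  rw [hg, Subgroup.map_map, Subgroup.map_map]
  rfl

variable {X : Type u} [Group X] [Finite X]

theorem centralizer_map (A : Subgroup X) (φ : MulAut X) :
    centralizer ((A.map φ.toMonoidHom : Subgroup X) : Set X) = (centralizer (A : Set X)).map φ.toMonoidHom := by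
  refine le_antisymm (fun x hx => ?_) ?_
  · refine ⟨φ.symm x, mem_centralizer_iff.2 fun a ha => φ.injective ?_, φ.apply_symm_apply x⟩
    rw [map_mul, map_mul, φ.apply_symm_apply]
    exact mem_centralizer_iff.1 hx _ ⟨a, ha, rfl⟩
  · rintro _ ⟨x, hx, rfl⟩
    refine mem_centralizer_iff.2 ?_
    rintro _ ⟨a, ha, rfl⟩
    show φ a * φ x = φ x * φ a
    rw [← map_mul, ← map_mul, mem_centralizer_iff.1 hx a ha]

theorem AutConj.card_centralizer (h : AutConj X) {p : ℕ} [hp : Fact p.Prime] {A B : Subgroup X}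
    (hA : IsPGroup p A) (hB : IsPGroup p B) (hAc : IsMulCommutative A) (hBc : IsMulCommutative B)
    (hc : Nat.card A = Nat.card B) :
    Nat.card (centralizer (A : Set X)) = Nat.card (centralizer (B : Set X)) := by
  obtain ⟨φ, rfl⟩ := h p hp.out A B hA hB hAc hBc hc
  rw [centralizer_map, Subgroup.card_map_of_injective φ.injective]

/-- Two commuting independent elements of order `p`. -/
structure Pair (p : ℕ) (a b : X) : Prop where
  ha : orderOf a = p
  hb : orderOf b = p
  comm : Commute a b
  indep : b ∉ zpowers a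

/-- The subgroup they generate. -/
def pairGroup (a b : X) : Subgroup X := zpowers a ⊔ zpowers b

theorem mem_centralizer_zpowers {a x : X} (h : Commute a x) : x ∈ centralizer (zpowers a : Set X) :=
  mem_centralizer_iff.2 fun _ hy => by
    obtain ⟨i, rfl⟩ := mem_zpowers_iff.1 hy
    exact (h.zpow_left i).eq

theorem centralizer_pairGroup {a b x : X} :
    x ∈ centralizer (pairGroup a b : Set X) ↔ Commute a x ∧ Commute b x := by
  constructor
  · intro hx
    exact ⟨mem_centralizer_iff.1 hx a (mem_sup_left (mem_zpowers a)),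
      mem_centralizer_iff.1 hx b (mem_sup_right (mem_zpowers b))⟩
  · rintro ⟨h1, h2⟩
    refine mem_centralizer_iff.2 fun y hy => ?_
    have hle : pairGroup a b ≤ centralizer ({x} : Set X) :=
      sup_le (zpowers_le.2 (mem_centralizer_singleton_iff.2 h1.eq))
        (zpowers_le.2 (mem_centralizer_singleton_iff.2 h2.eq))
    exact mem_centralizer_singleton_iff.1 (hle hy)

namespace Pair

variable {p : ℕ} [hp : Fact p.Prime] {a b : X} (h : Pair p a b)

include h

theorem isMulCommutative : IsMulCommutative (pairGroup a b) := by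
  refine ⟨⟨fun x y => Subtype.ext ?_⟩⟩
  have hle : pairGroup a b ≤ centralizer (pairGroup a b : Set X) :=
    sup_le (zpowers_le.2 (centralizer_pairGroup.2 ⟨Commute.refl a, h.comm.symm⟩))
      (zpowers_le.2 (centralizer_pairGroup.2 ⟨h.comm, Commute.refl b⟩))
  exact mem_centralizer_iff.1 (hle y.2) x x.2

theorem pow_eq_one {x : X} (hx : x ∈ pairGroup a b) : x ^ p = 1 := by
  have hn : zpowers a ≤ normalizer (zpowers b : Set X) :=
    zpowers_le.2 ((centralizer_le_normalizer _) (mem_centralizer_zpowers h.comm.symm))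
  obtain ⟨u, hu, v, hv, rfl⟩ := (Solvable.mem_sup_of_le_normalizer hn).1 hx
  obtain ⟨i, rfl⟩ := mem_zpowers_iff.1 hu
  obtain ⟨j, rfl⟩ := mem_zpowers_iff.1 hv
  rw [(h.comm.zpow_zpow i j).mul_pow, ← zpow_natCast, ← zpow_natCast, ← zpow_mul, ← zpow_mul,
    mul_comm i, mul_comm j, zpow_mul, zpow_mul, zpow_natCast, zpow_natCast]
  conv_lhs => rw [← h.ha, pow_orderOf_eq_one, h.ha, ← h.hb, pow_orderOf_eq_one, one_zpow, one_zpow, one_mul]

theorem isPGroup : IsPGroup p (pairGroup a b) := fun x =>
  ⟨1, Subtype.ext (by rw [pow_one, SubmonoidClass.coe_pow]; exact h.pow_eq_one x.2)⟩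

theorem card : Nat.card (pairGroup a b) = p ^ 2 := by
  have hinf : zpowers a ⊓ zpowers b = ⊥ := by
    refine (Subgroup.eq_bot_iff_forall _).2 fun x hx => by_contra fun hx1 => h.indep ?_
    have e : zpowers x = zpowers b := eq_of_le_of_card_ge (zpowers_le.2 (mem_inf.1 hx).2) (by
      rw [Nat.card_zpowers, Nat.card_zpowers, h.hb]
      exact Nat.le_of_eq ((Nat.dvd_prime hp.out).1 ((Subgroup.orderOf_dvd_natCard _ (mem_inf.1 hx).2).trans
        (dvd_of_eq (by rw [Nat.card_zpowers, h.hb]))) |>.resolve_left fun e => hx1 (orderOf_eq_one_iff.1 e)).symm)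
    exact zpowers_le.2 (mem_inf.1 hx).1 (e ▸ mem_zpowers b)
  have hn : zpowers a ≤ normalizer (zpowers b : Set X) :=
    zpowers_le.2 ((centralizer_le_normalizer _) (mem_centralizer_zpowers h.comm.symm))
  have h1 := Solvable.card_sup_mul_card_inf hn
  rw [hinf, card_bot, mul_one, Nat.card_zpowers, Nat.card_zpowers, h.ha, h.hb, ← pow_two] at h1
  exact h1

end Pair

/-- If `X` has such a pair, it has no elements of order `p²`. -/
theorem AutConj.no_sq (h : AutConj X) {p : ℕ} [hp : Fact p.Prime] {a b : X} (hab : Pair p a b) (x : X) :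
    orderOf x ≠ p ^ 2 := by
  intro hx
  have hxc : Nat.card (zpowers x) = p ^ 2 := by rw [Nat.card_zpowers, hx]
  obtain ⟨φ, hφ⟩ := h p hp.out _ _ hab.isPGroup (IsPGroup.of_card hxc) hab.isMulCommutative
    inferInstance (hab.card.trans hxc.symm)
  obtain ⟨y, hy, hyx⟩ : x ∈ (pairGroup a b).map φ.toMonoidHom := hφ ▸ mem_zpowers x
  have : x ^ p = 1 := by
    rw [← hyx]; show φ y ^ p = 1
    rw [← map_pow, hab.pow_eq_one hy, map_one]
  have h2 := Nat.le_of_dvd hp.out.pos (hx ▸ orderOf_dvd_of_pow_eq_one this)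
  nlinarith [hp.out.two_le]

theorem AutConj.orderOf_le (h : AutConj X) {p : ℕ} [hp : Fact p.Prime] {a b : X} (hab : Pair p a b)
    {x : X} {k : ℕ} (hx : orderOf x = p ^ k) : x ^ p = 1 := by
  rcases lt_or_ge k 2 with hk | hk
  · refine orderOf_dvd_iff_pow_eq_one.1 (hx ▸ ?_)
    interval_cases k <;> simp
  · exact absurd (show orderOf (x ^ p ^ (k - 2)) = p ^ 2 by
      rw [orderOf_pow_of_dvd (pow_ne_zero _ hp.out.ne_zero) (by rw [hx]; exact pow_dvd_pow p (Nat.sub_le k 2)),
        hx, Nat.pow_div (Nat.sub_le k 2) hp.out.pos, show k - (k - 2) = 2 by omega]) (h.no_sq hab _)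

namespace Eight

variable {T : Subgroup X} (hT : Eight T)

include hT

/-- The 2-part of the centraliser of a subgroup normalised by `T`. -/
theorem dvd_centralizer_iff {A : Subgroup X} (hTA : T ≤ normalizer (A : Set X)) (i : ℕ) :
    2 ^ i ∣ Nat.card (centralizer (A : Set X)) ↔ 2 ^ i ∣ Nat.card ↥(T ⊓ centralizer (A : Set X)) := by
  haveI : Fact (Nat.Prime 2) := ⟨Nat.prime_two⟩
  refine ⟨fun hi => ?_, fun hi => hi.trans (card_dvd_of_le inf_le_right)⟩
  set C := centralizer (A : Set X)
  have hN : T ≤ normalizer (C : Set X) := hTA.trans (LocalBalance.normalizer_le_normalizer_centralizer A)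
  have hmul : T.relIndex (T ⊔ C) * Nat.card T = Nat.card ↥(T ⊔ C) := by
    rw [mul_comm, ← relIndex_bot_left, ← relIndex_bot_left]
    exact Subgroup.relIndex_mul_relIndex _ _ _ bot_le le_sup_left
  have hc0 : Nat.card ↥(T ⊓ C) * (T ⊓ C).relIndex C = Nat.card C := by
    rw [← relIndex_bot_left, ← relIndex_bot_left]
    exact Subgroup.relIndex_mul_relIndex _ _ _ bot_le inf_le_right
  have hodd : Odd ((T ⊓ C).relIndex C) := by
    have h2 : T.relIndex (T ⊔ C) = (T ⊓ C).relIndex C := by
      have h3 := Solvable.card_sup_mul_card_inf hN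
      rw [← hmul, ← hc0, ← mul_assoc] at h3
      refine Nat.eq_of_mul_eq_mul_right (Nat.mul_pos (Nat.card_pos (α := T)) (Nat.card_pos (α := ↥(T ⊓ C)))) ?_
      linarith [h3]
    rw [← h2]
    exact hT.odd_relIndex le_rfl le_sup_left
  have hc : Nat.card ↥(T ⊓ C) * (T ⊓ C).relIndex C = Nat.card C := by
    rw [← relIndex_bot_left, ← relIndex_bot_left]
    exact Subgroup.relIndex_mul_relIndex _ _ _ bot_le inf_le_right
  rw [← hc] at hi
  exact ((Nat.coprime_two_left.2 hodd).pow_left i).dvd_of_dvd_mul_right hi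

end Eight

end CfsgLib.EightCore
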