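import Cfsg.Agent.EightCore.Basic

/-!
# Simple groups with Sylow 2-subgroups elementary of order eight: automisers of `T`
-/

set_option autoImplicit false
set_option linter.unusedSectionVars false
set_option linter.style.haveILetI false

namespace CfsgLib.EightCore

open Subgroup

universe u

variable {G : Type u} [Group G] [Finite G] {T : Subgroup G}

/-- `n` does not centralise `T`. -/
def Moves (T : Subgroup G) (n : G) : Prop :=
  ¬ ∀ v ∈ T, Commute n v

/-- All involutions of `T` are conjugate in `M ⊓ N(T)`. -/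
def TransitiveIn (T M : Subgroup G) : Prop :=
  ∀ x ∈ T, x ≠ 1 → ∀ y ∈ T, y ≠ 1 → ∃ n ∈ M, n ∈ normalizer (T : Set G) ∧ n * x * n⁻¹ = y

/-- `x` is fixed by `M ⊓ N(T)`. -/
def FixedIn (T M : Subgroup G) (x : G) : Prop :=
  ∀ n ∈ M, n ∈ normalizer (T : Set G) → n * x * n⁻¹ = x

namespace Eight

variable (h : Eight T)

include h

theorem conj_mem {n v : G} (hn : n ∈ normalizer (T : Set G)) (hv : v ∈ T) : n * v * n⁻¹ ∈ T :=
  (mem_normalizer_iff.1 hn v).1 hv

/-- An automorphism induced on `T` has odd order. -/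
theorem exists_odd_pow {n : G} (hn : n ∈ normalizer (T : Set G)) :
    ∃ k : ℕ, Odd k ∧ ∀ v ∈ T, Commute (n ^ k) v := by
  set N := normalizer (T : Set G) with hN
  set C := centralizer (T : Set G) with hC
  have hCN : C ≤ N := centralizer_le_normalizer _
  haveI : (C.subgroupOf N).Normal := by
    refine ⟨fun c hc g => ?_⟩
    rw [mem_subgroupOf] at hc ⊢
    refine mem_centralizer_iff.2 fun v hv => ?_
    have hv' : (g : G)⁻¹ * v * g ∈ T := by
      have := h.conj_mem (inv_mem g.2) hv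
      rwa [inv_inv] at this
    have e : Commute ((g : G)⁻¹ * v * g) c := mem_centralizer_iff.1 hc _ hv'
    have := (Commute.conj_iff (g : G)).2 e
    rw [show (g : G) * ((g : G)⁻¹ * v * g) * (g : G)⁻¹ = v by group] at this
    exact this.eq
  refine ⟨(C.subgroupOf N).index, h.odd_relIndex h.le_centralizer hCN, fun v hv => ?_⟩
  have h1 := (C.subgroupOf N).pow_index_mem ⟨n, hn⟩
  rw [mem_subgroupOf] at h1
  exact (mem_centralizer_iff.1 h1 v hv).symm

theorem not_moves_of_sq {n : G} (hn : n ∈ normalizer (T : Set G))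
    (h2 : ∀ v ∈ T, Commute (n * n) v) : ∀ v ∈ T, Commute n v := by
  intro v hv
  obtain ⟨k, ⟨j, rfl⟩, hk⟩ := h.exists_odd_pow hn
  have e : n = ((n * n) ^ j)⁻¹ * n ^ (2 * j + 1) := by
    rw [← pow_two, ← pow_mul, pow_succ, inv_mul_cancel_left]
  rw [e]
  exact ((h2 v hv).pow_left j).inv_left.mul_left (hk v hv)

/-- An element fixing two involutions of `T` centralises it. -/
theorem commute_of_two_fixed {n u v : G} (hn : n ∈ normalizer (T : Set G)) (hu : u ∈ T) (hv : v ∈ T)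
    (hu1 : u ≠ 1) (hv1 : v ≠ 1) (hne : u ≠ v) (hfu : n * u * n⁻¹ = u) (hfv : n * v * n⁻¹ = v) :
    ∀ w ∈ T, Commute n w := by
  have hl := h.isLine_lineOf hu hv hu1 hv1 hne
  have hfix : ∀ y ∈ h.lineOf u v, n * y * n⁻¹ = y := by
    intro y hy
    rcases (h.mem_lineOf hu hv).1 hy with rfl | rfl | rfl | rfl
    · simp
    · exact hfu
    · exact hfv
    · rw [← conj_mul, hfu, hfv]
  obtain ⟨d, hd, hdl⟩ := h.exists_not_mem hl
  have hnd : d * (n * d * n⁻¹) ∈ h.lineOf u v :=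
    (h.mem_or_coset hl hd hdl (h.conj_mem hn hd)).resolve_left fun h1 => hdl (by
      have := hfix _ h1
      have e : n * d * n⁻¹ = d := mul_left_cancel (mul_right_cancel this)
      rwa [e] at h1)
  refine h.not_moves_of_sq hn fun w hw => ?_
  have hd2 : n * n * d * (n * n)⁻¹ = d := by
    set w₀ := d * (n * d * n⁻¹) with hw₀
    have e1 : n * d * n⁻¹ = d * w₀ := by rw [hw₀, ← mul_assoc, h.sq d hd, one_mul]
    calc n * n * d * (n * n)⁻¹ = n * (n * d * n⁻¹) * n⁻¹ := by group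
      _ = (n * d * n⁻¹) * (n * w₀ * n⁻¹) := by
        rw [show n * (n * d * n⁻¹) * n⁻¹ = n * (d * w₀) * n⁻¹ from congrArg (fun z => n * z * n⁻¹) e1,
          ← conj_mul]
      _ = d := by rw [hfix _ hnd, e1, mul_assoc, h.sq _ (hl.1 hnd), mul_one]
  have hc : Commute (n * n) d := mul_inv_eq_iff_eq_mul.1 hd2
  have hcl : ∀ y ∈ h.lineOf u v, Commute (n * n) y := fun y hy => by
    have h1 : Commute n y := mul_inv_eq_iff_eq_mul.1 (hfix y hy)
    exact h1.mul_left h1
  rcases h.mem_or_coset hl hd hdl hw with h1 | h1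
  · exact hcl w h1
  · have := hc.mul_right (hcl _ h1)
    rwa [← mul_assoc, h.sq d hd, one_mul] at this

/-- A nontrivial automorphism fixing `x` moves all the other involutions and the lines through `x`. -/
theorem moves_other {n x v : G} (hn : n ∈ normalizer (T : Set G)) (hm : Moves T n) (hx : x ∈ T)
    (hx1 : x ≠ 1) (hfx : n * x * n⁻¹ = x) (hv : v ∈ T) (hv1 : v ≠ 1) (hvx : v ≠ x) :
    n * v * n⁻¹ ≠ v ∧ n * v * n⁻¹ ≠ x * v := by
  refine ⟨fun e => hm (h.commute_of_two_fixed hn hx hv hx1 hv1 hvx.symm hfx e), fun e => ?_⟩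
  refine hm (h.not_moves_of_sq hn (h.commute_of_two_fixed (mul_mem hn hn) hx hv hx1 hv1 hvx.symm ?_ ?_))
  · rw [show n * n * x * (n * n)⁻¹ = n * (n * x * n⁻¹) * n⁻¹ by group, hfx, hfx]
  · rw [show n * n * v * (n * n)⁻¹ = n * (n * v * n⁻¹) * n⁻¹ by group, e, ← conj_mul, hfx, e,
      ← mul_assoc, h.sq x hx, one_mul]

/-- Such an element moves the lines through its fixed point. -/
theorem line_moved {n x : G} (hn : n ∈ normalizer (T : Set G)) (hm : Moves T n) (hx1 : x ≠ 1)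
    (hfx : n * x * n⁻¹ = x) {ℓ : Subgroup G} (hl : IsLine T ℓ) (hxl : x ∈ ℓ) :
    ℓ.map (MulAut.conj n).toMonoidHom ≠ ℓ := by
  intro e
  obtain ⟨u, hu, hu1, v, hv, hv1, hne⟩ := hl.exists_two
  obtain ⟨w, hw, hw1, hwx⟩ : ∃ w ∈ ℓ, w ≠ 1 ∧ w ≠ x := by
    by_cases hux : u = x
    · exact ⟨v, hv, hv1, hux ▸ hne⟩
    · exact ⟨u, hu, hu1, hux⟩
  have hnw : n * w * n⁻¹ ∈ ℓ := by rw [← e]; exact ⟨w, hw, rfl⟩
  obtain ⟨h1, h2⟩ := h.moves_other hn hm (hl.1 hxl) hx1 hfx (hl.1 hw) hw1 hwx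
  rw [h.eq_lineOf hl hxl hw hx1 hw1 hwx.symm, h.mem_lineOf (hl.1 hxl) (hl.1 hw)] at hnw
  rcases hnw with h3 | h3 | h3 | h3
  · exact hw1 (by simpa using (mul_inv_eq_one.1 h3 : n * w = n))
  · exact hwx (mul_left_cancel (mul_right_cancel (h3.trans hfx.symm)))
  · exact h1 h3
  · exact h2 h3

/-- If a line and its images share an involution, it is fixed. -/
theorem fixed_of_common {n t : G} (hn : n ∈ normalizer (T : Set G)) {ℓ : Subgroup G} (hl : IsLine T ℓ)
    (ht1 : t ≠ 1) (hmove : ℓ.map (MulAut.conj n).toMonoidHom ≠ ℓ) (h0 : t ∈ ℓ)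
    (h1 : t ∈ ℓ.map (MulAut.conj n).toMonoidHom)
    (h2 : t ∈ (ℓ.map (MulAut.conj n).toMonoidHom).map (MulAut.conj n).toMonoidHom) :
    n * t * n⁻¹ = t := by
  have hl1 := h.line_map hl hn
  have hne : (ℓ.map (MulAut.conj n).toMonoidHom).map (MulAut.conj n).toMonoidHom ≠
      ℓ.map (MulAut.conj n).toMonoidHom := fun e => hmove (map_injective (MulAut.conj n).injective e)
  refine h.meet_unique (h.line_map hl1 hn) hl1 hne h2 h1 ht1 ⟨t, h1, rfl⟩ ⟨t, h0, rfl⟩ fun e => ht1 ?_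
  exact mul_eq_left.1 (mul_inv_eq_one.1 e)

/-- The three lines through a fixed point are permuted transitively. -/
theorem lines_through {n x : G} (hn : n ∈ normalizer (T : Set G)) (hm : Moves T n) (hx1 : x ≠ 1)
    (hfx : n * x * n⁻¹ = x) {a b : Subgroup G} (ha : IsLine T a) (hb : IsLine T b) (hxa : x ∈ a)
    (hxb : x ∈ b) :
    b = a ∨ b = a.map (MulAut.conj n).toMonoidHom ∨
      b = (a.map (MulAut.conj n).toMonoidHom).map (MulAut.conj n).toMonoidHom := by
  set a₁ := a.map (MulAut.conj n).toMonoidHom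
  set a₂ := a₁.map (MulAut.conj n).toMonoidHom
  have hl1 : IsLine T a₁ := h.line_map ha hn
  have hl2 : IsLine T a₂ := h.line_map hl1 hn
  have hxa1 : x ∈ a₁ := ⟨x, hxa, hfx⟩
  have hxa2 : x ∈ a₂ := ⟨x, hxa1, hfx⟩
  have hn1 : a₁ ≠ a := h.line_moved hn hm hx1 hfx ha hxa
  have hn2 : a₂ ≠ a₁ := h.line_moved hn hm hx1 hfx hl1 hxa1
  have hn3 : a₂ ≠ a := by
    intro e
    refine h.line_moved (mul_mem hn hn) (fun hc => hm (h.not_moves_of_sq hn hc)) hx1
      (by rw [show n * n * x * (n * n)⁻¹ = n * (n * x * n⁻¹) * n⁻¹ by group, hfx, hfx]) ha hxa ?_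
    refine Eq.trans ?_ e
    show a.map (MulAut.conj (n * n)).toMonoidHom = (a.map (MulAut.conj n).toMonoidHom).map (MulAut.conj n).toMonoidHom
    rw [map_map]
    congr 1
    ext y
    simp [MulAut.conj_apply, mul_assoc]
  obtain ⟨u, hu, hu1, v, hv, hv1, hne⟩ := hb.exists_two
  obtain ⟨w, hw, hw1, hwx⟩ : ∃ w ∈ b, w ≠ 1 ∧ w ≠ x := by
    by_cases hux : u = x
    · exact ⟨v, hv, hv1, hux ▸ hne⟩
    · exact ⟨u, hu, hu1, hux⟩
  by_contra hnot
  simp only [not_or] at hnot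
  obtain ⟨hba, hb1, hb2⟩ := hnot
  have key : ∀ {m : Subgroup G}, IsLine T m → x ∈ m → b ≠ m → w ∉ m := fun hm' hxm hbm hwm =>
    hbm (h.line_ext hb hm' hxb hw hxm hwm hx1 hw1 hwx.symm)
  -- a fourth line through `x` would give a ninth element
  obtain ⟨d, hd, hda, hd1⟩ : ∃ d ∈ a₁, d ∉ a ∧ d ≠ 1 := by
    obtain ⟨p, hp, hp1, q, hq, hq1, hpq⟩ := hl1.exists_two
    by_contra hn'
    push Not at hn'
    refine hn1 (h.line_ext hl1 ha hp hq ?_ ?_ hp1 hq1 hpq.symm)
    · by_contra e; exact hp1 (hn' p hp e)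
    · by_contra e; exact hq1 (hn' q hq e)
  have hwa := key ha hxa hba
  have h1 := (h.mem_or_coset ha (hl1.1 hd) hda (hb.1 hw)).resolve_left hwa
  obtain ⟨e, he, hea⟩ : ∃ e ∈ a₂, e ∉ a := by
    by_contra hn'
    push Not at hn'
    exact hn3 (eq_of_le_of_card_ge hn' (by rw [hl2.2, ha.2]))
  have h2 := (h.mem_or_coset ha (hl1.1 hd) hda (hl2.1 he)).resolve_left hea
  -- `d * w` and `d * e` lie in `a` but outside `⟨x⟩`
  have aux : ∀ {y : G}, y ∈ T → y ∉ a₁ → d * y ∈ a → d * y ≠ 1 ∧ d * y ≠ x := fun {y} hy hy1 _ =>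
    ⟨fun e' => hy1 (by
      rw [show y = d from (inv_eq_of_mul_eq_one_right e').symm.trans (h.inv_eq (hl1.1 hd))]; exact hd),
     fun e' => hy1 (by
      rw [show y = d * x by rw [← e', ← mul_assoc, h.sq d (hl1.1 hd), one_mul]]
      exact mul_mem hd hxa1)⟩
  have hea1 : e ∉ a₁ := fun h3 => by
    have hex : e ≠ x := fun e' => hea (e' ▸ hxa)
    have he1 : e ≠ 1 := fun e' => hea (e' ▸ one_mem a)
    exact hn2 (h.line_ext hl2 hl1 hxa2 he hxa1 h3 hx1 he1 hex.symm)
  obtain ⟨hw'1, hw'x⟩ := aux (hb.1 hw) (key hl1 hxa1 hb1) h1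
  obtain ⟨he'1, he'x⟩ := aux (hl2.1 he) hea1 h2
  rw [h.eq_lineOf ha hxa h2 hx1 he'1 he'x.symm, h.mem_lineOf (ha.1 hxa) (ha.1 h2)] at h1
  rcases h1 with h3 | h3 | h3 | h3
  · exact hw'1 h3
  · exact hw'x h3
  · exact key hl2 hxa2 hb2 (mul_left_cancel h3 ▸ he)
  · refine key hl2 hxa2 hb2 ?_
    rw [← mul_assoc, (h.comm (ha.1 hxa) (hl1.1 hd)).eq, mul_assoc] at h3
    rw [mul_left_cancel h3]
    exact mul_mem hxa2 he

/-- Either `M ⊓ N(T)` is transitive on the involutions of `T`, or it fixes one of them. -/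
theorem transitive_or_fixed {M : Subgroup G} (hTM : T ≤ M) :
    TransitiveIn T M ∨ ∃ x ∈ T, x ≠ 1 ∧ FixedIn T M x := by
  classical
  by_cases hfix : ∃ x ∈ T, x ≠ 1 ∧ FixedIn T M x
  · exact Or.inr hfix
  left
  set A := M ⊓ normalizer (T : Set G) with hA
  letI : MulAction ↥A G := MulAction.compHom G (MulAut.conj.comp A.subtype)
  have hsmul : ∀ (a : ↥A) (y : G), a • y = (a : G) * y * (a : G)⁻¹ := fun a y => rfl
  set U : Set G := (T : Set G) \ {1} with hU
  have hU7 : U.ncard = 7 := by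
    rw [hU, Set.ncard_diff_singleton_of_mem (one_mem T), ← Nat.card_coe_set_eq, SetLike.coe_sort_coe, h.card]
  have horb : ∀ y ∈ T, y ≠ 1 → (MulAction.orbit A y) ⊆ U ∧ Odd (MulAction.orbit A y).ncard ∧
      (MulAction.orbit A y).ncard ≠ 1 := by
    intro y hy hy1
    refine ⟨?_, ?_, fun h1 => hfix ⟨y, hy, hy1, fun n hn hn' => ?_⟩⟩
    · rintro _ ⟨a, rfl⟩
      refine ⟨h.conj_mem (mem_inf.1 a.2).2 hy, fun e => hy1 ?_⟩
      exact mul_eq_left.1 (mul_inv_eq_one.1 (e : (a : G) * y * (a : G)⁻¹ = 1))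
    · rw [← MulAction.index_stabilizer]
      have hle : T.subgroupOf A ≤ MulAction.stabilizer A y := fun a ha => by
        rw [MulAction.mem_stabilizer_iff, hsmul, (h.comm (mem_subgroupOf.1 ha) hy).eq, mul_inv_cancel_right]
      exact (h.odd_relIndex (le_refl T) (le_inf hTM le_normalizer)).of_dvd_nat (index_dvd_of_le hle)
    · obtain ⟨z, hz⟩ := Set.ncard_eq_one.1 h1
      have e1 : (⟨n, hn, hn'⟩ : A) • y ∈ MulAction.orbit A y := ⟨_, rfl⟩
      have e2 := MulAction.mem_orbit_self (M := A) y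
      rw [hz, Set.mem_singleton_iff] at e1 e2
      exact e1.trans e2.symm
  intro x hx hx1 y hy hy1
  have hxy : y ∈ MulAction.orbit A x := by
    by_contra hnot
    obtain ⟨hs, ho, ho1⟩ := horb x hx hx1
    obtain ⟨hs', ho', ho1'⟩ := horb y hy hy1
    have hd : Disjoint (MulAction.orbit A x) (MulAction.orbit A y) :=
      Set.disjoint_left.2 fun z hz hz' => hnot (by
        rw [← MulAction.orbit_eq_iff.2 hz, MulAction.orbit_eq_iff.2 hz']
        exact MulAction.mem_orbit_self y)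
    have hsum := Set.ncard_union_eq hd
    by_cases hall : U ⊆ MulAction.orbit A x ∪ MulAction.orbit A y
    · rw [(Set.union_subset hs hs').antisymm hall, hU7] at hsum
      obtain ⟨i, hi⟩ := ho
      obtain ⟨j, hj⟩ := ho'
      omega
    obtain ⟨z, hz, hzn⟩ := Set.not_subset.1 hall
    obtain ⟨hs'', ho'', ho1''⟩ := horb z hz.1 hz.2
    have hd' : Disjoint (MulAction.orbit A x ∪ MulAction.orbit A y) (MulAction.orbit A z) :=
      Set.disjoint_left.2 fun w hw hw' => hzn (by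
        rcases hw with hw | hw
        · exact Or.inl (by rw [← MulAction.orbit_eq_iff.2 hw, MulAction.orbit_eq_iff.2 hw']
                           exact MulAction.mem_orbit_self z)
        · exact Or.inr (by rw [← MulAction.orbit_eq_iff.2 hw, MulAction.orbit_eq_iff.2 hw']
                           exact MulAction.mem_orbit_self z))
    have hsum' := Set.ncard_union_eq hd'
    have hle := Set.ncard_le_ncard (Set.union_subset (Set.union_subset hs hs') hs'')
    rw [hsum', hsum, hU7] at hle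
    obtain ⟨i, hi⟩ := ho
    obtain ⟨j, hj⟩ := ho'
    obtain ⟨l, hl⟩ := ho''
    omega
  obtain ⟨a, ha⟩ := hxy
  exact ⟨a, (mem_inf.1 a.2).1, (mem_inf.1 a.2).2, ha⟩

end Eight

end CfsgLib.EightCore
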