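import Cfsg.Agent.EightCore.Defs
import Cfsg.Agent.Solvable.CoprimeAct
import Cfsg.Agent.Signalizer.Basic

/-!
# Simple groups with Sylow 2-subgroups elementary of order eight: the group `T` and its lines
-/

set_option autoImplicit false
set_option linter.unusedSectionVars false
set_option linter.style.haveILetI false

namespace CfsgLib.EightCore

open Subgroup

universe u

variable {G : Type u} [Group G] [Finite G] {T : Subgroup G}

namespace Eight

variable (h : Eight T)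

include h

theorem inv_eq {x : G} (hx : x ∈ T) : x⁻¹ = x := inv_eq_of_mul_eq_one_right (h.sq x hx)

theorem comm {x y : G} (hx : x ∈ T) (hy : y ∈ T) : Commute x y := by
  have := h.inv_eq (mul_mem hx hy)
  rw [mul_inv_rev, h.inv_eq hx, h.inv_eq hy] at this
  exact this.symm

theorem orderOf_eq_two {x : G} (hx : x ∈ T) (h1 : x ≠ 1) : orderOf x = 2 :=
  orderOf_eq_prime (by rw [pow_two]; exact h.sq x hx) h1

theorem isPGroup : IsPGroup 2 T := fun x => ⟨1, Subtype.ext (by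
  rw [pow_one, SubmonoidClass.coe_pow, pow_two]; exact h.sq x x.2)⟩

theorem le_centralizer : T ≤ centralizer (T : Set G) := fun x hx =>
  mem_centralizer_iff.2 fun y hy => h.comm hy hx

theorem elem : Cfsg.IsElementaryAbelian 2 T :=
  ⟨⟨⟨fun a b => Subtype.ext (h.comm a.2 b.2)⟩⟩, fun x hx => by rw [pow_two]; exact h.sq x hx⟩

theorem sq_two_le : 2 ^ 2 ≤ Nat.card T := by rw [h.card]; norm_num

/-- An element of odd order of `T` is trivial. -/
theorem eq_one_of_odd {x : G} (hx : x ∈ T) (ho : Odd (orderOf x)) : x = 1 := by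
  by_contra h1
  rw [h.orderOf_eq_two hx h1] at ho
  exact absurd ho (by decide)

/-- `T` is a Sylow subgroup of every subgroup above it. -/
theorem sylowIn {M : Subgroup G} (hTM : T ≤ M) :
    ∃ S : Sylow 2 M, (S : Subgroup M) = T.subgroupOf M := by
  obtain ⟨S, hS⟩ := h.sylow
  subst hS
  exact ⟨S.subtype hTM, rfl⟩

theorem odd_index_of_le {M : Subgroup G} (hTM : T ≤ M) : Odd M.index := by
  haveI : Fact (Nat.Prime 2) := ⟨Nat.prime_two⟩
  obtain ⟨S, hS⟩ := h.sylow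
  subst hS
  rw [← Nat.not_even_iff_odd, even_iff_two_dvd]
  exact fun hd => S.not_dvd_index (hd.trans (index_dvd_of_le hTM))

theorem odd_relIndex {A B : Subgroup G} (hTA : T ≤ A) (hAB : A ≤ B) : Odd (A.relIndex B) :=
  (h.odd_index_of_le hTA).of_dvd_nat (relIndex_mul_index hAB ▸ dvd_mul_right _ _)

end Eight

/-! ### Lines -/

theorem IsLine.exists_two {ℓ : Subgroup G} (hl : IsLine T ℓ) :
    ∃ u ∈ ℓ, u ≠ 1 ∧ ∃ v ∈ ℓ, v ≠ 1 ∧ v ≠ u := by
  haveI : Nontrivial ℓ := Finite.one_lt_card_iff_nontrivial.1 (by rw [hl.2]; norm_num)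
  obtain ⟨u, hu⟩ := exists_ne (1 : ℓ)
  by_contra hn
  push Not at hn
  have hn' : ∀ v : ℓ, v = 1 ∨ v = u := fun v => by
    by_cases hv : (v : G) = 1
    · exact Or.inl (Subtype.ext hv)
    · exact Or.inr (Subtype.ext (hn u u.2 (fun e => hu (Subtype.ext e)) v v.2 hv))
  have h4 : Nat.card ℓ ≤ 2 := by
    refine le_trans (Nat.card_le_card_of_surjective (fun b : Bool => if b then u else 1) fun v => ?_)
      (by rw [Nat.card_eq_fintype_card, Fintype.card_bool])
    rcases hn' v with e | e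
    · exact ⟨false, e.symm⟩
    · exact ⟨true, e.symm⟩
  rw [hl.2] at h4
  omega

namespace Eight

variable (h : Eight T)

include h

/-- The line through two involutions of `T`. -/
def lineOf (_h : Eight T) (u v : G) : Subgroup G := zpowers u ⊔ zpowers v

theorem mem_lineOf {u v x : G} (hu : u ∈ T) (hv : v ∈ T) :
    x ∈ h.lineOf u v ↔ x = 1 ∨ x = u ∨ x = v ∨ x = u * v := by
  constructor
  · intro hx
    have hcomm := (h.comm hu hv).eq
    let K : Subgroup G :=
      { carrier := {x | x = 1 ∨ x = u ∨ x = v ∨ x = u * v}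
        one_mem' := Or.inl rfl
        mul_mem' := by
          have e1 : u * (u * v) = v := by rw [← mul_assoc, h.sq u hu, one_mul]
          have e2 : v * (u * v) = u := by rw [hcomm, ← mul_assoc, h.sq v hv, one_mul]
          have e3 : u * v * u = v := by rw [hcomm, mul_assoc, h.sq u hu, mul_one]
          have e4 : u * v * v = u := by rw [mul_assoc, h.sq v hv, mul_one]
          have e5 : u * v * (u * v) = 1 := h.sq _ (mul_mem hu hv)
          rintro a b (ha | ha | ha | ha) (hb | hb | hb | hb) <;> rw [ha, hb] <;>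
            simp [h.sq u hu, h.sq v hv, e1, e2, e3, e4, e5, hcomm.symm]
        inv_mem' := by
          rintro a (rfl | rfl | rfl | rfl)
          · exact Or.inl inv_one
          · exact Or.inr (Or.inl (h.inv_eq hu))
          · exact Or.inr (Or.inr (Or.inl (h.inv_eq hv)))
          · exact Or.inr (Or.inr (Or.inr (h.inv_eq (mul_mem hu hv)))) }
    exact (sup_le (zpowers_le.2 (Or.inr (Or.inl rfl))) (zpowers_le.2 (Or.inr (Or.inr (Or.inl rfl)))) :
      h.lineOf u v ≤ K) hx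
  · rintro (rfl | rfl | rfl | rfl)
    exacts [one_mem _, mem_sup_left (mem_zpowers _), mem_sup_right (mem_zpowers _),
      mul_mem (mem_sup_left (mem_zpowers _)) (mem_sup_right (mem_zpowers _))]

theorem lineOf_le {u v : G} (hu : u ∈ T) (hv : v ∈ T) : h.lineOf u v ≤ T :=
  sup_le (zpowers_le.2 hu) (zpowers_le.2 hv)

theorem isLine_lineOf {u v : G} (hu : u ∈ T) (hv : v ∈ T) (hu1 : u ≠ 1) (hv1 : v ≠ 1) (hne : u ≠ v) :
    IsLine T (h.lineOf u v) := by
  refine ⟨h.lineOf_le hu hv, ?_⟩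
  classical
  have hs : (h.lineOf u v : Set G) = ↑({1, u, v, u * v} : Finset G) := by
    ext x; simp [h.mem_lineOf hu hv]
  have h3 : u * v ≠ 1 := fun e => hne (by
    rw [← h.inv_eq hv]; exact eq_inv_of_mul_eq_one_left e)
  have h4 : u * v ≠ u := fun e => hv1 (mul_eq_left.1 e)
  have h5 : u * v ≠ v := fun e => hu1 (mul_eq_right.1 e)
  rw [← SetLike.coe_sort_coe, Nat.card_coe_set_eq, hs, Set.ncard_coe_finset]
  simp [hu1.symm, hv1.symm, h3.symm, hne, h4.symm, h5.symm]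

theorem eq_lineOf {ℓ : Subgroup G} (hl : IsLine T ℓ) {u v : G} (hu : u ∈ ℓ) (hv : v ∈ ℓ) (hu1 : u ≠ 1)
    (hv1 : v ≠ 1) (hne : u ≠ v) : ℓ = h.lineOf u v := by
  refine (eq_of_le_of_card_ge (sup_le (zpowers_le.2 hu) (zpowers_le.2 hv)) ?_).symm
  rw [hl.2]
  exact (h.isLine_lineOf (hl.1 hu) (hl.1 hv) hu1 hv1 hne).2.ge

theorem line_ext {ℓ m : Subgroup G} (hl : IsLine T ℓ) (hm : IsLine T m) {u v : G} (hu : u ∈ ℓ)
    (hv : v ∈ ℓ) (hu' : u ∈ m) (hv' : v ∈ m) (hu1 : u ≠ 1) (hv1 : v ≠ 1) (hne : u ≠ v) : ℓ = m := by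
  rw [h.eq_lineOf hl hu hv hu1 hv1 hne, h.eq_lineOf hm hu' hv' hu1 hv1 hne]

theorem exists_not_mem {ℓ : Subgroup G} (hl : IsLine T ℓ) : ∃ d ∈ T, d ∉ ℓ := by
  by_contra hn
  push Not at hn
  have := h.card
  rw [le_antisymm hn hl.1, hl.2] at this
  omega

/-- `T` is the union of a line and one of its cosets. -/
theorem mem_or_coset {ℓ : Subgroup G} (hl : IsLine T ℓ) {d : G} (hd : d ∈ T) (hdl : d ∉ ℓ) {x : G}
    (hx : x ∈ T) : x ∈ ℓ ∨ d * x ∈ ℓ := by
  by_contra hn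
  rw [not_or] at hn
  classical
  haveI := Fintype.ofFinite ↥ℓ
  haveI := Fintype.ofFinite ↥T
  let f : ↥ℓ ⊕ ↥ℓ → ↥T := Sum.elim (fun y => ⟨y, hl.1 y.2⟩) fun y => ⟨d * y, mul_mem hd (hl.1 y.2)⟩
  have hf : Function.Injective f := by
    rintro (a | a) (b | b) e <;> have e' := congrArg Subtype.val e <;> simp only [f, Sum.elim_inl,
      Sum.elim_inr] at e'
    · rw [Subtype.ext e']
    · exact absurd (mul_mem a.2 (inv_mem b.2)) (by rw [e', mul_inv_cancel_right]; exact hdl)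
    · exact absurd (mul_mem b.2 (inv_mem a.2)) (by rw [← e', mul_inv_cancel_right]; exact hdl)
    · rw [Subtype.ext (mul_left_cancel e')]
  have hs : ⟨x, hx⟩ ∉ Set.range f := by
    rintro ⟨a | a, e⟩ <;> have e' := congrArg Subtype.val e <;> simp only [f, Sum.elim_inl,
      Sum.elim_inr] at e'
    · exact hn.1 (e' ▸ a.2)
    · refine hn.2 ?_
      rw [← e', ← mul_assoc, h.sq d hd, one_mul]
      exact a.2
  have h1 := Fintype.card_lt_of_injective_of_notMem f hf hs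
  rw [Fintype.card_sum, ← Nat.card_eq_fintype_card, ← Nat.card_eq_fintype_card, hl.2, h.card] at h1
  omega

/-- Two lines meet. -/
theorem exists_meet {ℓ m : Subgroup G} (hl : IsLine T ℓ) (hm : IsLine T m) :
    ∃ x ∈ ℓ, x ∈ m ∧ x ≠ 1 := by
  obtain ⟨u, hu, hu1, v, hv, hv1, hne⟩ := hm.exists_two
  by_cases hul : u ∈ ℓ
  · exact ⟨u, hul, hu, hu1⟩
  rcases h.mem_or_coset hl (hm.1 hu) hul (hm.1 hv) with h1 | h1
  · exact ⟨v, h1, hv, hv1⟩
  · refine ⟨u * v, h1, mul_mem hu hv, fun e => hne ?_⟩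
    rw [← h.inv_eq (hm.1 hu)]
    exact eq_inv_of_mul_eq_one_right e

/-- Distinct lines meet only once. -/
theorem meet_unique {ℓ m : Subgroup G} (hl : IsLine T ℓ) (hm : IsLine T m) (hne : ℓ ≠ m) {x y : G}
    (hx : x ∈ ℓ) (hx' : x ∈ m) (hx1 : x ≠ 1) (hy : y ∈ ℓ) (hy' : y ∈ m) (hy1 : y ≠ 1) : y = x :=
  of_not_not fun e => hne (h.line_ext hl hm hy hx hy' hx' hy1 hx1 e)

/-- Conjugation by an element normalizing `T` permutes the lines. -/
theorem line_map {ℓ : Subgroup G} (hl : IsLine T ℓ) {n : G} (hn : n ∈ normalizer (T : Set G)) :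
    IsLine T (ℓ.map (MulAut.conj n).toMonoidHom) := by
  refine ⟨?_, by rw [Subgroup.card_map_of_injective (MulAut.conj n).injective, hl.2]⟩
  rintro _ ⟨y, hy, rfl⟩
  exact (mem_normalizer_iff.1 hn y).1 (hl.1 hy)

end Eight

/-! ### Inverted elements -/

namespace Eight

variable (h : Eight T)

include h

theorem mem_inverted_of {ℓ : Subgroup G} (hl : IsLine T ℓ) {a : G} (ho : Odd (orderOf a))
    (hc : ∀ y ∈ ℓ, Commute y a) {d : G} (hd : d ∈ T) (hdl : d ∉ ℓ) (hinv : d * a * d⁻¹ = a⁻¹) :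
    a ∈ inverted T ℓ := by
  refine ⟨ho, hc, fun x hx hxl => ?_⟩
  have hy := (h.mem_or_coset hl hd hdl hx).resolve_left hxl
  have e : x = d * (d * x) := by rw [← mul_assoc, h.sq d hd, one_mul]
  rw [e, mul_inv_rev]
  calc d * (d * x) * a * ((d * x)⁻¹ * d⁻¹) = d * (d * x * a * (d * x)⁻¹) * d⁻¹ := by group
    _ = a⁻¹ := by rw [(hc _ hy).eq, mul_inv_cancel_right]; exact hinv

theorem inverted_conj {ℓ : Subgroup G} {n a : G} (hn : n ∈ normalizer (T : Set G))
    (ha : a ∈ inverted T ℓ) :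
    n * a * n⁻¹ ∈ inverted T (ℓ.map (MulAut.conj n).toMonoidHom) := by
  refine ⟨?_, ?_, fun x hx hxl => ?_⟩
  · rw [← MulAut.conj_apply, MulEquiv.orderOf_eq]; exact ha.1
  · rintro _ ⟨y, hy, rfl⟩
    exact (Commute.conj_iff n).2 (ha.2.1 y hy)
  · have hd : n⁻¹ * x * n ∈ T := by
      have := (mem_normalizer_iff.1 (inv_mem hn) x).1 hx
      rwa [inv_inv] at this
    have hdl : n⁻¹ * x * n ∉ ℓ := fun hmem => hxl ⟨_, hmem, by simp [MulAut.conj_apply, mul_assoc]⟩
    calc x * (n * a * n⁻¹) * x⁻¹ = n * ((n⁻¹ * x * n) * a * (n⁻¹ * x * n)⁻¹) * n⁻¹ := by group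
      _ = (n * a * n⁻¹)⁻¹ := by rw [ha.2.2 _ hd hdl]; group

/-- An inverted element centralised by `T` is trivial. -/
theorem inverted_eq_one {ℓ : Subgroup G} (hl : IsLine T ℓ) {a : G} (ha : a ∈ inverted T ℓ)
    (hc : ∀ y ∈ T, Commute y a) : a = 1 := by
  obtain ⟨d, hd, hdl⟩ := h.exists_not_mem hl
  have h2 := ha.2.2 d hd hdl
  rw [(hc d hd).eq, mul_inv_cancel_right] at h2
  exact DGroup.eq_one_of_inv_eq h2.symm ha.1

theorem inverted_pow {ℓ : Subgroup G} {a : G} (ha : a ∈ inverted T ℓ) (n : ℕ) :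
    a ^ n ∈ inverted T ℓ :=
  ⟨ha.1.of_dvd_nat (orderOf_pow_dvd n), fun y hy => (ha.2.1 y hy).pow_right n, fun x hx hxl => by
    rw [← conj_pow, ha.2.2 x hx hxl, inv_pow]⟩

theorem one_mem_inverted (ℓ : Subgroup G) : (1 : G) ∈ inverted T ℓ :=
  ⟨by simp, fun y _ => Commute.one_right y, fun x _ _ => by simp⟩

end Eight

/-! ### Groups of odd order normalized by `T` -/

namespace Eight

variable (h : Eight T)

include h

/-- An element centralising a line is the product of an element centralising `T` and an inverted one. -/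
theorem exists_split {ℓ Y : Subgroup G} (hl : IsLine T ℓ) (hY : Odd (Nat.card Y))
    (hTY : T ≤ normalizer (Y : Set G)) {g : G} (hg : g ∈ Y) (hgl : ∀ y ∈ ℓ, Commute y g) :
    ∃ a ∈ Y, a ∈ inverted T ℓ ∧ ∃ c ∈ Y, (∀ y ∈ T, Commute y c) ∧ g = a * c := by
  obtain ⟨d, hd, hdl⟩ := h.exists_not_mem hl
  have hdd : d⁻¹ = d := h.inv_eq hd
  set X := Y ⊓ centralizer (ℓ : Set G) with hX
  have hdX : ∀ y ∈ X, d * y * d⁻¹ ∈ X := fun y hy => by
    obtain ⟨h1, h2⟩ := mem_inf.1 hy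
    refine mem_inf.2 ⟨(mem_normalizer_iff.1 (hTY hd) y).1 h1, mem_centralizer_iff.2 fun z hz => ?_⟩
    have h3 : Commute z y := mem_centralizer_iff.1 h2 z hz
    exact ((h.comm (hl.1 hz) hd).mul_right h3).mul_right (h.comm (hl.1 hz) hd).inv_right |>.eq
  have hgX : g ∈ X := mem_inf.2 ⟨hg, mem_centralizer_iff.2 fun y hy => (hgl y hy).eq⟩
  set b := g * (d * g * d⁻¹)⁻¹ with hb
  have hbX : b ∈ X := mul_mem hgX (inv_mem (hdX g hgX))
  have hbinv : d * b * d⁻¹ = b⁻¹ := by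
    rw [hb]
    calc d * (g * (d * g * d⁻¹)⁻¹) * d⁻¹ = d * g * d⁻¹ * (d * d * g⁻¹ * (d * d)⁻¹) := by group
      _ = (g * (d * g * d⁻¹)⁻¹)⁻¹ := by rw [h.sq d hd]; group
  have hbo : Odd (orderOf b) := DGroup.odd_orderOf hY (mem_inf.1 hbX).1
  obtain ⟨m, hm⟩ := id hbo
  have hb2 : b ^ (m + 1) * b ^ (m + 1) = b := by
    rw [← pow_add, show m + 1 + (m + 1) = orderOf b + 1 by omega, pow_succ, pow_orderOf_eq_one, one_mul]
  have hainv : d * b ^ (m + 1) * d⁻¹ = (b ^ (m + 1))⁻¹ := by rw [← conj_pow, hbinv, inv_pow]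
  have haX : b ^ (m + 1) ∈ X := pow_mem hbX _
  have hcl : ∀ y ∈ ℓ, Commute y (b ^ (m + 1)) := fun y hy =>
    mem_centralizer_iff.1 (mem_inf.1 haX).2 y hy
  refine ⟨b ^ (m + 1), (mem_inf.1 haX).1,
    h.mem_inverted_of hl (hbo.of_dvd_nat (orderOf_pow_dvd _)) hcl hd hdl hainv,
    (b ^ (m + 1))⁻¹ * g, mul_mem (inv_mem (mem_inf.1 haX).1) hg, fun y hy => ?_, by group⟩
  have hcd : Commute d ((b ^ (m + 1))⁻¹ * g) := by
    refine mul_inv_eq_iff_eq_mul.1 ?_
    calc d * ((b ^ (m + 1))⁻¹ * g) * d⁻¹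
        = (d * b ^ (m + 1) * d⁻¹)⁻¹ * (b⁻¹ * g) := by rw [hb]; group
      _ = b ^ (m + 1) * (b ^ (m + 1) * b ^ (m + 1))⁻¹ * g := by rw [hainv, hb2]; group
      _ = _ := by group
  have hcl' : ∀ z ∈ ℓ, Commute z ((b ^ (m + 1))⁻¹ * g) := fun z hz =>
    (hcl z hz).inv_right.mul_right (hgl z hz)
  rcases h.mem_or_coset hl hd hdl hy with h1 | h1
  · exact hcl' y h1
  · have := hcd.mul_left (hcl' _ h1)
    rwa [← mul_assoc, h.sq d hd, one_mul] at this

/-- A group of odd order normalised by `T` is generated by the centralisers of the lines. -/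
theorem le_of_lines {X Y : Subgroup G} (hX : Odd (Nat.card X)) (hTX : T ≤ normalizer (X : Set G))
    (hc : ∀ ℓ, IsLine T ℓ → X ⊓ centralizer (ℓ : Set G) ≤ Y) : X ≤ Y := by
  haveI : Fact (Nat.Prime 2) := ⟨Nat.prime_two⟩
  refine Signalizer.le_of_forall_hyperplane h.elem hTX
    (fun hd => Nat.not_even_iff_odd.2 hX (even_iff_two_dvd.2 hd)) fun B hB hi => ?_
  have hmul : B.relIndex T * Nat.card B = 8 := by
    rw [← h.card, ← relIndex_bot_left, ← relIndex_bot_left, mul_comm]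
    exact relIndex_mul_relIndex _ _ _ bot_le hB
  have hne : B.relIndex T ≠ 0 := fun e => by rw [e, zero_mul] at hmul; omega
  have h4 : 4 ≤ Nat.card B := by
    have : Nat.card B * B.relIndex T ≤ Nat.card B * 2 := Nat.mul_le_mul_left _ hi
    rw [mul_comm, hmul] at this
    omega
  obtain ⟨u, hu, hu1, v, hv, hv1, hne'⟩ : ∃ u ∈ B, u ≠ 1 ∧ ∃ v ∈ B, v ≠ 1 ∧ v ≠ u := by
    obtain ⟨u, hu, hu1⟩ := (Subgroup.bot_or_exists_ne_one B).resolve_left fun e => by
      rw [e, card_bot] at h4; omega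
    by_contra hn
    push Not at hn
    have hle : B ≤ zpowers u := fun v hv => by
      by_cases hv1 : v = 1
      · rw [hv1]; exact one_mem _
      · rw [hn u hu hu1 v hv hv1]; exact mem_zpowers u
    have := Subgroup.card_le_of_le hle
    rw [Nat.card_zpowers, h.orderOf_eq_two (hB hu) hu1] at this
    omega
  refine le_trans (inf_le_inf_left X (centralizer_le ?_))
    (hc _ (h.isLine_lineOf (hB hu) (hB hv) hu1 hv1 (Ne.symm hne')))
  exact sup_le (zpowers_le.2 hu) (zpowers_le.2 hv)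

/-- A group of odd order without inverted elements is centralised by `T`. -/
theorem commute_of_no_inverted {X : Subgroup G} (hX : Odd (Nat.card X))
    (hTX : T ≤ normalizer (X : Set G))
    (hc : ∀ ℓ, IsLine T ℓ → ∀ a ∈ X, a ∈ inverted T ℓ → a = 1) : X ≤ centralizer (T : Set G) :=
  h.le_of_lines hX hTX fun ℓ hl g hg => by
    obtain ⟨h1, h2⟩ := mem_inf.1 hg
    obtain ⟨a, ha, hai, c, -, hcT, rfl⟩ :=
      h.exists_split hl hX hTX h1 fun y hy => mem_centralizer_iff.1 h2 y hy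
    rw [hc ℓ hl a ha hai, one_mul]
    exact mem_centralizer_iff.2 fun y hy => (hcT y hy).eq

end Eight

end CfsgLib.EightCore
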