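import Cfsg.Agent.EqualOrder.Basic
import Cfsg.Agent.GWApps.Dihedral
import Cfsg.Agent.Transfer.Basic
import Cfsg.Agent.Solvable.Basics
import Mathlib.GroupTheory.SpecificGroups.Cyclic

/-!
# Lifting elements of prime order through a homomorphism
-/

set_option autoImplicit false
set_option linter.unusedSectionVars false
set_option linter.unusedVariables false
set_option linter.style.haveILetI false

namespace CfsgLib.EightCore

open Subgroup

universe u

variable {H : Type u} [Group H] [Finite H]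

theorem exists_ppart {r : ℕ} [hr : Fact r.Prime] {B : Type u} [Group B] (π : H →* B) {g : H}
    (hgo : orderOf (π g) = r) :
    ∃ m : ℕ, (∃ j, orderOf (g ^ m) = r ^ j) ∧ π (g ^ m) ≠ 1 := by
  obtain ⟨a, m, hm, ho⟩ := Nat.exists_eq_pow_mul_and_not_dvd (orderOf_pos g).ne' r hr.out.ne_one
  refine ⟨m, ⟨a, ?_⟩, fun h => hm ?_⟩
  · have hm0 : m ≠ 0 := fun e => hm (e ▸ dvd_zero r)
    rw [orderOf_pow_of_dvd hm0 (ho ▸ dvd_mul_left m _), ho, Nat.mul_div_cancel _ (Nat.pos_of_ne_zero hm0)]
  · rw [map_pow] at h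
    exact hgo ▸ orderOf_dvd_of_pow_eq_one h

theorem mulAut_cyclic_comm {Q : Type u} [Group Q] [Finite Q] [IsCyclic Q] (a b : MulAut Q) :
    a * b = b * a := by
  obtain ⟨x, hx⟩ := IsCyclic.exists_generator (α := Q)
  obtain ⟨i, hi⟩ := mem_zpowers_iff.1 (hx (a x))
  obtain ⟨j, hj⟩ := mem_zpowers_iff.1 (hx (b x))
  refine MulEquiv.ext fun y => ?_
  obtain ⟨k, rfl⟩ := mem_zpowers_iff.1 (hx y)
  show a (b (x ^ k)) = b (a (x ^ k))
  rw [map_zpow, map_zpow, map_zpow, map_zpow, ← hj, ← hi, map_zpow, map_zpow, ← hj, ← hi, ← zpow_mul,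
    ← zpow_mul, ← zpow_mul, ← zpow_mul, mul_left_comm]

/-- An element of prime order of a simple normal subgroup of a quotient lifts to one of the same order, if
the `r`-groups are cyclic or of exponent `r`. -/
theorem exists_lift_order {r : ℕ} [hr : Fact r.Prime] (hr2 : r ≠ 2) {B : Type u} [Group B] [Finite B]
    (π : H →* B) (hπ : Function.Surjective π) (M : Subgroup B) [M.Normal] [IsSimpleGroup ↥M]
    (hM : ¬ Group.IsSolvable ↥M) (hd : r ∣ Nat.card M)
    (hexp : EqOrder.RankOneAt r H ∨ ∀ x : H, (∃ j, orderOf x = r ^ j) → x ^ r = 1) :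
    ∃ h : H, orderOf h = r ∧ π h ∈ M ∧ π h ≠ 1 := by
  obtain ⟨⟨s, hs⟩, hso⟩ := exists_prime_orderOf_dvd_card' (G := M) r hd
  rw [Subgroup.orderOf_mk] at hso
  rcases hexp with h1 | hexp
  swap
  · obtain ⟨g, hg⟩ := hπ s
    obtain ⟨m, hmj, hm1⟩ := exists_ppart π (g := g) (r := r) (by rw [hg, hso])
    refine ⟨g ^ m, orderOf_eq_prime (hexp _ hmj) fun e => hm1 (by rw [e, map_one]), ?_, hm1⟩
    rw [map_pow, hg]; exact pow_mem hs m
  obtain ⟨Q⟩ : Nonempty (Sylow r π.ker) := inferInstance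
  set Q' := (Q : Subgroup π.ker).map π.ker.subtype with hQ'
  set N := normalizer (Q' : Set H) with hN
  have hNK : N ⊔ π.ker = ⊤ := Sylow.normalizer_sup_eq_top Q
  haveI : IsCyclic Q' := h1.isCyclic_of_odd hr2 (Q.2.map _)
  obtain ⟨L, hLn, hLp, hLs⟩ := GWApps.exists_perfect_residual ↥N
  haveI := hLn
  haveI := hLp
  have hsur : Function.Surjective (π.comp N.subtype) := fun b => by
    obtain ⟨x, rfl⟩ := hπ b
    have hx : x ∈ N ⊔ π.ker := hNK ▸ mem_top x
    obtain ⟨n, hn, k, hk, rfl⟩ := (Solvable.mem_sup_of_le_normalizer le_normalizer_of_normal).1 hx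
    exact ⟨⟨n, hn⟩, by rw [MonoidHom.comp_apply, map_mul, MonoidHom.mem_ker.1 hk, mul_one]; rfl⟩
  set I := L.map (π.comp N.subtype) with hI
  haveI : I.Normal := hLn.map _ hsur
  have hMI : M ≤ I := by
    rcases (inferInstance : IsSimpleGroup ↥M).eq_bot_or_eq_top_of_normal (I.subgroupOf M) inferInstance with hb | hb
    · exfalso
      apply hM
      haveI := hLs
      haveI : Group.IsSolvable (B ⧸ I) := by
        refine Group.isSolvable_of_surjective (f := QuotientGroup.map L I (π.comp N.subtype) fun l hl => ⟨l, hl, rfl⟩) ?_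
        intro b
        obtain ⟨b, rfl⟩ := QuotientGroup.mk'_surjective I b
        obtain ⟨n, rfl⟩ := hsur b
        exact ⟨(QuotientGroup.mk' L) n, rfl⟩
      refine Group.isSolvable_of_isSolvable_injective (f := (QuotientGroup.mk' I).comp M.subtype) ?_
      refine (injective_iff_map_eq_one _).2 fun m hm => ?_
      have : m ∈ I.subgroupOf M := mem_subgroupOf.2 ((QuotientGroup.eq_one_iff (m : B)).1 hm)
      rwa [hb, mem_bot] at this
    · exact subgroupOf_eq_top.1 hb
  obtain ⟨ℓ, hℓ, hℓs⟩ := hMI hs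
  obtain ⟨m, ⟨j, hj⟩, hm1⟩ := exists_ppart (π.comp N.subtype) (g := ℓ) (r := r) (by rw [hℓs, hso])
  have hhM : π ((ℓ ^ m : N) : H) ∈ M := by
    show (π.comp N.subtype) (ℓ ^ m) ∈ M
    rw [map_pow, hℓs]; exact pow_mem hs m
  have hj0 : j ≠ 0 := by
    rintro rfl
    exact hm1 (by rw [orderOf_eq_one_iff.1 (hj.trans (pow_zero r)), map_one])
  set y := (ℓ ^ m) ^ r ^ (j - 1) with hy
  have hyo : orderOf y = r := by
    rw [hy, orderOf_pow_of_dvd (pow_ne_zero _ hr.out.ne_zero)
      (by rw [hj]; exact pow_dvd_pow r (Nat.sub_le j 1)), hj, Nat.pow_div (Nat.sub_le j 1) hr.out.pos,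
      show j - (j - 1) = 1 by omega, pow_one]
  by_cases hy1 : π (y : H) = 1
  swap
  · refine ⟨y, by rw [Subgroup.orderOf_coe, hyo], ?_, hy1⟩
    rw [hy, SubmonoidClass.coe_pow, map_pow]; exact pow_mem hhM _
  exfalso
  -- `y` lies in the cyclic Sylow subgroup of the kernel, so is central in the perfect residual
  have hyQ : (y : H) ∈ Q' := by
    have hQk : Q' ≤ π.ker := map_subtype_le _
    have hyn : zpowers (y : H) ≤ N := zpowers_le.2 y.2
    have hyp : IsPGroup r ↥(zpowers (y : H) ⊔ Q') :=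
      (IsPGroup.of_card (n := 1) (by rw [Nat.card_zpowers, Subgroup.orderOf_coe, hyo, pow_one]) :
        IsPGroup r (zpowers (y : H))).to_sup_of_normal_right' (Q.2.map _) hyn
    have hle : zpowers (y : H) ⊔ Q' ≤ π.ker := sup_le (zpowers_le.2 hy1) hQk
    have h2 := Q.3 (hyp.comap_subtype (K := π.ker))
      (fun z hz => mem_sup_right (show (z : H) ∈ Q' from ⟨z, hz, rfl⟩))
    exact ⟨⟨y, hy1⟩, h2.le (mem_sup_left (mem_zpowers (y : H))), rfl⟩
  have hyc : ∀ l ∈ L, Commute (l : N) y := by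
    let ψ : ↥L →* MulAut Q' :=
      { toFun := fun l =>
          { toFun := fun q => ⟨(l : H) * q * (l : H)⁻¹, (mem_normalizer_iff.1 (l : N).2 q).1 q.2⟩
            invFun := fun q => ⟨(l : H)⁻¹ * q * (l : H), by
              have := (mem_normalizer_iff.1 (inv_mem (l : N).2) q).1 q.2
              rwa [inv_inv] at this⟩
            left_inv := fun q => Subtype.ext (by group)
            right_inv := fun q => Subtype.ext (by group)
            map_mul' := fun a b => Subtype.ext (by simp [mul_assoc]) }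
        map_one' := MulEquiv.ext fun q => Subtype.ext (by simp)
        map_mul' := fun a b => MulEquiv.ext fun q => Subtype.ext (by simp [mul_assoc]) }
    have hker : ψ.ker = ⊤ := by
      refine eq_top_iff.2 ?_
      rw [← Group.IsPerfect.commutator_eq_top (G := ↥L), _root_.commutator_def, commutator_le]
      intro a _ b _
      rw [MonoidHom.mem_ker, map_commutatorElement, commutatorElement_eq_one_iff_mul_comm]
      exact mulAut_cyclic_comm _ _
    intro l hl
    have h1' : ψ ⟨l, hl⟩ = 1 := MonoidHom.mem_ker.1 (hker ▸ mem_top (⟨l, hl⟩ : L))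
    have h2 := congrArg Subtype.val (DFunLike.congr_fun h1' ⟨(y : H), hyQ⟩)
    exact Subtype.ext (mul_inv_eq_iff_eq_mul.1 h2)
  have hyL : y ∈ L := pow_mem (pow_mem hℓ m) _
  obtain ⟨R, hR⟩ := (IsPGroup.of_card (n := 1) (by rw [Nat.card_zpowers, Subgroup.orderOf_mk, hyo, pow_one]) :
    IsPGroup r (zpowers (⟨y, hyL⟩ : L))).exists_le_sylow
  have hRc : IsMulCommutative (R : Subgroup L) := by
    haveI : IsCyclic ((R : Subgroup L).map (N.subtype.comp L.subtype)) := h1.isCyclic_of_odd hr2 (R.2.map _)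
    haveI : IsCyclic (R : Subgroup L) :=
      ((R : Subgroup L).equivMapOfInjective (N.subtype.comp L.subtype)
        (N.subtype_injective.comp L.subtype_injective)).isCyclic.2 inferInstance
    infer_instance
  have hmem : (⟨y, hyL⟩ : L) ∈ (R : Subgroup L) ⊓ commutator L ⊓ center L :=
    ⟨⟨hR (mem_zpowers _), (Group.IsPerfect.commutator_eq_top (G := ↥L)).symm ▸ mem_top _⟩,
      mem_center_iff.2 fun l => Subtype.ext (hyc l l.2).eq⟩
  rw [TransferBasic.inf_center_inf_commutator_eq_bot (P := R) hRc, mem_bot] at hmem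
  have h3 : y = 1 := congrArg Subtype.val hmem
  rw [h3, orderOf_one] at hyo
  exact hr.out.ne_one hyo.symm

end CfsgLib.EightCore
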