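import Cfsg.Agent.EightCore.AutConj

/-!
# Simple groups with Sylow 2-subgroups elementary of order eight: `p`-elements and the lines
-/

set_option autoImplicit false
set_option linter.unusedSectionVars false
set_option linter.style.haveILetI false
set_option linter.unusedVariables false

namespace CfsgLib.EightCore

open Subgroup

universe u

/-- No element of order `p` centralises `T`. -/
def NoFixed {X : Type u} [Group X] (T : Subgroup X) (p : ℕ) : Prop :=
  ∀ c : X, orderOf c = p → ¬ ∀ v ∈ T, Commute v c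

/-- Two commuting elements of order `p` inverted on two lines. -/
def TwoLine {X : Type u} [Group X] (T : Subgroup X) (p : ℕ) : Prop :=
  ∃ ℓ m : Subgroup X, IsLine T ℓ ∧ IsLine T m ∧ ℓ ≠ m ∧ ∃ a b : X,
    a ∈ inverted T ℓ ∧ b ∈ inverted T m ∧ orderOf a = p ∧ orderOf b = p ∧ Commute a b

variable {X : Type u} [Group X] [Finite X] {T : Subgroup X} {p : ℕ} [hp : Fact p.Prime]

theorem conj_mem_zpowers {a b : X} (h : ∀ i : ℤ, b * a ^ i * b⁻¹ ∈ zpowers a) :
    ∀ u ∈ zpowers a, b * u * b⁻¹ ∈ zpowers a := fun u hu => by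
  obtain ⟨i, rfl⟩ := mem_zpowers_iff.1 hu
  exact h i

namespace Eight

variable (hT : Eight T)

include hT

theorem normalizes_zpowers {ℓ : Subgroup X} (hl : IsLine T ℓ) {a : X} (ha : a ∈ inverted T ℓ) :
    T ≤ normalizer (zpowers a : Set X) :=
  Signalizer.le_normalizer_of_conj_mem fun v hv => conj_mem_zpowers fun i => by
    rw [← conj_zpow]
    refine zpow_mem ?_ i
    by_cases hvl : v ∈ ℓ
    · rw [(ha.2.1 v hvl).eq, mul_inv_cancel_right]; exact mem_zpowers a
    · rw [ha.2.2 v hv hvl]; exact inv_mem (mem_zpowers a)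

/-- The 2-part of the centraliser of an inverted element. -/
theorem weight_card {ℓ : Subgroup X} (hl : IsLine T ℓ) {a : X} (ha : a ∈ inverted T ℓ) (ha1 : a ≠ 1) :
    T ⊓ centralizer (zpowers a : Set X) = ℓ := by
  refine le_antisymm (fun v hv => by_contra fun hvl => ha1 ?_) fun v hv =>
    mem_inf.2 ⟨hl.1 hv, mem_centralizer_zpowers (ha.2.1 v hv).symm⟩
  have h1 : Commute a v := mem_centralizer_iff.1 (mem_inf.1 hv).2 a (mem_zpowers a)
  have h2 := ha.2.2 v (mem_inf.1 hv).1 hvl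
  rw [h1.symm.eq, mul_inv_cancel_right] at h2
  exact DGroup.eq_one_of_inv_eq h2.symm ha.1

theorem weight_four {ℓ : Subgroup X} (hl : IsLine T ℓ) {a : X} (ha : a ∈ inverted T ℓ) (ha1 : a ≠ 1) :
    4 ∣ Nat.card (centralizer (zpowers a : Set X)) ∧ ¬ 8 ∣ Nat.card (centralizer (zpowers a : Set X)) := by
  refine ⟨(hT.dvd_centralizer_iff (hT.normalizes_zpowers hl ha) 2).2 ?_,
    fun h8 => absurd ((hT.dvd_centralizer_iff (hT.normalizes_zpowers hl ha) 3).1 h8) ?_⟩
  · rw [hT.weight_card hl ha ha1, hl.2]; norm_num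
  · rw [hT.weight_card hl ha ha1, hl.2]; norm_num

/-- An element of odd order centralised by `ℓ` and inverted elements give a power of order `p`. -/
theorem exists_pow_weight {ℓ : Subgroup X} {a : X} (ha : a ∈ inverted T ℓ) (ha1 : a ≠ 1) {k : ℕ}
    (hk : orderOf a = p ^ k) : ∃ i : ℕ, a ^ i ∈ inverted T ℓ ∧ orderOf (a ^ i) = p := by
  have hk0 : k ≠ 0 := by rintro rfl; exact ha1 (orderOf_eq_one_iff.1 (hk.trans (pow_zero p)))
  refine ⟨p ^ (k - 1), hT.inverted_pow ha _, ?_⟩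
  rw [orderOf_pow_of_dvd (pow_ne_zero _ hp.out.ne_zero) (by rw [hk]; exact pow_dvd_pow p (Nat.sub_le k 1)),
    hk, Nat.pow_div (Nat.sub_le k 1) hp.out.pos, show k - (k - 1) = 1 by omega, pow_one]

/-- If an element of order `p` is inverted on a line, none centralises `T`. -/
theorem noFixed_of_weight (hA : AutConj X) {ℓ : Subgroup X} (hl : IsLine T ℓ) {a : X}
    (ha : a ∈ inverted T ℓ) (hap : orderOf a = p) : NoFixed T p := by
  intro c hc hcT
  have ha1 : a ≠ 1 := fun e => by rw [e, orderOf_one] at hap; exact hp.out.ne_one hap.symm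
  have h := hA.card_centralizer (p := p) (A := zpowers a) (B := zpowers c)
    (IsPGroup.of_card (n := 1) (by rw [Nat.card_zpowers, hap, pow_one]))
    (IsPGroup.of_card (n := 1) (by rw [Nat.card_zpowers, hc, pow_one])) inferInstance inferInstance
    (by rw [Nat.card_zpowers, Nat.card_zpowers, hap, hc])
  refine (hT.weight_four hl ha ha1).2 (h ▸ ?_)
  rw [← hT.card]
  exact card_dvd_of_le fun v hv => mem_centralizer_zpowers (hcT v hv).symm

/-- A `T`-invariant `p`-group centralised by no element of order `p` has an inverted one. -/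
theorem exists_weight {Y : Subgroup X} (hp2 : p ≠ 2) (hY : IsPGroup p Y) (hY1 : Y ≠ ⊥)
    (hTY : T ≤ normalizer (Y : Set X)) (hN : NoFixed T p) :
    ∃ ℓ : Subgroup X, IsLine T ℓ ∧ ∃ a ∈ Y, a ∈ inverted T ℓ ∧ orderOf a = p := by
  obtain ⟨n, hn⟩ := IsPGroup.iff_card.1 hY
  have hodd : Odd (Nat.card Y) := hn ▸ (hp.out.odd_of_ne_two hp2).pow
  by_contra hcon
  push Not at hcon
  have hle := hT.commute_of_no_inverted hodd hTY fun ℓ hl a ha hai => by
    by_contra ha1
    obtain ⟨k, hk⟩ := IsPGroup.iff_orderOf.1 hY ⟨a, ha⟩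
    rw [Subgroup.orderOf_mk] at hk
    obtain ⟨i, hi, hio⟩ := hT.exists_pow_weight hai ha1 hk
    exact hcon ℓ hl _ (pow_mem ha i) hi hio
  obtain ⟨⟨c, hc⟩, hco⟩ := exists_prime_orderOf_dvd_card' (G := Y) p (by
    rw [hn]
    exact dvd_pow_self p fun e => hY1 (eq_bot_of_card_eq _ (by rw [hn, e, pow_zero])))
  rw [Subgroup.orderOf_mk] at hco
  exact hN c hco fun v hv => mem_centralizer_iff.1 (hle hc) v hv

/-- Weights on two lines in one `p`-group give two commuting ones. -/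
theorem twoLine_of_weights {Q : Subgroup X} (hp2 : p ≠ 2) (hQ : IsPGroup p Q) (hTQ : T ≤ normalizer (Q : Set X))
    (hN : NoFixed T p) {ℓ m : Subgroup X} (hl : IsLine T ℓ) (hm : IsLine T m) (hne : ℓ ≠ m) {a b : X}
    (ha : a ∈ Q) (hai : a ∈ inverted T ℓ) (ha1 : a ≠ 1) (hb : b ∈ Q) (hbi : b ∈ inverted T m) (hb1 : b ≠ 1) :
    TwoLine T p := by
  set Z := (center Q).map Q.subtype with hZ
  haveI : Nontrivial Q := ⟨⟨⟨a, ha⟩, 1, fun e => ha1 (congrArg Subtype.val e)⟩⟩
  haveI := hQ.center_nontrivial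
  have hZ1 : Z ≠ ⊥ := by
    rw [hZ, Ne, map_eq_bot_iff_of_injective _ Q.subtype_injective, ← Ne, ← nontrivial_iff_ne_bot]
    infer_instance
  have hTZ : T ≤ normalizer (Z : Set X) := Signalizer.le_normalizer_of_conj_mem fun v hv z hz => by
    obtain ⟨⟨z, hzQ⟩, hzc, rfl⟩ := hz
    refine ⟨⟨v * z * v⁻¹, (mem_normalizer_iff.1 (hTQ hv) z).1 hzQ⟩, mem_center_iff.2 fun w => Subtype.ext ?_, rfl⟩
    have hw : v⁻¹ * (w : X) * v ∈ Q := by
      have := (mem_normalizer_iff.1 (hTQ (inv_mem hv)) w).1 w.2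
      rwa [inv_inv] at this
    have e : v⁻¹ * w * v * z = z * (v⁻¹ * w * v) := congrArg Subtype.val (mem_center_iff.1 hzc ⟨_, hw⟩)
    show (w : X) * (v * z * v⁻¹) = v * z * v⁻¹ * w
    calc (w : X) * (v * z * v⁻¹) = v * (v⁻¹ * w * v * z) * v⁻¹ := by group
      _ = v * z * v⁻¹ * w := by rw [e]; group
  obtain ⟨r, hr, z, hz, hzi, hzo⟩ := hT.exists_weight hp2 (hQ.to_le (map_subtype_le _)) hZ1 hTZ hN
  obtain ⟨⟨z, hzQ⟩, hzc, rfl⟩ := hz
  have hcomm : ∀ w ∈ Q, Commute z w := fun w hw =>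
    (congrArg Subtype.val (mem_center_iff.1 hzc ⟨w, hw⟩)).symm
  by_cases hrl : r = ℓ
  · obtain ⟨k, hk⟩ := IsPGroup.iff_orderOf.1 hQ ⟨b, hb⟩
    rw [Subgroup.orderOf_mk] at hk
    obtain ⟨i, hi, hio⟩ := hT.exists_pow_weight hbi hb1 hk
    exact ⟨r, m, hr, hm, hrl ▸ hne, z, _, hzi, hi, hzo, hio, hcomm _ (pow_mem hb i)⟩
  · obtain ⟨k, hk⟩ := IsPGroup.iff_orderOf.1 hQ ⟨a, ha⟩
    rw [Subgroup.orderOf_mk] at hk
    obtain ⟨i, hi, hio⟩ := hT.exists_pow_weight hai ha1 hk
    exact ⟨r, ℓ, hr, hl, hrl, z, _, hzi, hi, hzo, hio, hcomm _ (pow_mem ha i)⟩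

/-- An element inverted on two lines is trivial. -/
theorem eq_one_of_two_lines {ℓ m : Subgroup X} (hl : IsLine T ℓ) (hm : IsLine T m) (hne : ℓ ≠ m) {a : X}
    (ha : a ∈ inverted T ℓ) (hb : a ∈ inverted T m) : a = 1 := by
  by_contra h1
  exact hne ((hT.weight_card hl ha h1).symm.trans (hT.weight_card hm hb h1))

theorem twoLine_pair {ℓ m : Subgroup X} (hl : IsLine T ℓ) (hm : IsLine T m) (hne : ℓ ≠ m) {a b : X}
    (hai : a ∈ inverted T ℓ) (hbi : b ∈ inverted T m) (hao : orderOf a = p) (hbo : orderOf b = p)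
    (hab : Commute a b) : Pair p a b := by
  refine ⟨hao, hbo, hab, fun hb => ?_⟩
  obtain ⟨i, hi⟩ := mem_zpowers_iff.1 hb
  have hb' : b ∈ inverted T ℓ := by
    rw [← hi]
    refine ⟨hai.1.of_dvd_nat (by
      exact orderOf_dvd_iff_pow_eq_one.2 (by
        rw [← zpow_natCast, ← zpow_mul, mul_comm, zpow_mul, zpow_natCast, pow_orderOf_eq_one, one_zpow])),
      fun y hy => (hai.2.1 y hy).zpow_right i, fun y hy hyl => by rw [← conj_zpow, hai.2.2 y hy hyl, inv_zpow]⟩
  have := hT.eq_one_of_two_lines hl hm hne hb' hbi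
  rw [this, orderOf_one] at hbo
  exact hp.out.ne_one hbo.symm

/-- Two lines and one line cannot both carry pairs. -/
theorem pair_false (hA : AutConj X) (h2 : TwoLine T p) {ℓ : Subgroup X} (hl : IsLine T ℓ) {a b : X}
    (hab : Pair p a b) (hai : a ∈ inverted T ℓ) (hbi : b ∈ inverted T ℓ) : False := by
  obtain ⟨r, m, hr, hm, hne, c, d, hci, hdi, hco, hdo, hcd⟩ := h2
  have hP := hT.twoLine_pair hr hm hne hci hdi hco hdo hcd
  have hn : ∀ {r m : Subgroup X} {c d : X}, IsLine T r → IsLine T m → c ∈ inverted T r → d ∈ inverted T m →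
      T ≤ normalizer (pairGroup c d : Set X) := fun {r m c d} hr hm hci hdi =>
    (le_inf (hT.normalizes_zpowers hr hci) (hT.normalizes_zpowers hm hdi)).trans
      (normalizer_inf_normalizer_le_normalizer_sup _ _)
  have h4 : 2 ^ 2 ∣ Nat.card (centralizer (pairGroup a b : Set X)) := by
    refine (dvd_of_eq hl.2.symm).trans (card_dvd_of_le fun v hv => ?_)
    exact centralizer_pairGroup.2 ⟨(hai.2.1 v hv).symm, (hbi.2.1 v hv).symm⟩
  rw [hA.card_centralizer (p := p) hab.isPGroup hP.isPGroup hab.isMulCommutative hP.isMulCommutative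
    (hab.card.trans hP.card.symm), hT.dvd_centralizer_iff (hn hr hm hci hdi) 2] at h4
  obtain ⟨x, hxr, hxm, hx1⟩ := hT.exists_meet hr hm
  have hc1 : c ≠ 1 := fun e => by rw [e, orderOf_one] at hco; exact hp.out.ne_one hco.symm
  have hd1 : d ≠ 1 := fun e => by rw [e, orderOf_one] at hdo; exact hp.out.ne_one hdo.symm
  have hle : T ⊓ centralizer (pairGroup c d : Set X) ≤ zpowers x := fun v hv => by
    obtain ⟨hvT, hvc⟩ := mem_inf.1 hv
    obtain ⟨h1, h2⟩ := centralizer_pairGroup.1 hvc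
    have hvr : v ∈ r := by
      rw [← hT.weight_card hr hci hc1]; exact mem_inf.2 ⟨hvT, mem_centralizer_zpowers h1⟩
    have hvm : v ∈ m := by
      rw [← hT.weight_card hm hdi hd1]; exact mem_inf.2 ⟨hvT, mem_centralizer_zpowers h2⟩
    by_cases hv1 : v = 1
    · rw [hv1]; exact one_mem _
    · rw [hT.meet_unique hr hm hne hxr hxm hx1 hvr hvm hv1]; exact mem_zpowers x
  have h5 := (h4.trans (card_dvd_of_le hle)).trans (dvd_of_eq (by
    rw [Nat.card_zpowers, hT.orderOf_eq_two (hr.1 hxr) hx1]))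
  norm_num at h5

/-- With a two-line pair, the `p`-groups on a line have order at most `p`. -/
theorem line_card_le (hA : AutConj X) (hp2 : p ≠ 2) (h2 : TwoLine T p) (hN : NoFixed T p) {ℓ : Subgroup X}
    (hl : IsLine T ℓ) {Y : Subgroup X} (hY : IsPGroup p Y) (hTY : T ≤ normalizer (Y : Set X))
    (hYl : Y ≤ centralizer (ℓ : Set X)) : Nat.card Y ≤ p := by
  obtain ⟨n, hn⟩ := IsPGroup.iff_card.1 hY
  have hodd : Odd (Nat.card Y) := hn ▸ (hp.out.odd_of_ne_two hp2).pow
  have hall : ∀ y ∈ Y, y ∈ inverted T ℓ ∧ y ^ p = 1 := by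
    intro y hy
    obtain ⟨a, ha, hai, c, hc, hcT, rfl⟩ := hT.exists_split hl hodd hTY hy
      fun v hv => mem_centralizer_iff.1 (hYl hy) v hv
    have hc1 : c = 1 := by
      by_contra hc1
      obtain ⟨k, hk⟩ := IsPGroup.iff_orderOf.1 hY ⟨c, hc⟩
      rw [Subgroup.orderOf_mk] at hk
      have hk0 : k ≠ 0 := by rintro rfl; exact hc1 (orderOf_eq_one_iff.1 (hk.trans (pow_zero p)))
      refine hN (c ^ p ^ (k - 1)) ?_ fun v hv => (hcT v hv).pow_right _
      rw [orderOf_pow_of_dvd (pow_ne_zero _ hp.out.ne_zero) (by rw [hk]; exact pow_dvd_pow p (Nat.sub_le k 1)),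
        hk, Nat.pow_div (Nat.sub_le k 1) hp.out.pos, show k - (k - 1) = 1 by omega, pow_one]
    rw [hc1, mul_one] at hy ⊢
    refine ⟨hai, ?_⟩
    obtain ⟨r, m, hr, hm, hne, u, v, hui, hvi, huo, hvo, huv⟩ := id h2
    obtain ⟨k, hk⟩ := IsPGroup.iff_orderOf.1 hY ⟨a, hy⟩
    rw [Subgroup.orderOf_mk] at hk
    exact hA.orderOf_le (hT.twoLine_pair hr hm hne hui hvi huo hvo huv) hk
  obtain ⟨d, hd, hdl⟩ := hT.exists_not_mem hl
  have hcomm : ∀ a ∈ Y, ∀ b ∈ Y, Commute a b := by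
    intro a ha b hb
    have e := (hall _ (mul_mem ha hb)).1.2.2 d hd hdl
    rw [← conj_mul, (hall a ha).1.2.2 d hd hdl, (hall b hb).1.2.2 d hd hdl, ← mul_inv_rev, inv_inj] at e
    exact e.symm
  by_contra hgt
  push Not at hgt
  obtain ⟨a, ha, ha1⟩ := (Y.bot_or_exists_ne_one).resolve_left fun e => by
    rw [e, card_bot] at hgt; exact absurd hgt (by have := hp.out.two_le; omega)
  have hord : ∀ y ∈ Y, y ≠ 1 → orderOf y = p := fun y hy h1 => orderOf_eq_prime (hall y hy).2 h1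
  obtain ⟨b, hb, hba⟩ : ∃ b ∈ Y, b ∉ zpowers a := by
    by_contra hcon
    push Not at hcon
    have := Subgroup.card_le_of_le (show Y ≤ zpowers a from hcon)
    rw [Nat.card_zpowers, hord a ha ha1] at this
    omega
  exact hT.pair_false hA h2 hl ⟨hord a ha ha1, hord b hb (fun e => hba (e ▸ one_mem _)), hcomm a ha b hb, hba⟩
    (hall a ha).1 (hall b hb).1

end Eight

end CfsgLib.EightCore
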