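import Cfsg.Agent.InvCentPSL.PSLFacts
import Cfsg.Agent.AutPSL.Out
import Cfsg.Agent.AutPSL.Bridge
import Cfsg.Agent.AutPSL.RootGroup
import Cfsg.Agent.EightCore.AutConj

/-!
# Facts about `PSL₂(q)`, `q ≡ ±3 (mod 8)`
-/

set_option autoImplicit false
set_option linter.unusedSectionVars false
set_option linter.unusedVariables false
set_option linter.style.haveILetI false

namespace CfsgLib.EightCore.PSL

open Subgroup
open CfsgLib.Linear.SmallSub (P2 proj)
open CfsgLib.Linear.FourGroups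
open CfsgLib.AutPSL

variable {F : Type} [Field F] [Fintype F]

/-- The standard flag. -/
def flag (F : Type) [Field F] : Flag F 2 where
  pt := ![1, 0]
  hyp := ![0, 1]
  pt_ne := fun h => one_ne_zero (congrFun h 0)
  hyp_ne := fun h => one_ne_zero (congrFun h 1)
  orth := by simp [dotProduct]

/-- The unipotent elements. -/
abbrev u (c : F) : P2 F := QuotientGroup.mk (tv (flag F) c)

theorem u_add (a b : F) : u (a + b) = u a * u b := by rw [u, tv_add]; rfl

theorem u_zero : u (0 : F) = 1 := by rw [u, tv_zero]; rfl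

theorem u_injective {a b : F} (h : u a = u b) : a = b := mk_tv_injective (flag F) h

/-- An automorphism multiplies the parameters by a constant after a field automorphism. -/
theorem aut_u {p : ℕ} [Fact p.Prime] [CharP F p] (β : MulAut (P2 F)) :
    ∃ (μ : F) (σ : F ≃+* F), ∀ c d : F, β (u c) = u d → d = μ * σ c := by
  obtain ⟨g, σ, rfl⟩ := exists_semi_two β
  refine ⟨Matrix.vecMulVec ((flag F).semi g σ).pt ((flag F).semi g σ).hyp 0 1, σ, fun c d h => ?_⟩
  rw [u, u, semiAut_mk, semiFun_tv] at h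
  generalize (flag F).semi g σ = Y at h ⊢
  have h1 := eq_of_mk_eq p (tv_pow_prime p _ _) (tv_pow_prime p _ _) h
  have h2 := congrArg (fun A : Matrix.SpecialLinearGroup (Fin 2) F => (A : Matrix (Fin 2) (Fin 2) F) 0 1) h1
  simp [coe_tv, flag, Matrix.vecMulVec_apply] at h2
  rw [← h2, Matrix.vecMulVec_apply]
  ring

/-- For `q ≡ ±3 (mod 8)` the degree of the field is odd. -/
theorem odd_degree {p f : ℕ} [hp : Fact p.Prime] (hF : Fintype.card F = p ^ f)
    (h8 : Fintype.card F % 8 = 3 ∨ Fintype.card F % 8 = 5) : p ≠ 2 ∧ Odd f := by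
  have hp2 : p ≠ 2 := by
    rintro rfl
    rcases f with _ | _ | _ | f
    · simp [hF] at h8
    · simp [hF] at h8
    · simp [hF] at h8
    · have : 8 ∣ 2 ^ (f + 3) := (show (8 : ℕ) = 2 ^ 3 by norm_num) ▸ pow_dvd_pow 2 (by omega)
      rw [hF] at h8
      obtain ⟨k, hk⟩ := this
      omega
  refine ⟨hp2, Nat.not_even_iff_odd.1 ?_⟩
  rintro ⟨k, rfl⟩
  obtain ⟨j, hj⟩ := hp.out.odd_of_ne_two hp2
  rw [hF, ← two_mul, pow_mul, Nat.pow_mod] at h8
  have : p ^ 2 % 8 = 1 := by
    rw [hj, Nat.pow_mod]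
    have : (2 * j + 1) % 8 = 1 ∨ (2 * j + 1) % 8 = 3 ∨ (2 * j + 1) % 8 = 5 ∨ (2 * j + 1) % 8 = 7 := by omega
    rcases this with e | e | e | e <;> rw [e]
  rw [this, one_pow] at h8
  omega

/-- For large degree there are two subgroups of order `p²` in a root group which are not equivalent. -/
theorem exists_unrelated {p f : ℕ} [hp : Fact p.Prime] (hF : Fintype.card F = p ^ f) (hp2 : p ≠ 2)
    (hf : 5 ≤ f) : ∃ A B : AddSubgroup F, Nat.card A = p ^ 2 ∧ Nat.card B = p ^ 2 ∧
      ∀ β : MulAut (P2 F), ¬ ∀ a ∈ A, ∃ b ∈ B, β (u a) = u b := by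
  classical
  haveI : CharP F p := charP_of_card_eq_prime_pow hF
  letI : Algebra (ZMod p) F := ZMod.algebra F p
  have h3 : 3 ≤ p := by have := hp.out.two_le; omega
  let comb : F → ZMod p × ZMod p →+ F := fun x =>
    { toFun := fun ab => algebraMap (ZMod p) F ab.1 + algebraMap (ZMod p) F ab.2 * x
      map_zero' := by simp
      map_add' := fun a b => by simp [map_add, add_mul]; ring }
  have hcomb : ∀ x ab, comb x ab = algebraMap (ZMod p) F ab.1 + algebraMap (ZMod p) F ab.2 * x := fun _ _ => rfl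
  have hcard : ∀ x : F, x ∉ Set.range (algebraMap (ZMod p) F) → Nat.card (comb x).range = p ^ 2 := by
    intro x hx
    have hinj : Function.Injective (comb x) := (injective_iff_map_eq_zero _).2 fun ab h => by
      rw [hcomb] at h
      have hb : ab.2 = 0 := by
        by_contra hb
        refine hx ⟨-ab.1 / ab.2, ?_⟩
        have hb' : algebraMap (ZMod p) F ab.2 ≠ 0 := (map_ne_zero _).2 hb
        rw [map_div₀, map_neg, div_eq_iff hb']
        linear_combination -h
      rw [hb, map_zero, zero_mul, add_zero, map_eq_zero] at h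
      exact Prod.ext h hb
    rw [← Nat.card_congr (AddMonoidHom.ofInjective hinj).toEquiv, Nat.card_prod, Nat.card_zmod, pow_two]
  -- `x` outside the prime field
  obtain ⟨x, hx⟩ : ∃ x : F, x ∉ Set.range (algebraMap (ZMod p) F) := by
    by_contra hcon
    push Not at hcon
    have h := Fintype.card_le_of_surjective _ (fun x => hcon x)
    rw [hF, ZMod.card] at h
    have : p ^ 2 ≤ p ^ f := Nat.pow_le_pow_right hp.out.pos (by omega)
    nlinarith
  -- the parameters reachable from `x`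
  let val : RingAut F × Option (ZMod p) × ZMod p × ZMod p → F := fun t =>
    comb (t.1 x) t.2.2 / (match t.2.1 with | some l => comb (t.1 x) (1, l) | none => t.1 x)
  haveI : Fintype (RingAut F) := Fintype.ofFinite _
  obtain ⟨ea⟩ := nonempty_ringAut_equiv (F := F) (p := p) (f := f) (by omega) hF
  have hra : Fintype.card (RingAut F) = f := by
    rw [← Nat.card_eq_fintype_card, Nat.card_congr ea.toEquiv, Nat.card_congr Multiplicative.toAdd, Nat.card_zmod]
  obtain ⟨y, hy⟩ : ∃ y : F, y ∉ Set.range val := by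
    by_contra hcon
    push Not at hcon
    have h := Fintype.card_le_of_surjective val fun y => hcon y
    simp only [Fintype.card_prod, Fintype.card_option, ZMod.card, hra, hF] at h
    have hgrow : ∀ k, 4 * (k + 5) < 3 * p ^ (k + 2) := by
      intro k
      induction k with
      | zero => have : 3 ^ 2 ≤ p ^ 2 := Nat.pow_le_pow_left h3 2; simp only [zero_add]; omega
      | succ k ih =>
        have h1 : 3 * p ^ (k + 2) ≤ p ^ (k + 2) * p := by rw [mul_comm]; exact Nat.mul_le_mul_left _ h3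
        rw [show k + 1 + 2 = k + 2 + 1 by omega, pow_succ]
        omega
    obtain ⟨k, rfl⟩ : ∃ k, f = k + 5 := ⟨f - 5, by omega⟩
    have h4 : 3 * ((k + 5) * (p + 1)) < 3 * (p ^ (k + 2) * p) := by
      have h1 : 4 * (k + 5) * p < 3 * p ^ (k + 2) * p := Nat.mul_lt_mul_of_pos_right (hgrow k) hp.out.pos
      nlinarith
    have h5 : p ^ (k + 5) = p ^ (k + 2) * p * (p * p) := by ring
    have h6 : (k + 5) * ((p + 1) * (p * p)) < p ^ (k + 5) := by
      rw [h5, ← mul_assoc]
      exact Nat.mul_lt_mul_of_pos_right (by omega) (Nat.mul_pos hp.out.pos hp.out.pos)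
    omega
  have hy' : y ∉ Set.range (algebraMap (ZMod p) F) := by
    rintro ⟨c, rfl⟩
    exact hy ⟨(RingEquiv.refl F, some 0, c, 0), by simp [val, hcomb]⟩
  refine ⟨(comb x).range, (comb y).range, hcard x hx, hcard y hy', fun β hβ => hy ?_⟩
  obtain ⟨μ, σ, hμ⟩ := aut_u (p := p) β
  have hmul : ∀ ab, ∃ cd, comb y cd = μ * comb (σ x) ab := by
    intro ab
    obtain ⟨b, ⟨cd, rfl⟩, hb⟩ := hβ _ ⟨ab, rfl⟩
    refine ⟨cd, (hμ _ _ hb).trans ?_⟩
    have hfix : ∀ a : ZMod p, σ (algebraMap (ZMod p) F a) = algebraMap (ZMod p) F a := fun a =>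
      RingHom.congr_fun (RingHom.ext_zmod (σ.toRingHom.comp (algebraMap (ZMod p) F)) (algebraMap (ZMod p) F)) a
    rw [hcomb, hcomb, map_add, map_mul, hfix, hfix]
  choose Φ hΦ using hmul
  have hμ0 : μ ≠ 0 := by
    intro h0
    obtain ⟨b, hb, hbu⟩ := hβ 1 ⟨(1, 0), by simp [hcomb]⟩
    have := hμ _ _ hbu
    rw [h0, zero_mul] at this
    rw [this, u_zero, EmbeddingLike.map_eq_one_iff, ← u_zero] at hbu
    exact one_ne_zero (u_injective hbu)
  have hΦi : Function.Injective Φ := fun a b h => by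
    have h1 := hΦ a
    rw [h, hΦ b] at h1
    have hσx : σ x ∉ Set.range (algebraMap (ZMod p) F) := by
      rintro ⟨c, hc⟩
      refine hx ⟨c, σ.injective ?_⟩
      rw [← hc]
      exact RingHom.congr_fun (RingHom.ext_zmod (σ.toRingHom.comp (algebraMap (ZMod p) F)) (algebraMap (ZMod p) F)) c
    have h2 := mul_left_cancel₀ hμ0 h1
    have := hcard _ hσx
    by_contra hne
    have hinj : Function.Injective (comb (σ x)) := by
      have hc : Nat.card (comb (σ x)).range = Nat.card (ZMod p × ZMod p) := by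
        rw [this, Nat.card_prod, Nat.card_zmod, pow_two]
      have := (Nat.bijective_iff_surjective_and_card (comb (σ x)).rangeRestrict).2
        ⟨(comb (σ x)).rangeRestrict_surjective, hc.symm⟩
      exact fun a b e => this.1 (Subtype.ext e)
    exact hne (hinj h2).symm
  have hΦs := Finite.injective_iff_surjective.1 hΦi
  obtain ⟨ab, hab⟩ := hΦs (0, 1)
  obtain ⟨cd, hcd⟩ := hΦs (1, 0)
  have e1 := hΦ ab
  have e2 := hΦ cd
  rw [hab, hcomb] at e1
  rw [hcd, hcomb] at e2
  simp only [map_one, map_zero, zero_add, zero_mul, add_zero, one_mul] at e1 e2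
  have hden : comb (σ x) cd ≠ 0 := fun h => by rw [h, mul_zero] at e2; exact one_ne_zero e2
  have hyq : y = comb (σ x) ab / comb (σ x) cd := by
    rw [eq_div_iff hden]
    have hμinv : μ = 1 / comb (σ x) cd := by rw [eq_div_iff hden, ← e2]
    rw [e1, hμinv]
    field_simp
  obtain ⟨c, d⟩ := cd
  by_cases hc : c = 0
  · have hd : algebraMap (ZMod p) F d ≠ 0 := by
      intro hd; exact hden (by rw [hcomb, hc, map_zero, hd, zero_add, zero_mul])
    refine ⟨(σ, none, ab.1 / d, ab.2 / d), ?_⟩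
    show comb (σ x) _ / σ x = y
    rw [hyq, hcomb, hcomb, hcomb, hc, map_zero, zero_add, map_div₀, map_div₀]
    field_simp
  · have hc' : algebraMap (ZMod p) F c ≠ 0 := (map_ne_zero _).2 hc
    refine ⟨(σ, some (d / c), ab.1 / c, ab.2 / c), ?_⟩
    show comb (σ x) _ / comb (σ x) _ = y
    rw [hyq, hcomb, hcomb, hcomb, hcomb, map_one, map_div₀, map_div₀, map_div₀]
    field_simp

/-- The order of the centraliser of an involution. -/
theorem card_centralizer (hodd : Odd (Fintype.card F)) {v : P2 F} (hv : NormCyclic.Inv v) :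
    Nat.card (centralizer ({v} : Set (P2 F))) =
      if Fintype.card F % 4 = 1 then Fintype.card F - 1 else Fintype.card F + 1 := by
  obtain ⟨x, U, m, hx, hx1, -, -, -, hm, -, hC, -⟩ := centralizer_shape (F := F) hodd
  obtain ⟨g, hg⟩ := isConj_iff.1 (involutions_conj hodd hx hx1 hv.1 hv.2)
  have e : centralizer ({v} : Set (P2 F)) = (centralizer ({x} : Set (P2 F))).map (MulAut.conj g).toMonoidHom := by
    ext z
    constructor
    · intro hz
      refine ⟨g⁻¹ * z * g, mem_centralizer_singleton_iff.2 ?_, by simp [MulAut.conj_apply, mul_assoc]⟩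
      have h1 : z * (g * x * g⁻¹) = g * x * g⁻¹ * z := hg ▸ mem_centralizer_singleton_iff.1 hz
      calc g⁻¹ * z * g * x = g⁻¹ * (z * (g * x * g⁻¹)) * g := by group
        _ = x * (g⁻¹ * z * g) := by rw [h1]; group
    · rintro ⟨w, hw, rfl⟩
      refine mem_centralizer_singleton_iff.2 ?_
      show g * w * g⁻¹ * v = v * (g * w * g⁻¹)
      rw [← hg, conj_mul, mem_centralizer_singleton_iff.1 hw, ← conj_mul]
  rw [e, card_map_of_injective (MulAut.conj g).injective, hC, hm]

theorem two_mul_card (hodd : Odd (Fintype.card F)) :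
    2 * Nat.card (P2 F) = Fintype.card F * ((Fintype.card F - 1) * (Fintype.card F + 1)) := by
  have h1 : 2 ≤ Fintype.card F := Fintype.one_lt_card
  have hg : Nat.gcd 2 (Fintype.card F - 1) = 2 :=
    Nat.gcd_eq_left (by obtain ⟨k, hk⟩ := hodd; omega)
  have h := CfsgLib.Linear.Small.card_psl_two (F := F) rfl
  rw [hg] at h
  obtain ⟨k, hk⟩ : ∃ k, Fintype.card F = k + 1 := ⟨_, (Nat.succ_pred_eq_of_pos (by omega)).symm⟩
  rw [hk] at h ⊢
  simp only [Nat.add_sub_cancel] at h ⊢
  have e1 : (k + 1) ^ 2 - 1 = k * (k + 2) := Nat.sub_eq_of_eq_add (by ring)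
  have e2 : (k + 1) ^ 2 - (k + 1) = (k + 1) * k := Nat.sub_eq_of_eq_add (by ring)
  rw [e1, e2] at h
  refine Nat.eq_of_mul_eq_mul_left (show 0 < k by omega) ?_
  linarith [h]

theorem three_dvd_card (hodd : Odd (Fintype.card F)) : 3 ∣ Nat.card (P2 F) := by
  refine (Nat.Coprime.dvd_mul_left (show Nat.Coprime 3 2 by norm_num)).1 ?_
  rw [two_mul_card hodd]
  obtain ⟨k, hk⟩ : ∃ k, Fintype.card F = k + 1 :=
    ⟨_, (Nat.succ_pred_eq_of_pos (Fintype.card_pos)).symm⟩
  rw [hk, Nat.add_sub_cancel]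
  rcases (show k % 3 = 0 ∨ k % 3 = 1 ∨ k % 3 = 2 by omega) with h | h | h
  · exact dvd_mul_of_dvd_right (dvd_mul_of_dvd_left (Nat.dvd_of_mod_eq_zero h) _) _
  · exact dvd_mul_of_dvd_right (dvd_mul_of_dvd_right (Nat.dvd_of_mod_eq_zero (by omega)) _) _
  · exact dvd_mul_of_dvd_left (Nat.dvd_of_mod_eq_zero (by omega)) _

theorem card_aut {p f : ℕ} [Fact p.Prime] (hF : Fintype.card F = p ^ f) (hp2 : p ≠ 2) (hf : f ≠ 0) :
    Nat.card (MulAut (P2 F)) = f * (2 * Nat.card (P2 F)) := by
  obtain ⟨ea⟩ := nonempty_ringAut_equiv (F := F) (p := p) (f := f) (Nat.pos_of_ne_zero hf) hF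
  obtain ⟨E⟩ := nonempty_inndiag_equiv_PGL (n := 2) (F := F) le_rfl
  have hg : Nat.gcd (Fintype.card (Fin 2)) (Nat.card F - 1) = 2 := by
    rw [Fintype.card_fin, Nat.card_eq_fintype_card]
    refine Nat.gcd_eq_left ?_
    have hodd : Odd (p ^ f) := ((Fact.out : p.Prime).odd_of_ne_two hp2).pow
    obtain ⟨k, hk⟩ := hodd
    omega
  have hpgl : Nat.card (Matrix.ProjGenLinGroup (Fin 2) F) = 2 * Nat.card (P2 F) := by
    rw [CfsgLib.Linear.card_PGL, ← CfsgLib.Linear.gcd_mul_card_PSL (ι := Fin 2), hg]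
  rw [card_eq_card_mul_ker _ fieldData_surjective, ker_fieldData, Nat.card_congr E.toEquiv,
    Nat.card_congr ea.toEquiv, Nat.card_congr Multiplicative.toAdd, Nat.card_zmod, hpgl]

/-- `diag(a, a⁻¹)`. -/
def sdiag (a : Fˣ) : Matrix.SpecialLinearGroup (Fin 2) F :=
  ⟨!![(a : F), 0; 0, ((a⁻¹ : Fˣ) : F)], by simp [Matrix.det_fin_two]⟩

theorem coe_sdiag (a : Fˣ) :
    (sdiag a : Matrix (Fin 2) (Fin 2) F) = !![(a : F), 0; 0, ((a⁻¹ : Fˣ) : F)] := rfl

theorem sdiag_mul (a b : Fˣ) : sdiag (a * b) = sdiag a * sdiag b := by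
  apply Subtype.ext
  rw [Matrix.SpecialLinearGroup.coe_mul, coe_sdiag, coe_sdiag, coe_sdiag]
  ext i j
  fin_cases i <;> fin_cases j <;> simp [mul_comm]

theorem sdiag_tv (a : Fˣ) (c : F) : sdiag a * tv (flag F) c = tv (flag F) ((a : F) ^ 2 * c) * sdiag a := by
  apply Subtype.ext
  rw [Matrix.SpecialLinearGroup.coe_mul, Matrix.SpecialLinearGroup.coe_mul, coe_sdiag, coe_tv, coe_tv]
  ext i j
  fin_cases i <;> fin_cases j <;>
    simp [flag, Matrix.mul_apply, Fin.sum_univ_two, Matrix.vecMulVec_apply]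
  field_simp

/-- The torus element `diag(a, a⁻¹)`. -/
def diag (a : Fˣ) : P2 F := QuotientGroup.mk (sdiag a)

theorem diag_mul (a b : Fˣ) : diag (a * b) = diag a * diag b := by
  rw [diag, sdiag_mul]; rfl

theorem diag_conj (a : Fˣ) (c : F) : diag a * u c * (diag a)⁻¹ = u ((a : F) ^ 2 * c) := by
  rw [mul_inv_eq_iff_eq_mul, diag, u, u, ← QuotientGroup.mk_mul, ← QuotientGroup.mk_mul, sdiag_tv]

/-- No involution centralises a nontrivial unipotent element. -/
theorem not_commute_u (hodd : Odd (Fintype.card F)) {v : P2 F} (hv : NormCyclic.Inv v) {c : F} (hc : c ≠ 0) :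
    ¬ Commute v (u c) := by
  obtain ⟨p, hp⟩ := CharP.exists F
  haveI := Fact.mk (CharP.char_is_prime F p)
  obtain ⟨n, hpp, hF⟩ := FiniteField.card F p
  intro hcom
  have hu : orderOf (u c) = p := by
    refine orderOf_eq_prime ?_ (mk_tv_ne_one _ hc)
    show (QuotientGroup.mk _ : P2 F) ^ p = 1
    rw [← QuotientGroup.mk_pow, tv_pow_prime, QuotientGroup.mk_one]
  have h1 : orderOf (u c) ∣ Nat.card (centralizer ({v} : Set (P2 F))) :=
    Subgroup.orderOf_dvd_natCard _ (mem_centralizer_singleton_iff.2 hcom.eq.symm)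
  rw [hu, card_centralizer hodd hv] at h1
  have hd : p ∣ Fintype.card F := by rw [hF]; exact dvd_pow_self p n.ne_zero
  have h2 : p ∣ 1 := by
    split_ifs at h1
    · have := Nat.dvd_sub hd h1
      rwa [Nat.sub_sub_self Fintype.card_pos] at this
    · have := Nat.dvd_sub h1 hd
      rwa [Nat.add_sub_cancel_left] at this
  exact (CharP.char_is_prime F p).ne_one (Nat.dvd_one.1 h2)

end CfsgLib.EightCore.PSL
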