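import Cfsg.Agent.EightCore.Auto
import Cfsg.Agent.LocalB.OddSignalizer

/-!
# Simple groups with Sylow 2-subgroups elementary of order eight: passing to `H / O(H)`
-/

set_option autoImplicit false
set_option linter.unusedSectionVars false
set_option linter.style.haveILetI false

namespace CfsgLib.EightCore

open Subgroup
open scoped Pointwise

universe u

variable {G : Type u} [Group G] [Finite G] {T : Subgroup G}

instance oddCore_normal_inst (H : Subgroup G) : (Cfsg.oddCore ↥H).Normal := DGroup.normal_oddCore _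

/-- The quotient map onto `H / O(H)`. -/
abbrev qmap (H : Subgroup G) : ↥H →* ↥H ⧸ Cfsg.oddCore ↥H := QuotientGroup.mk' _

/-- The image of a subgroup of `H` in `H / O(H)`. -/
def img (H X : Subgroup G) : Subgroup (↥H ⧸ Cfsg.oddCore ↥H) := (X.subgroupOf H).map (qmap H)

theorem mem_img {H X : Subgroup G} (hXH : X ≤ H) {q : ↥H ⧸ Cfsg.oddCore ↥H} :
    q ∈ img H X ↔ ∃ a : ↥H, (a : G) ∈ X ∧ qmap H a = q := by
  constructor
  · rintro ⟨a, ha, rfl⟩; exact ⟨a, ha, rfl⟩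
  · rintro ⟨a, ha, rfl⟩; exact ⟨a, ha, rfl⟩

theorem qmap_eq_one {H : Subgroup G} {a : ↥H} : qmap H a = 1 ↔ (a : G) ∈ DGroup.coreIn H := by
  rw [DGroup.coreIn, QuotientGroup.mk'_apply, QuotientGroup.eq_one_iff,
    show (a : G) = H.subtype a from rfl, mem_map_iff_mem H.subtype_injective]

namespace Eight

variable (h : Eight T) {H : Subgroup G} (hTH : T ≤ H)

include h hTH

/-- On `T` the quotient map is injective. -/
theorem qmap_inj {a b : ↥H} (ha : (a : G) ∈ T) (hb : (b : G) ∈ T) (e : qmap H a = qmap H b) : a = b := by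
  have h1 : qmap H (a * b⁻¹) = 1 := by rw [map_mul, map_inv, e, mul_inv_cancel]
  have h2 := qmap_eq_one.1 h1
  have h3 := h.eq_one_of_odd (mul_mem ha (inv_mem hb))
    (DGroup.odd_orderOf (DGroup.odd_coreIn H) h2)
  exact Subtype.ext (mul_inv_eq_one.1 h3)

theorem mem_of_qmap_mem {X : Subgroup G} (hX : X ≤ T) {a : ↥H} (ha : (a : G) ∈ T)
    (hq : qmap H a ∈ img H X) : (a : G) ∈ X := by
  obtain ⟨b, hb, e⟩ := (mem_img (hX.trans hTH)).1 hq
  rw [← h.qmap_inj hTH (hX hb) ha e]; exact hb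

theorem card_img {X : Subgroup G} (hX : X ≤ T) : Nat.card (img H X) = Nat.card X := by
  rw [← Nat.card_congr (subgroupOfEquivOfLe (hX.trans hTH)).toEquiv]
  refine (Nat.card_congr (Equiv.ofBijective (fun a : ↥(X.subgroupOf H) =>
    (⟨qmap H a, mem_map_of_mem _ a.2⟩ : ↥(img H X))) ⟨fun a b e => ?_, fun q => ?_⟩)).symm
  · exact Subtype.ext (h.qmap_inj hTH (hX (mem_subgroupOf.1 a.2)) (hX (mem_subgroupOf.1 b.2))
      (congrArg Subtype.val e))
  · obtain ⟨a, ha, e⟩ := q.2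
    exact ⟨⟨a, ha⟩, Subtype.ext e⟩

theorem eight_img : Eight (img H T) := by
  refine ⟨?_, by rw [h.card_img hTH le_rfl, h.card], fun q hq => ?_⟩
  · obtain ⟨S, hS⟩ := h.sylowIn hTH
    exact ⟨S.mapSurjective (QuotientGroup.mk'_surjective _), by rw [img, ← hS]; rfl⟩
  · obtain ⟨a, ha, rfl⟩ := (mem_img hTH).1 hq
    rw [← map_mul, show a * a = 1 from Subtype.ext (h.sq _ ha), map_one]

theorem isLine_img {ℓ : Subgroup G} (hl : IsLine T ℓ) : IsLine (img H T) (img H ℓ) :=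
  ⟨map_mono (comap_mono hl.1), by rw [h.card_img hTH hl.1, hl.2]⟩

theorem img_inj {X Y : Subgroup G} (hX : X ≤ T) (hY : Y ≤ T) (e : img H X = img H Y) : X = Y := by
  refine le_antisymm (fun x hx => ?_) fun x hx => ?_
  · exact h.mem_of_qmap_mem hTH hY (a := ⟨x, hTH (hX hx)⟩) (hX hx) (e ▸ ⟨_, hx, rfl⟩)
  · exact h.mem_of_qmap_mem hTH hX (a := ⟨x, hTH (hY hx)⟩) (hY hx) (e.symm ▸ ⟨_, hx, rfl⟩)

theorem inverted_img {ℓ : Subgroup G} (hl : IsLine T ℓ) {a : ↥H} (ha : (a : G) ∈ inverted T ℓ) :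
    qmap H a ∈ inverted (img H T) (img H ℓ) := by
  refine ⟨?_, ?_, ?_⟩
  · have := ha.1
    rw [Subgroup.orderOf_coe] at this
    exact this.of_dvd_nat (orderOf_map_dvd _ _)
  · intro q hq
    obtain ⟨y, hy, rfl⟩ := (mem_img (hl.1.trans hTH)).1 hq
    exact (show Commute y a from Subtype.ext (ha.2.1 _ hy).eq).map _
  · intro q hq hql
    obtain ⟨d, hd, rfl⟩ := (mem_img hTH).1 hq
    have hdl : (d : G) ∉ ℓ := fun e => hql ((mem_img (hl.1.trans hTH)).2 ⟨d, e, rfl⟩)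
    rw [← map_inv, ← map_inv, ← map_mul, ← map_mul]
    exact congrArg _ (Subtype.ext (ha.2.2 _ hd hdl))

/-- A coset of `O(H)` commuting with a line has a representative centralising it. -/
theorem exists_lift_commute {ℓ : Subgroup G} (hl : IsLine T ℓ) {q : ↥H ⧸ Cfsg.oddCore ↥H}
    (hq : ∀ y ∈ img H ℓ, Commute y q) :
    ∃ v : ↥H, qmap H v = q ∧ ∀ y ∈ ℓ, Commute y (v : G) := by
  obtain ⟨u, hu, hu1, v, hv, hv1, hne⟩ := hl.exists_two
  have hO : Odd (Nat.card (Cfsg.oddCore ↥H)) := DGroup.odd_oddCore _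
  obtain ⟨r, rfl⟩ := QuotientGroup.mk'_surjective _ q
  set uh : ↥H := ⟨u, hTH (hl.1 hu)⟩
  set vh : ↥H := ⟨v, hTH (hl.1 hv)⟩
  have huq : Commute (qmap H uh) (qmap H r) := hq _ ((mem_img (hl.1.trans hTH)).2 ⟨uh, hu, rfl⟩)
  have hvq : Commute (qmap H vh) (qmap H r) := hq _ ((mem_img (hl.1.trans hTH)).2 ⟨vh, hv, rfl⟩)
  obtain ⟨r₁, hr₁, hr₁u⟩ := LocalB.exists_fixed_lift hO (a := uh) (u := r)
    (Subtype.ext (h.sq _ (hl.1 hu))) (by
      rw [← QuotientGroup.eq_one_iff]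
      show qmap H (uh * r * uh⁻¹ * r⁻¹) = 1
      rw [map_mul, map_mul, map_mul, map_inv, map_inv, huq.eq, mul_inv_cancel_right, mul_inv_cancel])
  have hr₁q : qmap H r₁ = qmap H r := by
    refine mul_inv_eq_one.1 ?_
    rw [← map_inv, ← map_mul]
    exact (QuotientGroup.eq_one_iff _).2 hr₁
  have hO' : Odd (Nat.card ↥(Cfsg.oddCore ↥H ⊓ centralizer ({uh} : Set ↥H))) :=
    hO.of_dvd_nat (card_dvd_of_le inf_le_left)
  have hcu : ∀ z : ↥H, z ∈ centralizer ({uh} : Set ↥H) ↔ Commute z uh := fun z =>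
    mem_centralizer_singleton_iff
  obtain ⟨r₂, hr₂, hr₂v⟩ := LocalB.exists_fixed_lift hO' (a := vh) (u := r₁)
    (Subtype.ext (h.sq _ (hl.1 hv))) (mem_inf.2 ⟨by
      rw [← QuotientGroup.eq_one_iff]
      show qmap H (vh * r₁ * vh⁻¹ * r₁⁻¹) = 1
      rw [map_mul, map_mul, map_mul, map_inv, map_inv, hr₁q, hvq.eq, mul_inv_cancel_right,
        mul_inv_cancel], by
      have huv : Commute vh uh := Subtype.ext (h.comm (hl.1 hv) (hl.1 hu)).eq
      have hru : Commute r₁ uh := (show Commute uh r₁ from hr₁u).symm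
      exact (hcu _).2 (((huv.mul_left hru).mul_left huv.inv_left).mul_left hru.inv_left)⟩)
  obtain ⟨h2a, h2b⟩ := mem_inf.1 hr₂
  refine ⟨r₂, ?_, fun y hy => ?_⟩
  · rw [← hr₁q]
    refine mul_inv_eq_one.1 ?_
    rw [← map_inv, ← map_mul]
    exact (QuotientGroup.eq_one_iff _).2 h2a
  · have hru : Commute r₁ uh := (show Commute uh r₁ from hr₁u).symm
    have h2u : Commute r₂ uh := by
      have := ((hcu _).1 h2b).mul_left hru
      rwa [inv_mul_cancel_right] at this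
    have eu : Commute u (r₂ : G) := (congrArg Subtype.val h2u.eq).symm
    have ev : Commute v (r₂ : G) := congrArg Subtype.val hr₂v
    rw [h.eq_lineOf hl hu hv hu1 hv1 hne.symm] at hy
    rcases (h.mem_lineOf (hl.1 hu) (hl.1 hv)).1 hy with rfl | rfl | rfl | rfl
    · exact Commute.one_left _
    · exact eu
    · exact ev
    · exact eu.mul_left ev

/-- Inverted elements of `H / O(H)` lift to inverted elements. -/
theorem inverted_lift {ℓ : Subgroup G} (hl : IsLine T ℓ) {q : ↥H ⧸ Cfsg.oddCore ↥H}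
    (hq : q ∈ inverted (img H T) (img H ℓ)) : ∃ a : ↥H, (a : G) ∈ inverted T ℓ ∧ qmap H a = q := by
  obtain ⟨r, hr, hrl⟩ := h.exists_lift_commute hTH hl hq.2.1
  -- replace `r` by its odd part
  obtain ⟨k, m, hm, he⟩ := Nat.exists_eq_two_pow_mul_odd (orderOf_pos r).ne'
  obtain ⟨i, hi⟩ : ∃ i : ℕ, ((qmap H r) ^ (2 ^ k)) ^ i = qmap H r := by
    rw [hr]
    refine exists_pow_eq_self_of_coprime (Nat.Coprime.pow_left _ (Nat.coprime_two_left.2 hq.1))
  set s := ((r ^ (2 ^ k)) ^ i) with hs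
  have hso : Odd (orderOf (s : G)) := by
    rw [Subgroup.orderOf_coe, hs]
    refine Odd.of_dvd_nat ?_ (orderOf_pow_dvd i)
    rw [orderOf_pow, he, Nat.gcd_eq_right (dvd_mul_right _ _),
      Nat.mul_div_cancel_left _ (by positivity)]
    exact hm
  have hsq : qmap H s = q := by rw [hs, map_pow, map_pow, hi, hr]
  have hsl : ∀ y ∈ ℓ, Commute y (s : G) := fun y hy => by
    rw [hs, SubmonoidClass.coe_pow, SubmonoidClass.coe_pow]
    exact ((hrl y hy).pow_right _).pow_right _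
  obtain ⟨d, hd, hdl⟩ := h.exists_not_mem hl
  set dh : ↥H := ⟨d, hTH hd⟩
  set b := s * (dh * s * dh⁻¹)⁻¹ with hb
  have hsd : qmap H (dh * s * dh⁻¹) = q⁻¹ := by
    rw [map_mul, map_mul, map_inv, hsq]
    exact hq.2.2 _ ((mem_img hTH).2 ⟨dh, hd, rfl⟩) fun e => hdl (h.mem_of_qmap_mem hTH hl.1 hd e)
  have hbq : qmap H b = q * q := by rw [hb, map_mul, map_inv, hsd, hsq, inv_inv]
  have hbinv : dh * b * dh⁻¹ = b⁻¹ := by
    have e2 : dh⁻¹ = dh := Subtype.ext (h.inv_eq hd)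
    rw [hb]
    calc dh * (s * (dh * s * dh⁻¹)⁻¹) * dh⁻¹ = dh * s * dh⁻¹ * (dh * dh * s⁻¹ * (dh * dh)⁻¹) := by group
      _ = (s * (dh * s * dh⁻¹)⁻¹)⁻¹ := by
        rw [show dh * dh = 1 from Subtype.ext (h.sq d hd)]; group
  -- an odd power of `b` inverted by `d`, a square root of its image
  obtain ⟨k', m', hm', he'⟩ := Nat.exists_eq_two_pow_mul_odd (orderOf_pos b).ne'
  obtain ⟨i', hi'⟩ : ∃ i' : ℕ, (((q * q)) ^ (2 ^ k')) ^ i' = q := by
    rw [← pow_two, ← pow_mul (a := q) (m := 2), ← pow_succ']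
    exact exists_pow_eq_self_of_coprime (Nat.Coprime.pow_left _ (Nat.coprime_two_left.2 hq.1))
  set a := ((b ^ (2 ^ k')) ^ i') with ha
  have haq : qmap H a = q := by rw [ha, map_pow, map_pow, hbq, hi']
  have hao : Odd (orderOf (a : G)) := by
    rw [Subgroup.orderOf_coe, ha]
    refine Odd.of_dvd_nat ?_ (orderOf_pow_dvd i')
    rw [orderOf_pow, he', Nat.gcd_eq_right (dvd_mul_right _ _),
      Nat.mul_div_cancel_left _ (by positivity)]
    exact hm'
  refine ⟨a, h.mem_inverted_of hl hao (fun y hy => ?_) hd hdl ?_, haq⟩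
  · have hyd : Commute y d := h.comm (hl.1 hy) hd
    have hby : Commute y (b : G) := by
      rw [hb]
      simp only [Subgroup.coe_mul, Subgroup.coe_inv]
      exact (hsl y hy).mul_right (((hyd.mul_right (hsl y hy)).mul_right hyd.inv_right).inv_right)
    rw [ha, SubmonoidClass.coe_pow, SubmonoidClass.coe_pow]
    exact (hby.pow_right _).pow_right _
  · have e : dh * a * dh⁻¹ = a⁻¹ := by rw [ha, ← conj_pow, ← conj_pow, hbinv, inv_pow, inv_pow]
    exact congrArg Subtype.val e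

theorem iso_img {x : G} (hx : x ∈ T) (hx1 : x ≠ 1) (hc : ∀ g ∈ H, Commute g x) :
    Iso (img H T) (qmap H ⟨x, hTH hx⟩) := by
  refine ⟨h.eight_img hTH, (mem_img hTH).2 ⟨_, hx, rfl⟩, fun e => hx1 ?_, ?_, LocalB.oddCore_quotient⟩
  · exact congrArg Subtype.val (h.qmap_inj hTH (a := ⟨x, hTH hx⟩) (b := 1) hx (one_mem T)
      (e.trans (map_one _).symm))
  · refine mem_center_iff.2 fun q => ?_
    obtain ⟨g, rfl⟩ := QuotientGroup.mk'_surjective _ q
    rw [← map_mul, ← map_mul]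
    exact congrArg _ (Subtype.ext (hc g g.2).eq)

/-- The normaliser of `T` covers the normaliser of its image. -/
theorem normalizer_lift {q : ↥H ⧸ Cfsg.oddCore ↥H}
    (hq : q ∈ normalizer (img H T : Set (↥H ⧸ Cfsg.oddCore ↥H))) :
    ∃ n : ↥H, (n : G) ∈ normalizer (T : Set G) ∧ qmap H n = q := by
  haveI : Fact (Nat.Prime 2) := ⟨Nat.prime_two⟩
  obtain ⟨r, hr⟩ := QuotientGroup.mk'_surjective _ q
  obtain ⟨S, hS⟩ := h.sylowIn hTH
  set U := (S : Subgroup ↥H) ⊔ (Cfsg.oddCore ↥H) with hU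
  have hrU : ∀ y ∈ U, r * y * r⁻¹ ∈ U := by
    intro y hy
    have e : U = (img H T).comap (qmap H) := by
      rw [img, comap_map_eq, QuotientGroup.ker_mk', hU, hS]
    rw [e, mem_comap] at hy ⊢
    rw [map_mul, map_mul, map_inv, show qmap H r = q from hr]
    exact (mem_normalizer_iff.1 hq _).1 hy
  have hSU : (S : Subgroup ↥H) ≤ U := le_sup_left
  have hle : (r • S : Sylow 2 ↥H) ≤ U := by
    intro y hy
    rw [Sylow.coe_subgroup_smul] at hy
    obtain ⟨z, hz, rfl⟩ := hy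
    exact hrU z (hSU hz)
  obtain ⟨w, hw⟩ := MulAction.exists_smul_eq ↥U ((r • S).subtype hle) (S.subtype hSU)
  have hw' : ((w : ↥H) * r) • S = S := by
    have h2 : w • (r • S) = S := Sylow.subtype_injective ((Sylow.smul_subtype hle w).symm.trans hw)
    rw [mul_smul]
    exact h2
  obtain ⟨o, ho, s, hs, hwe⟩ : ∃ o ∈ (Cfsg.oddCore ↥H), ∃ s ∈ (S : Subgroup ↥H), (w : ↥H) = o * s := by
    have hw2 : (w : ↥H) ∈ (Cfsg.oddCore ↥H) ⊔ (S : Subgroup ↥H) := by
      rw [sup_comm]; exact w.2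
    have : (w : ↥H) ∈ (((Cfsg.oddCore ↥H) : Set ↥H) * ((S : Subgroup ↥H) : Set ↥H)) := by
      rw [← normal_mul]; exact hw2
    obtain ⟨o, ho, s, hs, e⟩ := this
    exact ⟨o, ho, s, hs, e.symm⟩
  have hn' := Sylow.smul_eq_iff_mem_normalizer.1 hw'
  set n := s⁻¹ * ((w : ↥H) * r) with hn
  have hnN : n ∈ normalizer ((S : Subgroup ↥H) : Set ↥H) :=
    mul_mem (inv_mem (le_normalizer hs)) hn'
  refine ⟨n, ?_, ?_⟩
  · refine mem_normalizer_iff.2 fun y => ?_
    have key : ∀ m : ↥H, m ∈ normalizer ((S : Subgroup ↥H) : Set ↥H) → ∀ y ∈ T, (m : G) * y * (m : G)⁻¹ ∈ T :=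
      fun m hm y hy => by
        have := (mem_normalizer_iff.1 hm ⟨y, hTH hy⟩).1 (by rw [hS]; exact hy)
        rw [hS] at this
        exact this
    refine ⟨key n hnN y, fun hy => ?_⟩
    have := key n⁻¹ (inv_mem hnN) _ hy
    simpa [mul_assoc] using this
  · have e : n = s⁻¹ * o * s * r := by rw [hn, hwe]; group
    have h1 : qmap H o = 1 := (QuotientGroup.eq_one_iff _).2 ho
    rw [e, map_mul, map_mul, map_mul, h1, map_inv, mul_one, inv_mul_cancel, one_mul]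
    exact hr

end Eight

end CfsgLib.EightCore
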