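import Cfsg.Agent.EightCore.IsoBase
import Cfsg.Agent.EightCore.Quot
import Cfsg.Agent.EightCore.Local
import Cfsg.Agent.EightCore.Lifting
import Cfsg.Agent.EightCore.PSLFacts
import Cfsg.Agent.Solvable.CoprimeAct

/-!
# Simple groups with Sylow 2-subgroups `E₈`: elements of odd prime order in an involution centraliser
-/

set_option autoImplicit false
set_option linter.unusedSectionVars false
set_option linter.unusedVariables false
set_option linter.style.haveILetI false

namespace CfsgLib.EightCore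

open Subgroup
open CfsgLib.Linear.SmallSub (P2)
open CfsgLib.NormCyclic (Inv)

universe u

/-- The running hypotheses: abelian subgroups of equal prime power order are related by automorphisms and
no centraliser of an involution is solvable. -/
structure Hyp {X : Type u} [Group X] (T : Subgroup X) : Prop extends Eight T where
  aut : AutConj X
  hard : ∀ t ∈ T, t ≠ 1 → ¬ Group.IsSolvable ↥(centralizer ({t} : Set X))

variable {X : Type u} [Group X] [Finite X] {T : Subgroup X}

/-- The image of `t` in the quotient of its centraliser. -/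
abbrev zbar (t : X) : ↥(centralizer ({t} : Set X)) ⧸ Cfsg.oddCore ↥(centralizer ({t} : Set X)) :=
  qmap _ ⟨t, mem_centralizer_singleton_iff.2 rfl⟩

/-- The shape of the centraliser of `t`. -/
abbrev Shape (T : Subgroup X) (t : X) :=
  Iso.PSLData (img (centralizer ({t} : Set X)) T) (zbar t)

theorem isPGroup_zpowers_of_orderOf {p : ℕ} {a : X} (h : orderOf a = p) : IsPGroup p (zpowers a) :=
  IsPGroup.of_card (n := 1) (by rw [Nat.card_zpowers, h, pow_one])

theorem AutConj.card_centralizer_elem (hA : AutConj X) {p : ℕ} [Fact p.Prime] {a b : X}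
    (ha : orderOf a = p) (hb : orderOf b = p) :
    Nat.card (centralizer (zpowers a : Set X)) = Nat.card (centralizer (zpowers b : Set X)) :=
  hA.card_centralizer (p := p) (isPGroup_zpowers_of_orderOf ha) (isPGroup_zpowers_of_orderOf hb)
    inferInstance inferInstance (by rw [Nat.card_zpowers, Nat.card_zpowers, ha, hb])

local notation "C⟪" t "⟫" => centralizer ({t} : Set _)

namespace Eight

variable (hT : Eight T)

include hT

/-- Every 2-subgroup is conjugate into `T`. -/
theorem exists_conj_mem {R : Subgroup X} (hR : IsPGroup 2 R) : ∃ g : X, ∀ y ∈ R, g * y * g⁻¹ ∈ T := by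
  haveI : Fact (Nat.Prime 2) := ⟨Nat.prime_two⟩
  obtain ⟨Q, hQ⟩ := hR.exists_le_sylow
  obtain ⟨S, hS⟩ := hT.sylow
  obtain ⟨g, hg⟩ := MulAction.exists_smul_eq X Q S
  refine ⟨g, fun y hy => ?_⟩
  rw [← hS, ← hg]
  exact ⟨y, hQ hy, rfl⟩

theorem two_sq {R : Subgroup X} (hR : IsPGroup 2 R) {y : X} (hy : y ∈ R) : y * y = 1 := by
  obtain ⟨g, hg⟩ := hT.exists_conj_mem hR
  have h := hT.sq _ (hg y hy)
  rw [conj_mul, conj_eq_one_iff] at h
  exact h

theorem two_comm {R : Subgroup X} (hR : IsPGroup 2 R) {y z : X} (hy : y ∈ R) (hz : z ∈ R) : Commute y z := by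
  obtain ⟨g, hg⟩ := hT.exists_conj_mem hR
  exact (Commute.conj_iff g).1 (hT.comm (hg y hy) (hg z hz))

theorem le_cent {t : X} (ht : t ∈ T) : T ≤ centralizer ({t} : Set X) := fun _ hx =>
  mem_centralizer_singleton_iff.2 (hT.comm hx ht).eq

/-- An even centraliser of 2-part at least four has a second involution commuting with a given one. -/
theorem exists_invol_ne {A : Subgroup X} {t : X} (ho : orderOf t = 2) (htA : t ∈ centralizer (A : Set X))
    (h4 : 4 ∣ Nat.card (centralizer (A : Set X))) :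
    ∃ y, orderOf y = 2 ∧ y ≠ t ∧ Commute y t ∧ y ∈ centralizer (A : Set X) := by
  haveI : Fact (Nat.Prime 2) := ⟨Nat.prime_two⟩
  set D := centralizer (A : Set X)
  obtain ⟨Q, hQ⟩ := (isPGroup_zpowers_of_orderOf
    (show orderOf (⟨t, htA⟩ : D) = 2 by rw [← orderOf_coe]; exact ho)).exists_le_sylow
  have htQ : (⟨t, htA⟩ : D) ∈ (Q : Subgroup D) := hQ (mem_zpowers _)
  have h4Q : 4 ∣ Nat.card (Q : Subgroup D) := Q.pow_dvd_card_of_pow_dvd_card (n := 2) h4
  have hR : IsPGroup 2 ((Q : Subgroup D).map D.subtype) := Q.2.map _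
  obtain ⟨⟨q, hq⟩, hqne⟩ : ∃ q : (Q : Subgroup D), (q : D) ≠ 1 ∧ (q : D) ≠ ⟨t, htA⟩ := by
    by_contra hcon
    push Not at hcon
    have hle : (Q : Subgroup D) ≤ zpowers (⟨t, htA⟩ : D) := fun q hq => by
      by_cases h1 : q = 1
      · rw [h1]; exact one_mem _
      · rw [show q = _ from hcon ⟨q, hq⟩ h1]; exact mem_zpowers _
    have := h4Q.trans (card_dvd_of_le hle)
    rw [Nat.card_zpowers, ← orderOf_coe, show ((⟨t, htA⟩ : D) : X) = t from rfl, ho] at this
    norm_num at this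
  have hqR : (q : X) ∈ (Q : Subgroup D).map D.subtype := ⟨q, hq, rfl⟩
  exact ⟨q, orderOf_eq_prime (by rw [pow_two]; exact hT.two_sq hR hqR) fun e => hqne.1 (Subtype.ext e),
    fun e => hqne.2 (Subtype.ext e), hT.two_comm hR hqR ⟨_, htQ, rfl⟩, q.2⟩

end Eight

namespace Hyp

variable (h : Hyp T) {t : X} (ht : t ∈ T) (ht1 : t ≠ 1)

include h ht ht1

theorem iso : Iso (img (centralizer ({t} : Set X)) T) (zbar t) :=
  h.toEight.iso_img (h.toEight.le_cent ht) ht ht1 fun _ hg => mem_centralizer_singleton_iff.1 hg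

theorem shape : Nonempty (Shape T t) := by
  refine (h.iso ht ht1).shape.resolve_left fun hn => h.hard t ht ht1 ?_
  have h8 := h.toEight.eight_img (h.toEight.le_cent ht)
  set C := centralizer ({t} : Set X)
  haveI := hn
  haveI : Fact (Nat.Prime 2) := ⟨Nat.prime_two⟩
  haveI := h8.isPGroup.isNilpotent
  haveI : Group.IsSolvable ((↥C ⧸ Cfsg.oddCore ↥C) ⧸ img C T) :=
    OddEnd.odd_solvable _ (h8.odd_index_of_le le_rfl)
  haveI : Group.IsSolvable (↥C ⧸ Cfsg.oddCore ↥C) :=
    (Group.isSolvable_iff_subgroup_quotient (img C T)).2 ⟨inferInstance, inferInstance⟩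
  haveI : Group.IsSolvable (Cfsg.oddCore ↥C) := OddEnd.odd_solvable _ (DGroup.odd_oddCore _)
  exact (Group.isSolvable_iff_subgroup_quotient (Cfsg.oddCore ↥C)).2 ⟨inferInstance, inferInstance⟩

end Hyp

section Data

variable (h : Hyp T) {t : X} (ht : t ∈ T) (ht1 : t ≠ 1) (D : Shape T t)

theorem Shape.odd : Odd (Fintype.card D.F) := Nat.odd_iff.2 (by have := D.h8; omega)

theorem Shape.simple : IsSimpleGroup (P2 D.F) :=
  CfsgLib.Linear.isSimpleGroup_PSL (Or.inr (CfsgLib.Linear.Small.exists_sq_ne_one (F := D.F) (by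
    have := D.h5; omega)))

include h ht ht1

theorem Shape.zbar_comm (g : ↥(centralizer ({t} : Set X)) ⧸ Cfsg.oddCore ↥(centralizer ({t} : Set X))) :
    Commute (zbar t) g := (mem_center_iff.1 (h.iso ht ht1).central g).symm

theorem Shape.range_conj (g : ↥(centralizer ({t} : Set X)) ⧸ Cfsg.oddCore ↥(centralizer ({t} : Set X)))
    (s : P2 D.F) : ∃ s', g * D.ι s * g⁻¹ = D.ι s' ∧ orderOf s' = orderOf s := by
  obtain ⟨s', hs'⟩ := D.norm.conj_mem _ ⟨s, rfl⟩ g
  refine ⟨s', hs'.symm, ?_⟩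
  rw [← orderOf_injective D.ι D.inj, hs', ← orderOf_injective D.ι D.inj s]
  exact MulEquiv.orderOf_eq (MulAut.conj g) _

/-- The image of an involution other than `t` in the centraliser of `t`. -/
theorem Shape.invol_image {y : ↥(centralizer ({t} : Set X))} (hy : orderOf (y : X) = 2) (hyt : (y : X) ≠ t) :
    ∃ v : P2 D.F, Inv v ∧ (qmap _ y = D.ι v ∨ qmap _ y = zbar t * D.ι v) := by
  haveI : Fact (Nat.Prime 2) := ⟨Nat.prime_two⟩
  have hTC := h.toEight.le_cent ht
  have hyo : orderOf y = 2 := by rw [← orderOf_coe]; exact hy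
  obtain ⟨S, hS⟩ := h.toEight.sylowIn hTC
  obtain ⟨Q, hQ⟩ := (isPGroup_zpowers_of_orderOf hyo).exists_le_sylow
  obtain ⟨g, hg⟩ := MulAction.exists_smul_eq ↥C⟪t⟫ Q S
  have hd : g * y * g⁻¹ ∈ T.subgroupOf C⟪t⟫ := by
    rw [← hS, ← hg]
    exact ⟨y, hQ (mem_zpowers _), rfl⟩
  set d := g * y * g⁻¹
  have hd1 : d ≠ 1 := fun e => by
    rw [conj_eq_one_iff.1 e, orderOf_one] at hyo; omega
  have hdt : (d : X) ≠ t := fun e => hyt (by
    have h1 : (g : X) * y * (g : X)⁻¹ = t := e
    have h2 : (g : X) * t = t * g := mem_centralizer_singleton_iff.1 g.2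
    calc (y : X) = (g : X)⁻¹ * ((g : X) * y * (g : X)⁻¹) * g := by group
      _ = (g : X)⁻¹ * t * g := by rw [h1]
      _ = t := by rw [mul_assoc, ← h2, inv_mul_cancel_left])
  change (d : X) ∈ T at hd
  obtain ⟨s, hs, hsd⟩ := D.decomp (qmap C⟪t⟫ d) ((mem_img hTC).2 ⟨d, hd, rfl⟩)
  have hs1 : s ≠ 1 := by
    rintro rfl
    rw [map_one, mul_one] at hsd
    rcases hsd with e | e
    · exact hd1 (h.toEight.qmap_inj hTC hd (one_mem T) (by rw [e, map_one]))
    · exact hdt (congrArg Subtype.val (h.toEight.qmap_inj hTC hd (b := ⟨t, hTC ht⟩) ht e))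
  have hss : s * s = 1 := by
    rcases hs with e | e | e | e <;> rw [e]
    · rw [mul_one]
    · exact D.hv.1
    · exact D.hw.1
    · exact (D.hv.mul D.hw D.hvw D.hne).1
  have hy' : qmap C⟪t⟫ y = (qmap C⟪t⟫ g)⁻¹ * qmap C⟪t⟫ d * (qmap C⟪t⟫ g)⁻¹⁻¹ := by
    rw [← map_inv, ← map_inv, ← map_mul, ← map_mul]
    congr 1
    simp [d, mul_assoc]
  obtain ⟨v, hv, hvo⟩ := Shape.range_conj h ht ht1 D (qmap C⟪t⟫ g)⁻¹ s
  have hvI : Inv v := Inv.of_orderOf (hvo.trans (orderOf_eq_prime (by rw [pow_two]; exact hss) hs1))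
  refine ⟨v, hvI, ?_⟩
  rcases hsd with e | e <;> rw [hy', e]
  · exact Or.inl hv
  · refine Or.inr ?_
    rw [← hv, ← mul_assoc, ← mul_assoc, ← (Shape.zbar_comm h ht ht1 (qmap C⟪t⟫ g)⁻¹).eq, mul_assoc (zbar t),
      mul_assoc (zbar t)]

/-- An involution of the centraliser commuting with an element lying over `PSL₂`. -/
theorem Shape.invol_commute {y : ↥(centralizer ({t} : Set X))} (hy : orderOf (y : X) = 2) (hyt : (y : X) ≠ t)
    {a : ↥(centralizer ({t} : Set X))} {s : P2 D.F} (ha : qmap _ a = D.ι s) (hc : Commute (y : X) (a : X)) :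
    ∃ v : P2 D.F, Inv v ∧ Commute v s ∧ (qmap _ y = D.ι v ∨ qmap _ y = zbar t * D.ι v) := by
  obtain ⟨v, hv, hyv⟩ := Shape.invol_image h ht ht1 D hy hyt
  have hc' : Commute (qmap _ y) (D.ι s) := ha ▸ (show Commute y a from Subtype.ext hc.eq).map _
  refine ⟨v, hv, D.inj ?_, hyv⟩
  rw [map_mul, map_mul]
  rcases hyv with e | e <;> rw [e] at hc'
  · exact hc'.eq
  · have h1 := ((Shape.zbar_comm h ht ht1 (D.ι s)).inv_left).mul_left hc'
    rw [inv_mul_cancel_left] at h1
    exact h1.eq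

/-- Elements of order `r` over `PSL₂`. -/
theorem Shape.exists_lift {r : ℕ} [hr : Fact r.Prime] (hr2 : r ≠ 2) (hd : r ∣ Nat.card (P2 D.F)) :
    ∃ (a : ↥(centralizer ({t} : Set X))) (s : P2 D.F), orderOf (a : X) = r ∧ qmap _ a = D.ι s ∧ orderOf s = r := by
  set C := centralizer ({t} : Set X)
  haveI := D.norm
  haveI := Shape.simple D
  let e : P2 D.F ≃* D.ι.range := MonoidHom.ofInjective D.inj
  haveI : IsSimpleGroup D.ι.range := e.symm.isSimpleGroup
  have hns : ¬ Group.IsSolvable D.ι.range := fun hs => by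
    haveI := hs
    have hsol : Group.IsSolvable (P2 D.F) :=
      Group.isSolvable_of_isSolvable_injective (f := e.toMonoidHom) e.injective
    have hcomm := (IsSimpleGroup.comm_iff_isSolvable (G := P2 D.F)).2 hsol
    exact PSL.not_commute_u (Shape.odd D) D.hv (one_ne_zero (α := D.F)) (hcomm D.v _)
  have hexp : EqOrder.RankOneAt r ↥C ∨ ∀ x : ↥C, (∃ j, orderOf x = r ^ j) → x ^ r = 1 := by
    by_cases hp : ∃ a b : X, Pair r a b
    · obtain ⟨a, b, hab⟩ := hp
      refine Or.inr fun x ⟨j, hj⟩ => Subtype.ext ?_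
      rw [SubmonoidClass.coe_pow, OneMemClass.coe_one]
      exact h.aut.orderOf_le hab (k := j) (by rw [orderOf_coe, hj])
    · refine Or.inl (EqOrder.RankOneAt.of_injective (G := X) ?_ C.subtype C.subtype_injective)
      intro P hP x hx y hy hxo hyo
      by_contra hn
      by_cases hc : Commute x y
      · exact hp ⟨x, y, hxo, hyo, hc, hn⟩
      -- a central element of order `r` gives a pair
      haveI : Nontrivial P := ⟨⟨⟨x, hx⟩, 1, fun e => by
        rw [show x = 1 from congrArg Subtype.val e, orderOf_one] at hxo; exact hr.out.ne_one hxo.symm⟩⟩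
      haveI := hP.center_nontrivial
      obtain ⟨z, hz⟩ := exists_prime_orderOf_dvd_card' (G := center P) r (by
        obtain ⟨j, hj⟩ := IsPGroup.iff_card.1 (hP.to_subgroup (center P))
        rw [hj]
        refine dvd_pow_self r fun e => ?_
        rw [e, pow_zero] at hj
        exact (ne_of_gt Finite.one_lt_card) hj)
      have hzo : orderOf ((z : P) : X) = r := by rw [orderOf_coe, orderOf_coe, hz]
      have hzx : Commute ((z : P) : X) x := (congrArg Subtype.val (mem_center_iff.1 z.2 ⟨x, hx⟩)).symm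
      by_cases hxz : x ∈ zpowers ((z : P) : X)
      · obtain ⟨i, hi⟩ := mem_zpowers_iff.1 hxz
        have hzy : Commute ((z : P) : X) y := (congrArg Subtype.val (mem_center_iff.1 z.2 ⟨y, hy⟩)).symm
        exact hc (hi ▸ hzy.zpow_left i)
      · exact hp ⟨_, x, hzo, hxo, hzx, hxz⟩
  obtain ⟨a, hao, ⟨s, hs⟩, ha1⟩ := exists_lift_order hr2 (qmap C) (QuotientGroup.mk'_surjective _) D.ι.range hns
    (by rwa [← Nat.card_congr e.toEquiv]) hexp
  refine ⟨a, s, by rw [orderOf_coe, hao], hs.symm, ?_⟩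
  rw [← orderOf_injective D.ι D.inj, hs]
  refine orderOf_eq_prime ?_ ha1
  rw [← map_pow, ← hao, pow_orderOf_eq_one, map_one]

/-- No element of order `r ∣ |PSL₂(q)|` centralises `T`. -/
theorem Shape.noFixed {r : ℕ} [hr : Fact r.Prime] (hr2 : r ≠ 2) (hd : r ∣ Nat.card (P2 D.F)) :
    NoFixed T r := by
  intro c hc hcT
  set C := centralizer ({t} : Set X)
  haveI : Fact (Nat.Prime 2) := ⟨Nat.prime_two⟩
  have hTC := h.toEight.le_cent ht
  obtain ⟨a, s, hao, has, hso⟩ := Shape.exists_lift h ht ht1 D hr2 hd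
  set A := centralizer (zpowers (a : X) : Set X)
  have h8 : 8 ∣ Nat.card A := by
    rw [h.aut.card_centralizer_elem hao hc, ← h.card]
    exact card_dvd_of_le fun v hv => mem_centralizer_zpowers (hcT v hv).symm
  have htA : t ∈ A := mem_centralizer_zpowers (mem_centralizer_singleton_iff.1 a.2)
  have hto := h.toEight.orderOf_eq_two ht ht1
  obtain ⟨Q, hQ⟩ := (isPGroup_zpowers_of_orderOf
    (show orderOf (⟨t, htA⟩ : A) = 2 by rw [← orderOf_coe]; exact hto)).exists_le_sylow
  have h8Q : 8 ∣ Nat.card (Q : Subgroup A) := Q.pow_dvd_card_of_pow_dvd_card (n := 3) h8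
  set R := (Q : Subgroup A).map A.subtype with hRdef
  have hR : IsPGroup 2 R := Q.2.map _
  have htR : t ∈ R := ⟨_, hQ (mem_zpowers _), rfl⟩
  have hRC : R ≤ C := fun y hy => mem_centralizer_singleton_iff.2 (h.toEight.two_comm hR hy htR).eq
  obtain ⟨S, hS⟩ := h.toEight.sylowIn hTC
  obtain ⟨W, hW⟩ := (hR.comap_subtype (K := C)).exists_le_sylow
  obtain ⟨g, hg⟩ := MulAction.exists_smul_eq ↥C W S
  set R' := R.map (MulAut.conj (g : X)).toMonoidHom
  have hR' : R' = T := by
    refine eq_of_le_of_card_ge ?_ ?_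
    · rintro _ ⟨y, hy, rfl⟩
      have h1 : g * ⟨y, hRC hy⟩ * g⁻¹ ∈ T.subgroupOf C := by
        rw [← hS, ← hg]
        exact ⟨⟨y, hRC hy⟩, hW (mem_subgroupOf.2 hy), rfl⟩
      exact h1
    · rw [h.card, card_map_of_injective (MulAut.conj (g : X)).injective, hRdef,
        card_map_of_injective A.subtype_injective]
      exact Nat.le_of_dvd Nat.card_pos h8Q
  -- the conjugate of `a` centralises `T`
  set a' := g * a * g⁻¹ with ha'
  have hcomm : ∀ d : ↥C, (d : X) ∈ T → Commute a' d := by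
    intro d hd
    obtain ⟨y, hy, hyd⟩ := hR'.ge hd
    obtain ⟨y', -, rfl⟩ := hy
    have h1 : Commute (a : X) y' := mem_centralizer_iff.1 y'.2 _ (mem_zpowers _)
    refine Subtype.ext ?_
    have h2 := (Commute.conj_iff (g : X)).2 h1
    change (g : X) * y' * (g : X)⁻¹ = d at hyd
    show (g : X) * a * (g : X)⁻¹ * d = d * ((g : X) * a * (g : X)⁻¹)
    rw [← hyd]
    exact h2.eq
  obtain ⟨s', hs', hso'⟩ := Shape.range_conj h ht ht1 D (qmap C g) s
  have ha'q : qmap C a' = D.ι s' := by rw [ha', map_mul, map_mul, map_inv, has, hs']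
  have hcV : ∀ u : P2 D.F, D.ι u ∈ img C T → Commute s' u := fun u hu => by
    obtain ⟨d, hd, hdu⟩ := (mem_img hTC).1 hu
    have := (hcomm d hd).map (qmap C)
    rw [ha'q, hdu] at this
    exact D.inj (by rw [map_mul, map_mul]; exact this.eq)
  have h1 := (InvCentPSL.dhyp (Shape.odd D)).four_free D.hv D.hw D.hvw.symm D.hne.symm
    (y := s') (by rw [hso', hso]; exact hr.out.odd_of_ne_two hr2) (hcV _ D.memV) (hcV _ D.memW)
  rw [h1, orderOf_one] at hso'
  exact hr.out.ne_one (hso'.trans hso).symm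

/-- No element of order `r` is inverted on a line, if `r` divides `|PSL₂(q)|` but no centraliser of an
involution in it. -/
theorem Shape.noWeight {r : ℕ} [hr : Fact r.Prime] (hr2 : r ≠ 2) (hd : r ∣ Nat.card (P2 D.F))
    (hnc : ∀ v : P2 D.F, Inv v → ¬ r ∣ Nat.card (centralizer ({v} : Set (P2 D.F))))
    {ℓ : Subgroup X} (hl : IsLine T ℓ) {b : X} (hb : b ∈ inverted T ℓ) : orderOf b ≠ r := by
  intro hbo
  obtain ⟨a, s, hao, has, hso⟩ := Shape.exists_lift h ht ht1 D hr2 hd
  have hb1 : b ≠ 1 := fun e => by rw [e, orderOf_one] at hbo; exact hr.out.ne_one hbo.symm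
  have h4 := (h.toEight.weight_four hl hb hb1).1
  rw [h.aut.card_centralizer_elem hbo hao] at h4
  obtain ⟨y, hy, hyt, hyc, hyA⟩ := h.toEight.exists_invol_ne (h.toEight.orderOf_eq_two ht ht1)
    (mem_centralizer_zpowers (mem_centralizer_singleton_iff.1 a.2)) h4
  obtain ⟨v, hv, hvs, -⟩ := Shape.invol_commute h ht ht1 D
    (y := ⟨y, mem_centralizer_singleton_iff.2 hyc.eq⟩) hy hyt has
    (mem_centralizer_iff.1 hyA _ (mem_zpowers _)).symm
  refine hnc v hv ?_
  rw [← hso]
  exact Subgroup.orderOf_dvd_natCard _ (mem_centralizer_singleton_iff.2 hvs.eq.symm)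

/-- Such primes do not divide the order of the odd core. -/
theorem Shape.not_dvd_core {r : ℕ} [hr : Fact r.Prime] (hr2 : r ≠ 2) (hd : r ∣ Nat.card (P2 D.F))
    (hnc : ∀ v : P2 D.F, Inv v → ¬ r ∣ Nat.card (centralizer ({v} : Set (P2 D.F)))) :
    ¬ r ∣ Nat.card (DGroup.coreIn (centralizer ({t} : Set X))) := by
  intro hdiv
  set O := DGroup.coreIn (centralizer ({t} : Set X))
  have hO : Odd (Nat.card O) := DGroup.odd_coreIn _
  have hTO : T ≤ normalizer (O : Set X) := (h.toEight.le_cent ht).trans (DGroup.normalizer_coreIn _)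
  haveI : Fact (Nat.Prime 2) := ⟨Nat.prime_two⟩
  haveI := h.toEight.isPGroup.isNilpotent
  obtain ⟨Q, hQ⟩ := CoprimeAct.exists_invariant_sylow (A := T) (K := O) hTO
    (h.card ▸ (Nat.coprime_two_left.2 hO).pow_left 3) (Or.inl inferInstance) r
  obtain ⟨ℓ, hl, b, -, hb, hbo⟩ := h.toEight.exists_weight (p := r) hr2 (Q.2.map O.subtype)
    (fun e => Sylow.ne_bot_of_dvd_card Q hdiv ((map_eq_bot_iff_of_injective _ O.subtype_injective).1 e))
    hQ (Shape.noFixed h ht ht1 D hr2 hd)
  exact Shape.noWeight h ht ht1 D hr2 hd hnc hl hb hbo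

end Data

end CfsgLib.EightCore
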