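import Cfsg.Agent.EightCore.FactorEnd
import Cfsg.Agent.Bender.StructureMain

/-!
# Simple groups with Sylow 2-subgroups `E₈`: the involution centralisers are core-free
-/

set_option autoImplicit false
set_option linter.unusedSectionVars false
set_option linter.unusedVariables false
set_option linter.style.haveILetI false

namespace CfsgLib.EightCore

open Subgroup

universe u

variable {X : Type u} [Group X] [Finite X] {T : Subgroup X}

namespace Hyp

variable (h : Hyp T)

include h

/-- A subgroup containing the normaliser of `T` and the centralisers of its involutions is everything. -/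
theorem eq_top_of_centralizers {H : Subgroup X} (hN : normalizer (T : Set X) ≤ H)
    (hC : ∀ e ∈ T, e ≠ 1 → centralizer ({e} : Set X) ≤ H) : H = ⊤ := by
  haveI : Fact (Nat.Prime 2) := ⟨Nat.prime_two⟩
  by_contra hH
  have hTH : T ≤ H := le_normalizer.trans hN
  obtain ⟨S, hS⟩ := h.sylow
  obtain ⟨SH, hSH⟩ := h.toEight.sylowIn hTH
  have inT : ∀ x ∈ H, orderOf x = 2 → ∃ g ∈ H, g * x * g⁻¹ ∈ T := by
    intro x hx ho
    obtain ⟨Q, hQ⟩ := (isPGroup_zpowers_of_orderOf
      (show orderOf (⟨x, hx⟩ : H) = 2 by rw [← orderOf_coe]; exact ho)).exists_le_sylow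
    obtain ⟨g, hg⟩ := MulAction.exists_smul_eq H Q SH
    refine ⟨g, g.2, ?_⟩
    have : g * ⟨x, hx⟩ * g⁻¹ ∈ T.subgroupOf H := by
      rw [← hSH, ← hg]; exact ⟨⟨x, hx⟩, hQ (mem_zpowers _), rfl⟩
    exact this
  have heven : Even (Nat.card H) := even_iff_two_dvd.2 ((show (2 : ℕ) ∣ 8 by norm_num).trans
    (h.card ▸ card_dvd_of_le hTH))
  have hse : Cfsg.IsStronglyEmbedded H := by
    refine ⟨hH, heven, fun g hg => Nat.not_even_iff_odd.1 fun hev => hg ?_⟩
    obtain ⟨w, ho⟩ := exists_prime_orderOf_dvd_card' 2 (even_iff_two_dvd.1 hev)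
    rw [← orderOf_coe] at ho
    obtain ⟨u, hu, hus⟩ := w.2.2
    have hgu : g * u * g⁻¹ = (w : X) := hus
    have huo : orderOf u = 2 := by rw [← ho, ← hgu, Invol.orderOf_conj_eq]
    obtain ⟨h1, hh1, he⟩ := inT u hu huo
    obtain ⟨h2, hh2, hf⟩ := inT (w : X) w.2.1 ho
    set e := h1 * u * h1⁻¹ with hedef
    set f := h2 * (w : X) * h2⁻¹ with hfdef
    set k := h2 * g * h1⁻¹ with hkdef
    have hk : k * e * k⁻¹ = f := by rw [hkdef, hedef, hfdef, ← hgu]; group
    have hfo : orderOf f = 2 := by rw [hfdef, Invol.orderOf_conj_eq, ho]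
    have h1' : (S : Subgroup X) ≤ centralizer {f} := fun x hx =>
      mem_centralizer_singleton_iff.2 (h.toEight.comm (hS.le hx) hf).eq
    have h2' : ((k • S : Sylow 2 X) : Subgroup X) ≤ centralizer {f} := by
      rintro _ ⟨x, hx, rfl⟩
      refine mem_centralizer_singleton_iff.2 ?_
      show k * x * k⁻¹ * f = f * (k * x * k⁻¹)
      rw [← hk, conj_mul, conj_mul, (h.toEight.comm (hS.le hx) he).eq]
    obtain ⟨c, hc⟩ := MulAction.exists_smul_eq (centralizer ({f} : Set X)) ((k • S).subtype h2') (S.subtype h1')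
    have hn : (c : X) * k ∈ normalizer ((S : Subgroup X) : Set X) := by
      refine Sylow.smul_eq_iff_mem_normalizer.1 ?_
      rw [mul_smul]
      exact Sylow.subtype_injective ((Sylow.smul_subtype h2' c).symm.trans hc)
    rw [hS] at hn
    have hkH : k ∈ H := by
      have := mul_mem (inv_mem (hC f hf (fun e => by rw [e, orderOf_one] at hfo; omega) c.2)) (hN hn)
      simpa using this
    rw [show g = h2⁻¹ * k * h1 by rw [hkdef]; group]
    exact mul_mem (mul_mem (inv_mem hh2) hkH) hh1
  obtain ⟨u, hu, hu1, v, hv, hv1, huv⟩ : ∃ u ∈ T, u ≠ 1 ∧ ∃ v ∈ T, v ≠ 1 ∧ v ≠ u := by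
    haveI : Nontrivial T := Finite.one_lt_card_iff_nontrivial.1 (by rw [h.card]; norm_num)
    obtain ⟨⟨u, hu⟩, hu1⟩ := exists_ne (1 : T)
    refine ⟨u, hu, fun e => hu1 (Subtype.ext e), ?_⟩
    by_contra hcon
    push Not at hcon
    have hle : T ≤ zpowers u := fun v hv => by
      by_cases hv1 : v = 1
      · rw [hv1]; exact one_mem _
      · rw [hcon v hv hv1]; exact mem_zpowers _
    have := Subgroup.card_le_of_le hle
    rw [h.card, Nat.card_zpowers, h.toEight.orderOf_eq_two hu fun e => hu1 (Subtype.ext e)] at this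
    omega
  haveI := Bender.Consumers.isSolvable Bender.Consumers.structure_all hse
    ⟨u, v, h.toEight.orderOf_eq_two hu hu1, h.toEight.orderOf_eq_two hv hv1, huv.symm, h.toEight.comm hu hv⟩
  exact h.hard u hu hu1 (Group.isSolvable_of_isSolvable_injective (inclusion_injective (hC u hu hu1)))

/-- The odd core of an involution centraliser commutes with `T`. -/
theorem commute_core {t : X} (ht : t ∈ T) (ht1 : t ≠ 1) {c : X}
    (hc : c ∈ DGroup.coreIn (centralizer ({t} : Set X))) : ∀ v ∈ T, Commute v c := by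
  intro v hv
  by_cases hv1 : v = 1
  · rw [hv1]; exact Commute.one_left c
  rcases factor_or_commute t with hall | ⟨⟨Φ⟩⟩
  · obtain ⟨d, hd, rfl⟩ := hc
    have := hall ⟨v, h.toEight.le_cent ht hv⟩ (h.toEight.orderOf_eq_two hv hv1) d hd
    exact congrArg Subtype.val this.eq
  · exact (Φ.false h ht ht1).elim

/-- The centralisers of the involutions of `T` are core-free. -/
theorem coreFree [IsSimpleGroup X] {t : X} (ht : t ∈ T) (ht1 : t ≠ 1) :
    DGroup.coreIn (centralizer ({t} : Set X)) = ⊥ := by
  set W := DGroup.coreIn (centralizer ({t} : Set X)) with hW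
  have hodd : ∀ {c}, c ∈ W → Odd (orderOf c) := fun hc => DGroup.odd_orderOf (DGroup.odd_coreIn _) hc
  have heq : ∀ y ∈ T, y ≠ 1 → DGroup.coreIn (centralizer ({y} : Set X)) = W := fun y hy hy1 =>
    le_antisymm
      (fun c hc => h.commute_T_mem_core ht ht1 (DGroup.odd_orderOf (DGroup.odd_coreIn _) hc) (h.commute_core hy hy1 hc))
      (fun c hc => h.commute_T_mem_core hy hy1 (hodd hc) (h.commute_core ht ht1 hc))
  have hN : normalizer (T : Set X) ≤ normalizer (W : Set X) :=
    Signalizer.le_normalizer_of_conj_mem fun n hn c hc => by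
      refine h.commute_T_mem_core ht ht1 ?_ fun v hv => ?_
      · rw [Invol.orderOf_conj_eq]; exact hodd hc
      · have hv' : n⁻¹ * v * n ∈ T := by
          have := h.toEight.conj_mem (inv_mem hn) hv
          rwa [inv_inv] at this
        have := (Commute.conj_iff n).2 (h.commute_core ht ht1 hc _ hv')
        rwa [show n * (n⁻¹ * v * n) * n⁻¹ = v by group] at this
  have htop := h.eq_top_of_centralizers hN fun e he he1 => heq e he he1 ▸ DGroup.normalizer_coreIn _
  haveI : W.Normal := normalizer_eq_top_iff.1 htop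
  refine (IsSimpleGroup.eq_bot_or_eq_top_of_normal W inferInstance).resolve_right fun e => ?_
  have := hodd (e ▸ mem_top t : t ∈ W)
  rw [h.toEight.orderOf_eq_two ht ht1] at this
  exact absurd this (by decide)

end Hyp

end CfsgLib.EightCore
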