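import Cfsg.Agent.DGroup.Fusion
import Cfsg.Prelude.Def_Local

/-!
# Simple groups with Sylow 2-subgroups elementary of order eight: basic notions

Lines are the four-subgroups of the elementary group `T`; `inverted T ℓ` consists of the elements of odd
order centralising the line `ℓ` and inverted by `T` outside `ℓ`.
-/

set_option autoImplicit false
set_option linter.unusedSectionVars false
set_option linter.style.haveILetI false

namespace CfsgLib.EightCore

open Subgroup

universe u

variable {G : Type u} [Group G]

/-- `ℓ` is a four-subgroup of `T`. -/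
def IsLine (T ℓ : Subgroup G) : Prop :=
  ℓ ≤ T ∧ Nat.card ℓ = 4

/-- The elements of odd order centralising `ℓ` and inverted by the elements of `T` outside `ℓ`. -/
def inverted (T ℓ : Subgroup G) : Set G :=
  {a | Odd (orderOf a) ∧ (∀ y ∈ ℓ, Commute y a) ∧ ∀ d ∈ T, d ∉ ℓ → d * a * d⁻¹ = a⁻¹}

/-- `T` is an elementary abelian Sylow 2-subgroup of order eight. -/
structure Eight (T : Subgroup G) : Prop where
  sylow : ∃ S : Sylow 2 G, (S : Subgroup G) = T
  card : Nat.card T = 8
  sq : ∀ x ∈ T, x * x = 1

/-- A core-free group with Sylow 2-subgroup `T ≅ E₈` and an involution `x ∈ T` in its centre. -/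
structure Iso (T : Subgroup G) (x : G) : Prop extends Eight T where
  mem : x ∈ T
  ne_one : x ≠ 1
  central : x ∈ center G
  core : Cfsg.oddCore G = ⊥

/-- All involutions of `T` are conjugate under its normalizer. -/
def OneClass (T : Subgroup G) : Prop :=
  ∀ x ∈ T, x ≠ 1 → ∀ y ∈ T, y ≠ 1 → ∃ n ∈ normalizer (T : Set G), n * x * n⁻¹ = y

/-- The odd cores of the centralisers of the involutions of `G` are trivial. -/
def CoreFree (G : Type u) [Group G] : Prop :=
  ∀ t : G, orderOf t = 2 → Cfsg.oddCore ↥(centralizer ({t} : Set G)) = ⊥

/-- Every core-free group of order less than `N` with one class of involutions in a Sylow 2-subgroup of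
type `E₈` has core-free involution centralisers. -/
def Below (N : ℕ) : Prop :=
  ∀ (X : Type u) [Group X] [Finite X], Nat.card X < N → ∀ T : Subgroup X, Eight T → OneClass T →
    Cfsg.oddCore X = ⊥ → CoreFree X

end CfsgLib.EightCore
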