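import Cfsg.Agent.EightCore.Cent

/-!
# Simple groups with Sylow 2-subgroups `E₈`: the degree of the field of an involution centraliser
-/

set_option autoImplicit false
set_option linter.unusedSectionVars false
set_option linter.unusedVariables false
set_option linter.style.haveILetI false

namespace CfsgLib.EightCore

open Subgroup
open CfsgLib.Linear.SmallSub (P2)
open CfsgLib.NormCyclic (Inv)

universe u

namespace PSL

variable {F : Type} [Field F] [Fintype F]

theorem char_prop {p n : ℕ} [hp : Fact p.Prime] (hF : Fintype.card F = p ^ n) (hn : n ≠ 0) (hp2 : p ≠ 2) :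
    p ∣ Nat.card (P2 F) ∧ ∀ v : P2 F, Inv v → ¬ p ∣ Nat.card (centralizer ({v} : Set (P2 F))) := by
  have hodd : Odd (Fintype.card F) := hF ▸ (hp.out.odd_of_ne_two hp2).pow
  have hd : p ∣ Fintype.card F := hF ▸ dvd_pow_self p hn
  refine ⟨?_, fun v hv h1 => ?_⟩
  · refine (Nat.Coprime.dvd_mul_left ((Nat.coprime_primes hp.out Nat.prime_two).2 hp2)).1 ?_
    rw [two_mul_card hodd]
    exact dvd_mul_of_dvd_left hd _
  · rw [card_centralizer hodd hv] at h1
    have h2 : p ∣ 1 := by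
      split_ifs at h1
      · have := Nat.dvd_sub hd h1
        rwa [Nat.sub_sub_self Fintype.card_pos] at this
      · have := Nat.dvd_sub h1 hd
        rwa [Nat.add_sub_cancel_left] at this
    exact hp.out.ne_one (Nat.dvd_one.1 h2)

/-- The unipotent elements as a homomorphism. -/
def uHom (F : Type) [Field F] [Fintype F] : Multiplicative F →* P2 F where
  toFun c := u c.toAdd
  map_one' := u_zero
  map_mul' a b := u_add a.toAdd b.toAdd

theorem uHom_injective : Function.Injective (uHom F) := fun _ _ h =>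
  Multiplicative.toAdd.injective (u_injective h)

/-- The unipotent subgroup of a subgroup of the additive group. -/
def uSub (A : AddSubgroup F) : Subgroup (P2 F) := A.toSubgroup.map (uHom F)

theorem mem_uSub {A : AddSubgroup F} {x : P2 F} : x ∈ uSub A ↔ ∃ a ∈ A, u a = x :=
  ⟨fun ⟨a, ha, e⟩ => ⟨a.toAdd, ha, e⟩, fun ⟨a, ha, e⟩ => ⟨Multiplicative.ofAdd a, ha, e⟩⟩

theorem card_uSub (A : AddSubgroup F) : Nat.card (uSub A) = Nat.card A := by
  rw [uSub, card_map_of_injective uHom_injective]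
  rfl

end PSL

variable {X : Type u} [Group X] [Finite X] {T : Subgroup X}

/-- A `p`-subgroup of `H / O(H)` lifts isomorphically if `p` does not divide `|O(H)|`. -/
theorem exists_lift_pgroup (H : Subgroup X) {p : ℕ} [hp : Fact p.Prime]
    (hO : ¬ p ∣ Nat.card (DGroup.coreIn H)) {E : Subgroup (↥H ⧸ Cfsg.oddCore ↥H)} (hE : IsPGroup p E) :
    ∃ W : Subgroup ↥H, IsPGroup p W ∧ W.map (qmap H) = E ∧
      ∀ a ∈ W, ∀ b ∈ W, qmap H a = qmap H b → a = b := by
  set K := E.comap (qmap H)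
  set ρ := (qmap H).subgroupComap E
  have hρ : Function.Surjective ρ :=
    MonoidHom.subgroupComap_surjective_of_surjective _ _ (QuotientGroup.mk'_surjective _)
  obtain ⟨R⟩ : Nonempty (Sylow p K) := inferInstance
  have hR : (R : Subgroup K).map ρ = ⊤ := by
    have h1 : ((R.mapSurjective hρ : Sylow p E) : Subgroup E) = (R : Subgroup K).map ρ := rfl
    rw [← h1]
    exact ((R.mapSurjective hρ).3 (Q := (⊤ : Subgroup E)) (hE.of_equiv topEquiv.symm) le_top).symm
  have hW : IsPGroup p ((R : Subgroup K).map K.subtype) := R.2.map _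
  refine ⟨_, hW, le_antisymm ?_ fun e he => ?_, fun a ha b hb hab => ?_⟩
  · rintro _ ⟨_, ⟨k, hk, rfl⟩, rfl⟩
    exact k.2
  · obtain ⟨k, hk, hke⟩ := hR.ge (mem_top (⟨e, he⟩ : E))
    exact ⟨k, ⟨k, hk, rfl⟩, congrArg Subtype.val hke⟩
  · have h1 : qmap H (a * b⁻¹) = 1 := by rw [map_mul, map_inv, hab, mul_inv_cancel]
    have h2 := Subgroup.orderOf_dvd_natCard _ (qmap_eq_one.1 h1)
    rw [orderOf_coe] at h2
    obtain ⟨j, hj⟩ := IsPGroup.iff_orderOf.1 hW ⟨_, mul_mem ha (inv_mem hb)⟩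
    rw [Subgroup.orderOf_mk] at hj
    rw [hj] at h2
    rcases j with _ | j
    · exact mul_inv_eq_one.1 (orderOf_eq_one_iff.1 (hj.trans (pow_zero p)))
    · exact absurd ((dvd_pow_self p j.succ_ne_zero).trans h2) hO

/-- An automorphism between two subgroups centralised by `t` can be chosen to fix `t`. -/
theorem Eight.exists_aut_fix (hT : Eight T) (hA : AutConj X) {t : X} (hto : orderOf t = 2) {p : ℕ} (hp : p.Prime)
    {A B : Subgroup X} (hAp : IsPGroup p A) (hBp : IsPGroup p B) (hAc : IsMulCommutative A)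
    (hBc : IsMulCommutative B) (hcard : Nat.card A = Nat.card B) (htA : t ∈ centralizer (A : Set X))
    (htB : t ∈ centralizer (B : Set X)) (h4 : ¬ 4 ∣ Nat.card (centralizer (B : Set X))) :
    ∃ ψ : MulAut X, ψ t = t ∧ B = A.map ψ.toMonoidHom := by
  haveI : Fact (Nat.Prime 2) := ⟨Nat.prime_two⟩
  obtain ⟨φ, rfl⟩ := hA p hp A B hAp hBp hAc hBc hcard
  set D := centralizer ((A.map φ.toMonoidHom : Subgroup X) : Set X) with hD
  have hsD : φ t ∈ D := by rw [hD, centralizer_map]; exact ⟨t, htA, rfl⟩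
  have hso : orderOf (φ t) = 2 := by rw [MulEquiv.orderOf_eq, hto]
  obtain ⟨P, hP⟩ := (isPGroup_zpowers_of_orderOf
    (show orderOf (⟨t, htB⟩ : D) = 2 by rw [← orderOf_coe]; exact hto)).exists_le_sylow
  obtain ⟨P', hP'⟩ := (isPGroup_zpowers_of_orderOf
    (show orderOf (⟨φ t, hsD⟩ : D) = 2 by rw [← orderOf_coe]; exact hso)).exists_le_sylow
  have hP2 : Nat.card (P : Subgroup D) ≤ 2 := by
    obtain ⟨k, hk⟩ := IsPGroup.iff_card.1 P.2
    by_contra hcon
    push Not at hcon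
    have h2 : 2 ≤ k := by
      by_contra hk2
      interval_cases k <;> omega
    exact h4 ((show (4 : ℕ) ∣ Nat.card (P : Subgroup D) from hk ▸ pow_dvd_pow 2 h2).trans (card_subgroup_dvd_card _))
  have hPt : zpowers (⟨t, htB⟩ : D) = (P : Subgroup D) := eq_of_le_of_card_ge hP (by
    rw [Nat.card_zpowers, ← orderOf_coe, show ((⟨t, htB⟩ : D) : X) = t from rfl, hto]; exact hP2)
  obtain ⟨c, hc⟩ := MulAction.exists_smul_eq D P' P
  have hmem : c * ⟨φ t, hsD⟩ * c⁻¹ ∈ (P : Subgroup D) := by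
    rw [← hc]; exact ⟨_, hP' (mem_zpowers _), rfl⟩
  rw [← hPt] at hmem
  have hct : (c : X) * φ t * (c : X)⁻¹ = t := by
    obtain ⟨i, hi⟩ := mem_zpowers_iff.1 hmem
    have h1 : t ^ i = (c : X) * φ t * (c : X)⁻¹ := congrArg Subtype.val hi
    have h2 : t ^ (2 : ℤ) = 1 := by
      rw [zpow_ofNat, ← hto, pow_orderOf_eq_one]
    rw [← Int.mul_ediv_add_emod i 2, zpow_add, zpow_mul, h2, one_zpow, one_mul] at h1
    rcases Int.emod_two_eq i with e | e <;> rw [e] at h1
    · rw [zpow_zero, eq_comm, conj_eq_one_iff] at h1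
      rw [h1, orderOf_one] at hso
      omega
    · rw [zpow_one] at h1; exact h1.symm
  refine ⟨φ.trans (MulAut.conj (c : X)), hct, ?_⟩
  refine le_antisymm (fun b hb => ?_) ?_
  · obtain ⟨a, ha, hab⟩ := id hb
    refine ⟨a, ha, ?_⟩
    show (c : X) * φ a * (c : X)⁻¹ = b
    rw [show φ a = b from hab, (show Commute b (c : X) from mem_centralizer_iff.1 c.2 b hb).symm.eq,
      mul_inv_cancel_right]
  · rintro _ ⟨a, ha, rfl⟩
    have hb : φ a ∈ A.map φ.toMonoidHom := ⟨a, ha, rfl⟩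
    show (c : X) * φ a * (c : X)⁻¹ ∈ A.map φ.toMonoidHom
    rw [(show Commute (φ a) (c : X) from mem_centralizer_iff.1 c.2 _ hb).symm.eq, mul_inv_cancel_right]
    exact hb

section Data

variable (h : Hyp T) {t : X} (ht : t ∈ T) (ht1 : t ≠ 1) (D : Shape T t)

include h ht ht1

/-- An automorphism fixing `t` induces one of `PSL₂`. -/
theorem Shape.exists_induced (ψ : MulAut X) (hψ : ψ t = t) :
    ∃ (σ : ↥(centralizer ({t} : Set X)) → ↥(centralizer ({t} : Set X))) (β : MulAut (P2 D.F)),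
      (∀ c, (σ c : X) = ψ c) ∧ ∀ c s, qmap _ c = D.ι s → qmap _ (σ c) = D.ι (β s) := by
  set C := centralizer ({t} : Set X) with hC
  haveI := D.norm
  haveI := Shape.simple D
  have hmap : C.map ψ.toMonoidHom = C := by
    rw [hC]
    refine le_antisymm ?_ fun x hx => ?_
    · rintro _ ⟨x, hx, rfl⟩
      refine mem_centralizer_singleton_iff.2 ?_
      show ψ x * t = t * ψ x
      conv_lhs => rw [← hψ]
      conv_rhs => rw [← hψ]
      rw [← map_mul, ← map_mul, mem_centralizer_singleton_iff.1 hx]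
    · refine ⟨ψ.symm x, mem_centralizer_singleton_iff.2 (ψ.injective ?_), ψ.apply_symm_apply x⟩
      rw [map_mul, map_mul, ψ.apply_symm_apply, hψ]
      exact mem_centralizer_singleton_iff.1 hx
  let e : ↥C ≃* ↥C := (ψ.subgroupMap C).trans (MulEquiv.subgroupCongr hmap)
  haveI : (Cfsg.oddCore ↥C).Characteristic := CentralMeet.oddCore_characteristic _
  let eb : ↥C ⧸ Cfsg.oddCore ↥C ≃* ↥C ⧸ Cfsg.oddCore ↥C :=
    QuotientGroup.congr _ _ e (Subgroup.characteristic_iff_map_eq.1 inferInstance e)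
  have heb : ∀ c, eb (qmap C c) = qmap C (e c) := fun c => rfl
  let ρ : P2 D.F ≃* D.ι.range := MonoidHom.ofInjective D.inj
  haveI : IsSimpleGroup D.ι.range := ρ.symm.isSimpleGroup
  set R' := D.ι.range.map eb.toMonoidHom with hR'
  haveI : R'.Normal := D.norm.map _ eb.surjective
  have hcardR : Nat.card R' = Nat.card D.ι.range := card_map_of_injective eb.injective
  have hle : D.ι.range ≤ R' := by
    rcases (inferInstance : IsSimpleGroup D.ι.range).eq_bot_or_eq_top_of_normal _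
      (inferInstance : (R'.subgroupOf D.ι.range).Normal) with hb | hb
    · exfalso
      rw [subgroupOf_eq_bot, disjoint_iff] at hb
      have hcent : R' ≤ centralizer (D.ι.range : Set (↥C ⧸ Cfsg.oddCore ↥C)) := fun r hr =>
        mem_centralizer_iff.2 fun s hs =>
          Subgroup.commute_of_normal_of_disjoint _ _ inferInstance inferInstance
            (disjoint_iff.2 (by rw [inf_comm]; exact hb)) s r hs hr
      have h2 := Subgroup.card_le_of_le (hcent.trans D.cent)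
      rw [hcardR, ← Nat.card_congr ρ.toEquiv, Nat.card_zpowers] at h2
      have h3 := Nat.le_of_dvd (by norm_num) (orderOf_dvd_of_pow_eq_one
        (show zbar t ^ 2 = 1 by
          rw [pow_two, ← map_mul]
          exact (congrArg (qmap C) (Subtype.ext (h.sq t ht))).trans (map_one _)))
      have h4 := PSL.two_mul_card (F := D.F) (Shape.odd D)
      have h5 : 24 ≤ (Fintype.card D.F - 1) * (Fintype.card D.F + 1) :=
        le_trans (by norm_num) (Nat.mul_le_mul (show 4 ≤ Fintype.card D.F - 1 by have := D.h5; omega)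
          (show 6 ≤ Fintype.card D.F + 1 by have := D.h5; omega))
      have h6 := Nat.mul_le_mul D.h5 h5
      omega
    · exact subgroupOf_eq_top.1 hb
  have hR : R' = D.ι.range := (eq_of_le_of_card_ge hle hcardR.le).symm
  let er : D.ι.range ≃* D.ι.range := (eb.subgroupMap D.ι.range).trans (MulEquiv.subgroupCongr hR)
  refine ⟨e, (ρ.trans er).trans ρ.symm, fun c => rfl, fun c s hcs => ?_⟩
  have h1 : (ρ (((ρ.trans er).trans ρ.symm) s) : ↥C ⧸ Cfsg.oddCore ↥C) = eb (D.ι s) := by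
    show ((ρ (ρ.symm (er (ρ s))) : D.ι.range) : ↥C ⧸ Cfsg.oddCore ↥C) = _
    rw [ρ.apply_symm_apply]
    rfl
  rw [← heb, hcs, ← h1]
  rfl

/-- The field has degree one or three. -/
theorem Shape.degree : ∃ (p f : ℕ), p.Prime ∧ p ≠ 2 ∧ Fintype.card D.F = p ^ f ∧ (f = 1 ∨ f = 3) := by
  obtain ⟨p, hp⟩ := CharP.exists D.F
  haveI := Fact.mk (CharP.char_is_prime D.F p)
  obtain ⟨n, hpp, hF⟩ := FiniteField.card D.F p
  obtain ⟨hp2, hfodd⟩ := PSL.odd_degree hF D.h8
  refine ⟨p, n, hpp, hp2, hF, ?_⟩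
  by_contra hcon
  have hf5 : 5 ≤ (n : ℕ) := by
    obtain ⟨k, hk⟩ := hfodd
    have := n.pos
    omega
  set C := centralizer ({t} : Set X) with hC
  obtain ⟨hdvd, hnc⟩ := PSL.char_prop (F := D.F) hF n.ne_zero hp2
  have hO := Shape.not_dvd_core h ht ht1 D hp2 hdvd hnc
  obtain ⟨A, B, hAc, hBc, hAB⟩ := PSL.exists_unrelated hF hp2 hf5
  have mk : ∀ A : AddSubgroup D.F, Nat.card A = p ^ 2 → ∃ W : Subgroup X, IsPGroup p W ∧
      IsMulCommutative W ∧ Nat.card W = p ^ 2 ∧ t ∈ centralizer (W : Set X) ∧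
      (∀ w ∈ W, ∃ hw : w ∈ C, ∃ a ∈ A, qmap C ⟨w, hw⟩ = D.ι (PSL.u a)) ∧
      ∀ a ∈ A, ∃ w : ↥C, (w : X) ∈ W ∧ qmap C w = D.ι (PSL.u a) := by
    intro A hA
    have hEc : Nat.card ((PSL.uSub A).map D.ι) = p ^ 2 := by
      rw [card_map_of_injective D.inj, PSL.card_uSub, hA]
    obtain ⟨W, hWp, hWm, hWi⟩ := exists_lift_pgroup C hO (IsPGroup.of_card hEc)
    have hmem : ∀ w ∈ W, ∃ a ∈ A, qmap C w = D.ι (PSL.u a) := fun w hw => by
      obtain ⟨s, hs, hsw⟩ := hWm.le ⟨w, hw, rfl⟩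
      obtain ⟨a, ha, rfl⟩ := PSL.mem_uSub.1 hs
      exact ⟨a, ha, hsw.symm⟩
    refine ⟨W.map C.subtype, hWp.map _, ⟨⟨?_⟩⟩, ?_, ?_, ?_, ?_⟩
    · rintro ⟨_, ⟨a, ha, rfl⟩⟩ ⟨_, ⟨b, hb, rfl⟩⟩
      obtain ⟨x, -, hx⟩ := hmem a ha
      obtain ⟨y, -, hy⟩ := hmem b hb
      refine Subtype.ext ?_
      have := hWi (a * b) (mul_mem ha hb) (b * a) (mul_mem hb ha) (by
        rw [map_mul, map_mul, hx, hy, ← map_mul, ← map_mul, ← PSL.u_add, ← PSL.u_add, add_comm])
      exact (congrArg (fun z : ↥C => (z : X)) this :)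
    · rw [card_map_of_injective C.subtype_injective, ← hEc]
      refine Nat.card_congr (Equiv.ofBijective (fun w : W =>
        (⟨qmap C w, hWm.le ⟨w, w.2, rfl⟩⟩ : ((PSL.uSub A).map D.ι : Subgroup _))) ⟨fun a b e =>
          Subtype.ext (hWi a a.2 b b.2 (congrArg Subtype.val e)), fun s => ?_⟩)
      obtain ⟨w, hw, hws⟩ := hWm.ge s.2
      exact ⟨⟨w, hw⟩, Subtype.ext hws⟩
    · refine mem_centralizer_iff.2 ?_
      rintro _ ⟨w, -, rfl⟩
      exact mem_centralizer_singleton_iff.1 w.2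
    · rintro _ ⟨w, hw, rfl⟩
      exact ⟨w.2, hmem w hw⟩
    · intro a ha
      obtain ⟨w, hw, hwa⟩ := hWm.ge ⟨_, PSL.mem_uSub.2 ⟨a, ha, rfl⟩, rfl⟩
      exact ⟨w, ⟨w, hw, rfl⟩, hwa⟩
  obtain ⟨WA, hAp, hAab, hAcard, htA, hAmem, hAlift⟩ := mk A hAc
  obtain ⟨WB, hBp, hBab, hBcard, htB, hBmem, hBlift⟩ := mk B hBc
  have hto := h.toEight.orderOf_eq_two ht ht1
  have h4 : ¬ 4 ∣ Nat.card (centralizer (WB : Set X)) := by
    intro h4
    obtain ⟨y, hy, hyt, hyc, hyW⟩ := h.toEight.exists_invol_ne hto htB h4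
    obtain ⟨b, hb, hb0⟩ : ∃ b ∈ B, b ≠ 0 := by
      rcases B.bot_or_exists_ne_zero with e | e
      · rw [e, AddSubgroup.card_bot] at hBc
        have := Nat.one_lt_pow (two_ne_zero) hpp.one_lt
        omega
      · exact e
    obtain ⟨w, hw, hwb⟩ := hBlift b hb
    obtain ⟨v, hv, hvs, -⟩ := Shape.invol_commute h ht ht1 D
      (y := ⟨y, mem_centralizer_singleton_iff.2 hyc.eq⟩) hy hyt hwb (mem_centralizer_iff.1 hyW _ hw).symm
    exact PSL.not_commute_u (Shape.odd D) hv hb0 hvs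
  obtain ⟨ψ, hψt, hψ⟩ := h.toEight.exists_aut_fix h.aut hto hpp hAp hBp hAab hBab (hAcard.trans hBcard.symm) htA htB h4
  obtain ⟨σ, β, hσ, hβ⟩ := Shape.exists_induced h ht ht1 D ψ hψt
  refine hAB β fun a ha => ?_
  obtain ⟨w, hw, hwa⟩ := hAlift a ha
  have hσw : (σ w : X) ∈ WB := by rw [hσ, hψ]; exact ⟨w, hw, rfl⟩
  obtain ⟨hm, b, hb, hwb⟩ := hBmem _ hσw
  refine ⟨b, hb, D.inj ?_⟩
  rw [← hβ w _ hwa, ← hwb]

end Data

end CfsgLib.EightCore
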