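import Mathlib.LinearAlgebra.FreeModule.Finite.Matrix
import Mathlib.FieldTheory.IsAlgClosed.AlgebraicClosure
import Mathlib.RingTheory.Nilpotent.Lemmas
import Mathlib.Algebra.Field.ZMod
import Mathlib.GroupTheory.Perm.Basic
import Mathlib.Algebra.CharP.Algebra
import Mathlib.Algebra.Module.ZMod
import Mathlib.FieldTheory.Finite.Basic
import Mathlib.RingTheory.LittleWedderburn

/-!
# An abelian group of coprime exponent on a three-dimensional module: its normaliser permutes three characters
-/

set_option autoImplicit false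
set_option linter.unusedSectionVars false
set_option linter.unusedVariables false
set_option linter.style.haveILetI false

namespace CfsgLib.EightCore

open Subgroup Module

universe u

theorem perm_small {X : Type*} [Finite X] (e : Equiv.Perm X) (h : Nat.card X ≤ 3) :
    e ^ 2 = 1 ∨ e ^ 3 = 1 := by
  haveI := Fintype.ofFinite X
  set f := Fintype.equivFin X
  have h3 : ∀ n, n ≤ 3 → ∀ σ : Equiv.Perm (Fin n), σ ^ 2 = 1 ∨ σ ^ 3 = 1 := by
    intro n hn
    interval_cases n <;> decide
  rcases h3 _ (by rwa [← Nat.card_eq_fintype_card]) (f.permCongrHom e) with h1 | h1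
  · exact Or.inl (f.permCongrHom.injective (by rw [map_pow, h1, map_one]))
  · exact Or.inr (f.permCongrHom.injective (by rw [map_pow, h1, map_one]))

/-- A reduced algebra over the prime field is embedded by its points. -/
theorem exists_algHom_ne {p : ℕ} [Fact p.Prime] {R : Type u} [CommRing R] [Algebra (ZMod p) R] [Finite R]
    {x : R} (hx : ¬ IsNilpotent x) : ∃ χ : R →ₐ[ZMod p] AlgebraicClosure (ZMod p), χ x ≠ 0 := by
  rw [nilpotent_iff_mem_prime] at hx
  push Not at hx
  obtain ⟨J, hJ, hxJ⟩ := hx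
  haveI := hJ
  haveI : Finite (R ⧸ J) := Finite.of_surjective _ Ideal.Quotient.mk_surjective
  haveI : J.IsMaximal := Ideal.Quotient.maximal_of_isField _ (Finite.isField_of_domain _)
  letI := Ideal.Quotient.field J
  haveI : Module.Finite (ZMod p) (R ⧸ J) := Module.Finite.of_finite
  haveI : Algebra.IsAlgebraic (ZMod p) (R ⧸ J) := Algebra.IsAlgebraic.of_finite _ _
  let ψ : (R ⧸ J) →ₐ[ZMod p] AlgebraicClosure (ZMod p) := IsAlgClosed.lift
  refine ⟨ψ.comp (Ideal.Quotient.mkₐ (ZMod p) J), fun h => hxJ ?_⟩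
  rw [← Ideal.Quotient.eq_zero_iff_mem]
  exact (map_eq_zero ψ.toRingHom).1 h

/-- Let the abelian group `P` of exponent `r` act on the elementary `p`-group `A` of order at most `p³`;
an element normalising `P` has its square or cube centralising the action of `P`. -/
theorem semilinear_small {Q : Type u} [Group Q] [Finite Q] (A : Subgroup Q) [A.Normal] {p : ℕ}
    [hp : Fact p.Prime] (hAc : ∀ a ∈ A, ∀ b ∈ A, a * b = b * a) (hAe : ∀ a ∈ A, a ^ p = 1)
    (hAcard : Nat.card A ≤ p ^ 3) {r : ℕ} [hr : Fact r.Prime] (hrp : r ≠ p) (P : Subgroup Q)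
    (hPc : ∀ a ∈ P, ∀ b ∈ P, a * b = b * a) (hPe : ∀ x ∈ P, x ^ r = 1) {g : Q}
    (hg : ∀ x ∈ P, g * x * g⁻¹ ∈ P) :
    ∃ k, (k = 2 ∨ k = 3) ∧ ∀ x ∈ P, ∀ a ∈ A,
      (g ^ k * x * (g ^ k)⁻¹) * a * (g ^ k * x * (g ^ k)⁻¹)⁻¹ = x * a * x⁻¹ := by
  classical
  by_cases hA1 : A = ⊥
  · refine ⟨2, Or.inl rfl, fun x _ a ha => ?_⟩
    rw [hA1, mem_bot] at ha
    simp [ha]
  letI : CommGroup A := { (inferInstance : Group A) with mul_comm := fun a b => Subtype.ext (hAc a a.2 b b.2) }
  have hexp : ∀ v : Additive A, p • v = 0 := fun v =>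
    congrArg Additive.ofMul (Subtype.ext (hAe _ v.toMul.2) : v.toMul ^ p = 1)
  letI : Module (ZMod p) (Additive A) := AddCommGroup.zmodModule (n := p) (G := Additive A) hexp
  haveI : Finite (Additive A) := inferInstanceAs (Finite A)
  haveI : Nontrivial A := A.nontrivial_iff_ne_bot.2 hA1
  haveI : Nontrivial (Additive A) := inferInstanceAs (Nontrivial A)
  haveI : Finite (Module.End (ZMod p) (Additive A)) := Finite.of_injective _ DFunLike.coe_injective
  let ρ : Q →* Module.End (ZMod p) (Additive A) :=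
    { toFun := fun x => AddMonoidHom.toZModLinearMap p (MulEquiv.toAdditive (MulAut.conjNormal x : MulAut A)).toAddMonoidHom
      map_one' := LinearMap.ext fun v => by
        show Additive.ofMul ((MulAut.conjNormal (1 : Q) : MulAut A) v.toMul) = v
        rw [map_one]; rfl
      map_mul' := fun x y => LinearMap.ext fun v => by
        show Additive.ofMul ((MulAut.conjNormal (x * y) : MulAut A) v.toMul) = _
        rw [map_mul]; rfl }
  have hρ : ∀ (x : Q) (a : A), ((ρ x (Additive.ofMul a)).toMul : Q) = x * a * x⁻¹ := fun x a =>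
    MulAut.conjNormal_apply x a
  set S : Set (Module.End (ZMod p) (Additive A)) := ρ '' (P : Set Q) with hS
  have hScomm : ∀ a ∈ S, ∀ b ∈ S, a * b = b * a := by
    rintro _ ⟨a, ha, rfl⟩ _ ⟨b, hb, rfl⟩
    rw [← map_mul, ← map_mul, hPc a ha b hb]
  set R := Algebra.adjoin (ZMod p) S with hR
  haveI : IsMulCommutative R := Algebra.isMulCommutative_adjoin _ hScomm
  letI : CommRing R := { (inferInstance : Ring R) with mul_comm := fun a b => mul_comm' a b }
  haveI : Finite R := Subtype.finite
  haveI : Nontrivial R := ⟨⟨1, 0, fun e => one_ne_zero (congrArg Subtype.val e)⟩⟩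
  haveI : CharP R p := charP_of_injective_algebraMap (algebraMap (ZMod p) R).injective p
  -- reduced
  set N := r - 1 with hN
  have hN1 : p ^ N % r = 1 := by
    have hcop : Nat.Coprime p r := (Nat.coprime_primes hp.out hr.out).2 hrp.symm
    have h := Nat.ModEq.pow_totient hcop
    rw [Nat.totient_prime hr.out] at h
    rw [hN, h, Nat.mod_eq_of_lt hr.out.one_lt]
  have hfix : ∀ y : R, y ^ p ^ N = y := by
    rintro ⟨y, hy⟩
    induction hy using Algebra.adjoin_induction with
    | mem y hy =>
      obtain ⟨x, hx, rfl⟩ := hy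
      apply Subtype.ext
      show ρ x ^ p ^ N = ρ x
      rw [← map_pow, ← Nat.mod_add_div (p ^ N) r, hN1, pow_add, pow_one, pow_mul, hPe x hx, one_pow, mul_one]
    | algebraMap c =>
      have e : (⟨algebraMap (ZMod p) _ c, Subalgebra.algebraMap_mem R c⟩ : R) = algebraMap (ZMod p) R c := rfl
      rw [e, ← map_pow]
      congr 1
      induction N with
      | zero => simp
      | succ n ih => rw [pow_succ, pow_mul, ih, ZMod.pow_card]
    | add a b ha hb iha ihb =>
      have e : (⟨a + b, add_mem ha hb⟩ : R) = ⟨a, ha⟩ + ⟨b, hb⟩ := rfl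
      rw [e, add_pow_char_pow, iha, ihb]
    | mul a b ha hb iha ihb =>
      have e : (⟨a * b, mul_mem ha hb⟩ : R) = ⟨a, ha⟩ * ⟨b, hb⟩ := rfl
      rw [e, mul_pow, iha, ihb]
  have hN0 : 2 ≤ p ^ N := le_trans hp.out.two_le (Nat.le_self_pow (by have := hr.out.two_le; omega) p)
  have hred : ∀ y : R, IsNilpotent y → y = 0 := by
    rintro y ⟨n, hn⟩
    have hiter : ∀ m, y ^ (p ^ N) ^ m = y := by
      intro m
      induction m with
      | zero => simp
      | succ m ih => rw [pow_succ, pow_mul, ih, hfix]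
    rw [← hiter n]
    exact pow_eq_zero_of_le (Nat.lt_pow_self (by omega)).le hn
  -- a vector with trivial annihilator
  obtain ⟨v, hv⟩ := Finite.exists_min fun v : Additive A => Nat.card {y : R // (y : Module.End (ZMod p) (Additive A)) v = 0}
  have hinj : Function.Injective fun y : R => (y : Module.End (ZMod p) (Additive A)) v := by
    intro y z hyz
    by_contra hne
    set d := y - z with hd
    have hdv : (d : Module.End (ZMod p) (Additive A)) v = 0 := by
      show ((y : Module.End (ZMod p) (Additive A)) - (z : Module.End (ZMod p) (Additive A))) v = 0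
      rw [LinearMap.sub_apply, sub_eq_zero]
      exact hyz
    set e := d ^ (p ^ N - 1) with he
    have hed : e * d = d := by rw [he, ← pow_succ, Nat.sub_add_cancel (by omega), hfix]
    have hee : e * e = e := by
      have h1 : e = d ^ (p ^ N - 2) * d := by rw [he, ← pow_succ]; congr 1; omega
      calc e * e = d ^ (p ^ N - 2) * (e * d) := by rw [h1]; ring
        _ = e := by rw [hed, ← h1]
    have hev : (e : Module.End (ZMod p) (Additive A)) v = 0 := by
      have h1 : e = d ^ (p ^ N - 2) * d := by rw [he, ← pow_succ]; congr 1; omega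
      rw [h1, Subalgebra.coe_mul, Module.End.mul_apply, hdv, map_zero]
    have he0 : e ≠ 0 := fun h => hne (sub_eq_zero.1 (show d = 0 by rw [← hed, h, zero_mul]))
    obtain ⟨w, hw⟩ : ∃ w, (e : Module.End (ZMod p) (Additive A)) w ≠ 0 := by
      by_contra hcon
      push Not at hcon
      exact he0 (Subtype.ext (LinearMap.ext fun w => by simpa using hcon w))
    refine absurd (hv (v + (e : Module.End (ZMod p) (Additive A)) w)) (not_le.2 ?_)
    have hsub : ∀ s : R, (s : Module.End (ZMod p) (Additive A)) (v + (e : Module.End (ZMod p) (Additive A)) w) = 0 →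
        (s : Module.End (ZMod p) (Additive A)) v = 0 := by
      intro s hs
      rw [map_add] at hs
      have h1 := congrArg (e : Module.End (ZMod p) (Additive A)) hs
      rw [map_zero, map_add, ← Module.End.mul_apply, ← Module.End.mul_apply, ← Module.End.mul_apply,
        ← Subalgebra.coe_mul, ← Subalgebra.coe_mul, mul_comm e s, mul_assoc, hee, Subalgebra.coe_mul,
        Module.End.mul_apply, Module.End.mul_apply, hev, map_zero, zero_add] at h1
      rw [h1, add_zero] at hs
      exact hs
    haveI : Finite {s : R // (s : Module.End (ZMod p) (Additive A)) v = 0} := Subtype.finite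
    let inc : {s : R // (s : Module.End (ZMod p) (Additive A)) (v + (e : Module.End (ZMod p) (Additive A)) w) = 0} →
        {s : R // (s : Module.End (ZMod p) (Additive A)) v = 0} := fun s => ⟨s.1, hsub _ s.2⟩
    refine lt_of_le_of_ne (Nat.card_le_card_of_injective inc fun a b h => Subtype.ext (congrArg
      (fun t : {s : R // (s : Module.End (ZMod p) (Additive A)) v = 0} => t.1) h :)) fun hc => ?_
    obtain ⟨⟨s, hs⟩, hse⟩ := ((Nat.bijective_iff_injective_and_card inc).2
      ⟨fun a b h => Subtype.ext (congrArg (fun t : {s : R // (s : Module.End (ZMod p) (Additive A)) v = 0} => t.1) h :),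
        hc⟩).2 ⟨e, hev⟩
    have : s = e := congrArg (fun t : {s : R // (s : Module.End (ZMod p) (Additive A)) v = 0} => t.1) hse
    rw [this, map_add, hev, zero_add, ← Module.End.mul_apply, ← Subalgebra.coe_mul, hee] at hs
    exact hw hs
  haveI : Module.Finite (ZMod p) R := Module.Finite.of_finite
  have hrank : finrank (ZMod p) R ≤ 3 := by
    have h1 := (Nat.card_le_card_of_injective _ hinj).trans (le_of_eq_of_le rfl hAcard)
    rw [Module.natCard_eq_pow_finrank (K := ZMod p), Nat.card_zmod] at h1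
    exact (Nat.pow_le_pow_iff_right hp.out.one_lt).1 h1
  -- conjugation by `g`
  have hgg : ρ g * ρ g⁻¹ = 1 := by rw [← map_mul, mul_inv_cancel, map_one]
  have hgg' : ρ g⁻¹ * ρ g = 1 := by rw [← map_mul, inv_mul_cancel, map_one]
  let τ : Module.End (ZMod p) (Additive A) →ₐ[ZMod p] Module.End (ZMod p) (Additive A) :=
    { toFun := fun y => ρ g * y * ρ g⁻¹
      map_one' := by rw [mul_one, hgg]
      map_mul' := fun a b => by
        calc ρ g * (a * b) * ρ g⁻¹ = ρ g * a * 1 * b * ρ g⁻¹ := by simp [mul_assoc]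
          _ = _ := by rw [← hgg']; simp [mul_assoc]
      map_zero' := by simp
      map_add' := fun a b => by rw [mul_add, add_mul]
      commutes' := fun c => by rw [← Algebra.commutes, mul_assoc, hgg, mul_one] }
  have hτ : ∀ y ∈ R, τ y ∈ R := fun y hy => by
    have h : R.map τ ≤ R := by
      rw [hR, AlgHom.map_adjoin]
      refine Algebra.adjoin_mono ?_
      rintro _ ⟨_, ⟨x, hx, rfl⟩, rfl⟩
      exact ⟨g * x * g⁻¹, hg x hx, by show _ = ρ g * ρ x * ρ g⁻¹; rw [map_mul, map_mul]⟩
    exact h ⟨y, hy, rfl⟩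
  let σ : R →ₐ[ZMod p] R := (τ.comp R.val).codRestrict R fun y => hτ y y.2
  have hσi : Function.Injective σ := fun a b h => by
    have h1 : ρ g * (a : Module.End (ZMod p) (Additive A)) * ρ g⁻¹ = ρ g * b * ρ g⁻¹ := congrArg Subtype.val h
    have h2 := congrArg (fun z => ρ g⁻¹ * z * ρ g) h1
    simp only [← mul_assoc, hgg', one_mul] at h2
    simp only [mul_assoc, hgg', mul_one] at h2
    exact Subtype.ext h2
  have hσs := Finite.injective_iff_surjective.1 hσi
  let π : (R →ₐ[ZMod p] AlgebraicClosure (ZMod p)) → (R →ₐ[ZMod p] AlgebraicClosure (ZMod p)) := fun χ => χ.comp σ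
  have hπ : Function.Injective π := fun χ χ' h => AlgHom.ext fun y => by
    obtain ⟨z, rfl⟩ := hσs y
    exact AlgHom.congr_fun h z
  let e := Equiv.ofBijective π (Finite.injective_iff_bijective.1 hπ)
  obtain ⟨k, hk, hek⟩ : ∃ k, (k = 2 ∨ k = 3) ∧ e ^ k = 1 := by
    rcases perm_small e ((card_algHom_le_finrank (ZMod p) R (AlgebraicClosure (ZMod p))).trans hrank) with h | h
    · exact ⟨2, Or.inl rfl, h⟩
    · exact ⟨3, Or.inr rfl, h⟩
  have hiter : ∀ (j : ℕ) (χ : R →ₐ[ZMod p] AlgebraicClosure (ZMod p)) (y : R), (e ^ j) χ y = χ ((σ ^ j) y) := by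
    intro j
    induction j with
    | zero => simp
    | succ j ih =>
      intro χ y
      rw [pow_succ, Equiv.Perm.mul_apply, ih, pow_succ']
      rfl
  have hσk : ∀ (j : ℕ) (y : R), (((σ ^ j) y : R) : Module.End (ZMod p) (Additive A)) = ρ (g ^ j) * y * ρ (g ^ j)⁻¹ := by
    intro j
    induction j with
    | zero => simp
    | succ j ih =>
      intro y
      rw [pow_succ']
      show ρ g * (((σ ^ j) y : R) : Module.End (ZMod p) (Additive A)) * ρ g⁻¹ = _
      rw [ih, pow_succ', mul_inv_rev, map_mul, map_mul]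
      simp [mul_assoc]
  refine ⟨k, hk, fun x hx a ha => ?_⟩
  have hρx : ρ x ∈ R := Algebra.subset_adjoin ⟨x, hx, rfl⟩
  have hzero : (σ ^ k) ⟨ρ x, hρx⟩ - ⟨ρ x, hρx⟩ = 0 := hred _ (by
    by_contra hn
    obtain ⟨χ, hχ⟩ := exists_algHom_ne (p := p) hn
    refine hχ ?_
    rw [map_sub, ← hiter, hek, Equiv.Perm.one_apply, sub_self])
  have h1 := congrArg Subtype.val (sub_eq_zero.1 hzero)
  rw [hσk] at h1
  change ρ (g ^ k) * ρ x * ρ (g ^ k)⁻¹ = ρ x at h1
  rw [← map_mul, ← map_mul] at h1
  rw [← hρ _ ⟨a, ha⟩, ← hρ _ ⟨a, ha⟩, h1]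

end CfsgLib.EightCore
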