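import Cfsg.Agent.EightCore.Model

/-!
# Simple groups with Sylow 2-subgroups `E₈`: a chief factor of an odd core moved by the involutions
-/

set_option autoImplicit false
set_option linter.unusedSectionVars false
set_option linter.unusedVariables false
set_option linter.style.haveILetI false

namespace CfsgLib.EightCore

open Subgroup

universe u

variable {X : Type u} [Group X] [Finite X]

/-- A chief factor `B / K` in the odd core of the centraliser of `t`, moved by an involution, such that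
the involutions centralise the odd core modulo `B`. -/
structure Factor (t : X) where
  p : ℕ
  prime : p.Prime
  ne_two : p ≠ 2
  K : Subgroup ↥(centralizer ({t} : Set X))
  B : Subgroup ↥(centralizer ({t} : Set X))
  normalK : K.Normal
  normalB : B.Normal
  hKB : K ≤ B
  hBD : B ≤ Cfsg.oddCore ↥(centralizer ({t} : Set X))
  comm : ∀ a ∈ B, ∀ b ∈ B, a * b * a⁻¹ * b⁻¹ ∈ K
  pow : ∀ b ∈ B, b ^ p ∈ K
  rel : ∀ y : ↥(centralizer ({t} : Set X)), orderOf (y : X) = 2 →
    ∀ d ∈ Cfsg.oddCore ↥(centralizer ({t} : Set X)), d * y * d⁻¹ * y ∈ B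
  moved : ∃ y : ↥(centralizer ({t} : Set X)), orderOf (y : X) = 2 ∧ ∃ b ∈ B, y * b * y⁻¹ * b⁻¹ ∉ K

attribute [instance] Factor.normalK Factor.normalB

/-- Either the involutions of `C(t)` centralise its odd core or there is such a factor. -/
theorem factor_or_commute (t : X) :
    (∀ y : ↥(centralizer ({t} : Set X)), orderOf (y : X) = 2 →
      ∀ d ∈ Cfsg.oddCore ↥(centralizer ({t} : Set X)), Commute y d) ∨ Nonempty (Factor t) := by
  set C := centralizer ({t} : Set X)
  set D := Cfsg.oddCore ↥C with hD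
  haveI : D.Normal := DGroup.normal_oddCore _
  have hinv : ∀ y : ↥C, orderOf (y : X) = 2 → y⁻¹ = y := fun y hy =>
    inv_eq_of_mul_eq_one_right (Subtype.ext (by
      have := pow_orderOf_eq_one (y : X)
      rwa [hy, pow_two] at this))
  let bad : Subgroup ↥C → Prop := fun S => S.Normal ∧ S ≤ D ∧
    ∃ y : ↥C, orderOf (y : X) = 2 ∧ ∃ d ∈ D, d * y * d⁻¹ * y ∉ S
  by_cases h0 : bad ⊥
  swap
  · left
    intro y hy d hd
    by_contra hne
    refine h0 ⟨inferInstance, bot_le, y, hy, d, hd, fun e => hne ?_⟩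
    rw [mem_bot, mul_eq_one_iff_eq_inv, hinv y hy, mul_inv_eq_iff_eq_mul] at e
    exact e.symm
  right
  obtain ⟨S, -, ⟨hSn, hSD, y, hy, d, hd, hyd⟩, hmax⟩ :=
    exists_maximal_ge_of_wellFoundedGT bad ⊥ h0
  haveI := hSn
  set π := QuotientGroup.mk' S
  haveI : (D.map π).Normal := Subgroup.Normal.map inferInstance _ (QuotientGroup.mk'_surjective S)
  have hDS : D.map π ≠ ⊥ := fun e => hyd ((QuotientGroup.eq_one_iff _).1 (by
    refine mem_bot.1 (e.le ⟨d * y * d⁻¹ * y, ?_, rfl⟩)
    rw [show d * y * d⁻¹ * y = d * (y * d⁻¹ * y⁻¹) by rw [hinv y hy]; group]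
    exact mul_mem hd (Subgroup.Normal.conj_mem inferInstance _ (inv_mem hd) y)))
  obtain ⟨M, hMn, hM1, hMD, hMmin⟩ := CfsgLib.Solvable.exists_minimal_normal_le (N := D.map π) hDS
  haveI := hMn
  set B := M.comap π
  have hSB : S ≤ B := fun s hs => by
    show π s ∈ M
    rw [show π s = 1 from (QuotientGroup.eq_one_iff s).2 hs]; exact one_mem _
  have hBD : B ≤ D := fun b hb => by
    obtain ⟨e, he, heb⟩ := hMD hb
    have h1 : e⁻¹ * b ∈ S := QuotientGroup.eq.1 heb
    simpa using mul_mem he (hSD h1)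
  have hBne : ¬ B ≤ S := fun hle => hM1 ((Subgroup.eq_bot_iff_forall M).2 fun m hm => by
    obtain ⟨b, rfl⟩ := QuotientGroup.mk'_surjective S m
    exact (QuotientGroup.eq_one_iff b).2 (hle hm))
  have hrel : ∀ y : ↥C, orderOf (y : X) = 2 → ∀ d ∈ D, d * y * d⁻¹ * y ∈ B := by
    intro y hy d hd
    by_contra hn
    exact hBne (hmax ⟨inferInstance, hBD, y, hy, d, hd, hn⟩ hSB)
  haveI : Group.IsSolvable D := OddEnd.odd_solvable _ (DGroup.odd_oddCore _)
  haveI : Group.IsSolvable B := Group.isSolvable_of_isSolvable_injective (inclusion_injective hBD)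
  have hsol : Group.IsSolvable M := by
    refine Group.isSolvable_of_surjective (f := π.subgroupComap M) ?_
    exact MonoidHom.subgroupComap_surjective_of_surjective _ _ (QuotientGroup.mk'_surjective S)
  obtain ⟨hMc, p, hp, hpow, hMp⟩ := CfsgLib.Solvable.minimal_normal_elementary hM1 hMmin hsol
  haveI := Fact.mk hp
  have hp2 : p ≠ 2 := by
    rintro rfl
    obtain ⟨⟨m, hm⟩, hm2⟩ := exists_prime_orderOf_dvd_card' (G := M) 2 (by
      obtain ⟨k, hk⟩ := IsPGroup.iff_card.1 hMp
      rw [hk]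
      refine dvd_pow_self 2 fun e => hM1 (eq_bot_of_card_eq _ (by rw [hk, e, pow_zero])))
    rw [Subgroup.orderOf_mk] at hm2
    obtain ⟨b, hb, rfl⟩ := hMD hm
    have h1 : Odd (orderOf (π b)) :=
      (DGroup.odd_orderOf (DGroup.odd_oddCore _) hb).of_dvd_nat (orderOf_map_dvd _ _)
    rw [hm2] at h1
    exact absurd h1 (by decide)
  refine ⟨{ p := p, prime := hp, ne_two := hp2, K := S, B := B, normalK := hSn, normalB := inferInstance,
            hKB := hSB, hBD := hBD
            comm := fun a ha b hb => ?_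
            pow := fun b hb => ?_
            rel := hrel
            moved := ?_ }⟩
  · rw [← QuotientGroup.eq_one_iff]
    show π (a * b * a⁻¹ * b⁻¹) = 1
    have h1 : π a * π b = π b * π a := congrArg Subtype.val (hMc.1.comm (⟨π a, ha⟩ : M) ⟨π b, hb⟩)
    rw [map_mul, map_mul, map_mul, map_inv, map_inv, h1, mul_inv_cancel_right, mul_inv_cancel]
  · rw [← QuotientGroup.eq_one_iff]
    show π (b ^ p) = 1
    rw [map_pow]; exact hpow _ hb
  · by_contra hcon
    push Not at hcon
    refine hyd ?_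
    set r := d * y * d⁻¹ * y
    have hrB : r ∈ B := hrel y hy d hd
    have h1 : π (y * r * y⁻¹ * r⁻¹) = 1 := (QuotientGroup.eq_one_iff _).2 (hcon y hy r hrB)
    have hy1 : y * y = 1 := by nth_rw 2 [← hinv y hy]; exact mul_inv_cancel y
    have e : y * r * y⁻¹ = r⁻¹ := by
      simp only [r, mul_inv_rev, inv_inv, hinv y hy]
      rw [show y * (d * y * d⁻¹ * y) * y = y * (d * y * d⁻¹) * (y * y) by group, hy1, mul_one]
      group
    rw [e, map_mul, map_inv, ← mul_inv_rev, inv_eq_one] at h1
    have h2 : π r * π r = 1 := h1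
    have hro : Odd (orderOf (π r)) :=
      (DGroup.odd_orderOf (DGroup.odd_oddCore _) (hBD hrB)).of_dvd_nat (orderOf_map_dvd _ _)
    exact (QuotientGroup.eq_one_iff r).1 (DGroup.eq_one_of_sq h2 hro)

end CfsgLib.EightCore
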