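import Cfsg.Agent.EightCore.Factor

/-!
# Simple groups with Sylow 2-subgroups `E₈`: the chief factor has rank three
-/

set_option autoImplicit false
set_option linter.unusedSectionVars false
set_option linter.unusedVariables false
set_option linter.style.haveILetI false

namespace CfsgLib.EightCore

open Subgroup

universe u

/-- An involution splits a commutative group into the fixed and the inverted elements. -/
theorem split_le {Q : Type u} [Group Q] [Finite Q] (A : Subgroup Q)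
    (hc : ∀ a ∈ A, ∀ b ∈ A, a * b = b * a) (s : Q) (hs : s * s = 1) (hn : ∀ a ∈ A, s * a * s⁻¹ ∈ A) :
    ∃ K ≤ A, (∀ a, a ∈ K ↔ a ∈ A ∧ s * a * s⁻¹ = a⁻¹) ∧
      Nat.card A ≤ Nat.card ↥(A ⊓ centralizer ({s} : Set Q)) * Nat.card K := by
  let K : Subgroup Q :=
    { carrier := {a | a ∈ A ∧ s * a * s⁻¹ = a⁻¹}
      one_mem' := ⟨one_mem _, by simp⟩
      mul_mem' := fun {a b} ha hb => ⟨mul_mem ha.1 hb.1, by
        rw [← conj_mul, ha.2, hb.2, mul_inv_rev, hc _ (inv_mem ha.1) _ (inv_mem hb.1)]⟩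
      inv_mem' := fun {a} ha => ⟨inv_mem ha.1, by rw [← conj_inv, ha.2]⟩ }
  refine ⟨K, fun a ha => ha.1, fun a => Iff.rfl, ?_⟩
  have hss : ∀ a, s * (s * a * s⁻¹) * s⁻¹ = a := fun a => by
    rw [inv_eq_of_mul_eq_one_right hs, show s * (s * a * s) * s = s * s * a * (s * s) by group, hs,
      one_mul, mul_one]
  let f : A →* ↥(A ⊓ centralizer ({s} : Set Q)) :=
    { toFun := fun a => ⟨a * (s * a * s⁻¹), mem_inf.2 ⟨mul_mem a.2 (hn a a.2),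
        mem_centralizer_singleton_iff.2 (by
          refine (mul_inv_eq_iff_eq_mul.1 ?_).symm
          rw [← conj_mul, hss]
          exact hc _ (hn a a.2) _ a.2)⟩⟩
      map_one' := Subtype.ext (by simp)
      map_mul' := fun a b => Subtype.ext (by
        show (a : Q) * b * (s * (a * b) * s⁻¹) = a * (s * a * s⁻¹) * (b * (s * b * s⁻¹))
        rw [← conj_mul, mul_assoc (a : Q) b, ← mul_assoc (b : Q) (s * a * s⁻¹), hc _ b.2 _ (hn a a.2)]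
        simp only [mul_assoc]) }
  have h1 := Subgroup.card_mul_index f.ker
  rw [index_ker] at h1
  rw [← h1, mul_comm]
  refine Nat.mul_le_mul (Subgroup.card_le_card_group _) ?_
  refine Nat.card_le_card_of_injective (fun a : f.ker => (⟨(a : A), (a : A).2, ?_⟩ : K)) fun a b e =>
    Subtype.ext (Subtype.ext (congrArg (fun z : K => (z : Q)) e))
  exact eq_inv_of_mul_eq_one_right (congrArg Subtype.val (MonoidHom.mem_ker.1 a.2))

variable {X : Type u} [Group X] [Finite X] {T : Subgroup X} {t : X}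

namespace Factor

variable (Φ : Factor t)

/-- The quotient map. -/
abbrev ρ : ↥(centralizer ({t} : Set X)) →* ↥(centralizer ({t} : Set X)) ⧸ Φ.K := QuotientGroup.mk' Φ.K

/-- The chief factor as a subgroup of the quotient. -/
def A : Subgroup (↥(centralizer ({t} : Set X)) ⧸ Φ.K) := Φ.B.map Φ.ρ

instance : Φ.A.Normal := Φ.normalB.map _ (QuotientGroup.mk'_surjective _)

theorem mem_A {b : ↥(centralizer ({t} : Set X))} (hb : b ∈ Φ.B) : Φ.ρ b ∈ Φ.A := ⟨b, hb, rfl⟩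

theorem A_comm : ∀ a ∈ Φ.A, ∀ b ∈ Φ.A, a * b = b * a := by
  rintro _ ⟨a, ha, rfl⟩ _ ⟨b, hb, rfl⟩
  have h := (QuotientGroup.eq_one_iff _).2 (Φ.comm a ha b hb)
  have h' : Φ.ρ a * Φ.ρ b * (Φ.ρ a)⁻¹ * (Φ.ρ b)⁻¹ = 1 := h
  rwa [mul_inv_eq_one, mul_inv_eq_iff_eq_mul] at h'

theorem A_pow : ∀ a ∈ Φ.A, a ^ Φ.p = 1 := by
  rintro _ ⟨a, ha, rfl⟩
  rw [← map_pow]
  exact (QuotientGroup.eq_one_iff _).2 (Φ.pow a ha)

theorem A_pgroup : IsPGroup Φ.p Φ.A := fun a =>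
  ⟨1, Subtype.ext (by rw [pow_one, SubmonoidClass.coe_pow]; exact Φ.A_pow a a.2)⟩

/-- The subgroup `B` of `X`. -/
def Bx : Subgroup X := Φ.B.map (centralizer ({t} : Set X)).subtype

theorem Bx_le : Φ.Bx ≤ centralizer ({t} : Set X) := map_subtype_le _

theorem odd_Bx : Odd (Nat.card Φ.Bx) := by
  rw [Bx, card_map_of_injective (subtype_injective _)]
  exact (DGroup.odd_oddCore _).of_dvd_nat (card_dvd_of_le Φ.hBD)

theorem le_normalizer_Bx : centralizer ({t} : Set X) ≤ normalizer (Φ.Bx : Set X) :=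
  Signalizer.le_normalizer_of_conj_mem fun v hv z hz => by
    obtain ⟨b, hb, rfl⟩ := hz
    exact ⟨⟨v, hv⟩ * b * ⟨v, hv⟩⁻¹, Φ.normalB.conj_mem b hb _, rfl⟩

variable (h : Hyp T) (ht : t ∈ T) (ht1 : t ≠ 1)

include h ht ht1

theorem exists_conj_T {y : ↥(centralizer ({t} : Set X))} (hy : orderOf (y : X) = 2) :
    ∃ g : ↥(centralizer ({t} : Set X)), ((g * y * g⁻¹ : ↥(centralizer ({t} : Set X))) : X) ∈ T := by
  haveI : Fact (Nat.Prime 2) := ⟨Nat.prime_two⟩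
  obtain ⟨S, hS⟩ := h.toEight.sylowIn (h.toEight.le_cent ht)
  obtain ⟨Q, hQ⟩ := (isPGroup_zpowers_of_orderOf (show orderOf y = 2 by rw [← orderOf_coe]; exact hy)).exists_le_sylow
  obtain ⟨g, hg⟩ := MulAction.exists_smul_eq ↥(centralizer ({t} : Set X)) Q S
  refine ⟨g, ?_⟩
  have : g * y * g⁻¹ ∈ T.subgroupOf (centralizer ({t} : Set X)) := by
    rw [← hS, ← hg]; exact ⟨y, hQ (mem_zpowers _), rfl⟩
  exact this

/-- Some element of `T` acts nontrivially. -/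
theorem moved_T : ∃ d : ↥(centralizer ({t} : Set X)), (d : X) ∈ T ∧ ∃ a ∈ Φ.A, ¬ Commute (Φ.ρ d) a := by
  obtain ⟨y, hy, b, hb, hyb⟩ := Φ.moved
  obtain ⟨g, hg⟩ := Factor.exists_conj_T h ht ht1 hy
  refine ⟨_, hg, Φ.ρ (g * b * g⁻¹), Φ.mem_A (Φ.normalB.conj_mem b hb g), fun hc => hyb ?_⟩
  rw [map_mul, map_mul, map_mul, map_mul, map_inv] at hc
  have h1 : Commute (Φ.ρ y) (Φ.ρ b) := (Commute.conj_iff (Φ.ρ g)).1 hc
  rw [← QuotientGroup.eq_one_iff]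
  show Φ.ρ (y * b * y⁻¹ * b⁻¹) = 1
  rw [map_mul, map_mul, map_mul, map_inv, map_inv, h1.eq, mul_inv_cancel_right, mul_inv_cancel]

theorem commute_ρt (a : ↥(centralizer ({t} : Set X)) ⧸ Φ.K) :
    Commute (Φ.ρ ⟨t, mem_centralizer_singleton_iff.2 rfl⟩) a := by
  obtain ⟨c, rfl⟩ := QuotientGroup.mk'_surjective Φ.K a
  exact (show Commute (⟨t, mem_centralizer_singleton_iff.2 rfl⟩ : ↥(centralizer ({t} : Set X))) c from
    Subtype.ext (mem_centralizer_singleton_iff.1 c.2).symm).map _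

/-- Fixed points lift. -/
theorem exists_fixed_lift {S : Subgroup X} (hS : S ≤ T) {a : ↥(centralizer ({t} : Set X)) ⧸ Φ.K}
    (ha : a ∈ Φ.A) (hfix : ∀ d : ↥(centralizer ({t} : Set X)), (d : X) ∈ S → Commute (Φ.ρ d) a) :
    ∃ b : ↥(centralizer ({t} : Set X)), b ∈ Φ.B ∧ Φ.ρ b = a ∧ ∀ s ∈ S, Commute s (b : X) := by
  set C := centralizer ({t} : Set X)
  haveI : Fact (Nat.Prime 2) := ⟨Nat.prime_two⟩
  have hSC := hS.trans (h.toEight.le_cent ht)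
  obtain ⟨k, hk, rfl⟩ := ha
  have hS2 : IsPGroup 2 ↥(S.subgroupOf C) := (h.toEight.isPGroup.to_le hS).comap_subtype
  haveI := hS2.isNilpotent
  obtain ⟨n, hn⟩ := IsPGroup.iff_card.1 hS2
  obtain ⟨c, hc, hkc⟩ := CoprimeAct.exists_centralizing_mem_coset (A := S.subgroupOf C) (K := Φ.B) (N := Φ.K)
    (le_normalizer_of_normal)
    (hn ▸ (Nat.coprime_two_left.2 ((DGroup.odd_oddCore _).of_dvd_nat (card_dvd_of_le Φ.hBD))).pow_left n)
    Φ.hKB le_normalizer_of_normal (Or.inl inferInstance) hk fun d hd => by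
      rw [← QuotientGroup.eq_one_iff]
      show Φ.ρ (k⁻¹ * (d * k * d⁻¹)) = 1
      rw [map_mul, map_mul, map_mul, map_inv, map_inv, (hfix d hd).eq, mul_inv_cancel_right, inv_mul_cancel]
  refine ⟨c, (mem_inf.1 hc).1, ?_, fun s hs => ?_⟩
  · refine (inv_mul_eq_one.1 ?_).symm
    rw [← map_inv, ← map_mul]
    exact (QuotientGroup.eq_one_iff _).2 hkc
  · exact congrArg Subtype.val (mem_centralizer_iff.1 (mem_inf.1 hc).2 ⟨s, hSC hs⟩ hs)

/-- A `T`-invariant `p`-subgroup covering the factor. -/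
theorem exists_cover : ∃ Q : Subgroup X, IsPGroup Φ.p Q ∧ T ≤ normalizer (Q : Set X) ∧ Q ≤ Φ.Bx ∧
    ∀ a ∈ Φ.A, ∃ b : ↥(centralizer ({t} : Set X)), (b : X) ∈ Q ∧ Φ.ρ b = a := by
  set C := centralizer ({t} : Set X)
  haveI := Fact.mk Φ.prime
  haveI : Fact (Nat.Prime 2) := ⟨Nat.prime_two⟩
  have hTC := h.toEight.le_cent ht
  haveI : Group.IsNilpotent ↥(T.subgroupOf C) := (h.toEight.isPGroup.comap_subtype (K := C)).isNilpotent
  obtain ⟨R, hR⟩ := CoprimeAct.exists_invariant_sylow (A := T.subgroupOf C) (K := Φ.B) le_normalizer_of_normal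
    (by
      rw [Nat.card_congr (subgroupOfEquivOfLe hTC).toEquiv, h.card]
      exact (Nat.coprime_two_left.2 ((DGroup.odd_oddCore _).of_dvd_nat (card_dvd_of_le Φ.hBD))).pow_left 3)
    (Or.inl inferInstance) Φ.p
  refine ⟨((R : Subgroup Φ.B).map Φ.B.subtype).map C.subtype, (R.2.map _).map _, ?_,
    map_mono (map_subtype_le _), ?_⟩
  · refine Signalizer.le_normalizer_of_conj_mem fun v hv z hz => ?_
    obtain ⟨q, hq, rfl⟩ := hz
    exact ⟨_, (mem_normalizer_iff.1 (hR (show (⟨v, hTC hv⟩ : ↥C) ∈ T.subgroupOf C from hv)) q).1 hq, rfl⟩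
  · let σ : Φ.B →* Φ.A := Φ.ρ.subgroupMap Φ.B
    have hσ : Function.Surjective σ := Φ.ρ.subgroupMap_surjective Φ.B
    have htop : (R : Subgroup Φ.B).map σ = ⊤ := by
      have h1 : ((R.mapSurjective hσ : Sylow Φ.p Φ.A) : Subgroup Φ.A) = (R : Subgroup Φ.B).map σ := rfl
      rw [← h1]
      exact ((R.mapSurjective hσ).3 (Q := (⊤ : Subgroup Φ.A)) (Φ.A_pgroup.of_equiv topEquiv.symm) le_top).symm
    intro a ha
    obtain ⟨r, hr, hra⟩ := htop.ge (mem_top (⟨a, ha⟩ : Φ.A))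
    exact ⟨r, ⟨r, ⟨r, hr, rfl⟩, rfl⟩, congrArg Subtype.val hra⟩

/-- No element of order `p` centralises `T`, and two lines carry commuting ones. -/
theorem noFixed_twoLine : NoFixed T Φ.p ∧ TwoLine T Φ.p := by
  set C := centralizer ({t} : Set X)
  haveI := Fact.mk Φ.prime
  obtain ⟨Q, hQ, hTQ, hQB, hcov⟩ := Φ.exists_cover h ht ht1
  have hQC : Q ≤ C := hQB.trans Φ.Bx_le
  obtain ⟨d, hd, a₀, ha₀, hnc⟩ := Φ.moved_T h ht ht1
  have hnotle : ∀ {S : Subgroup X}, (d : X) ∈ S → ¬ Q ≤ centralizer (S : Set X) := fun hdS hle => hnc (by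
    obtain ⟨b, hb, rfl⟩ := hcov a₀ ha₀
    exact (show Commute d b from Subtype.ext (mem_centralizer_iff.1 (hle hb) d hdS)).map _)
  have hQodd : Odd (Nat.card Q) := Φ.odd_Bx.of_dvd_nat (card_dvd_of_le hQB)
  obtain ⟨ℓ, hl, a, ha, hai, ha1⟩ : ∃ ℓ, IsLine T ℓ ∧ ∃ a ∈ Q, a ∈ inverted T ℓ ∧ a ≠ 1 := by
    by_contra hcon
    push Not at hcon
    exact hnotle hd (h.toEight.commute_of_no_inverted hQodd hTQ fun ℓ hl a ha hai => hcon ℓ hl a ha hai)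
  obtain ⟨k, hk⟩ := IsPGroup.iff_orderOf.1 hQ ⟨a, ha⟩
  rw [Subgroup.orderOf_mk] at hk
  obtain ⟨i, hi, hio⟩ := h.toEight.exists_pow_weight hai ha1 hk
  have hN : NoFixed T Φ.p := h.toEight.noFixed_of_weight h.aut hl hi hio
  refine ⟨hN, ?_⟩
  by_contra hT2
  -- otherwise `ℓ` centralises the cover
  have hle : Q ≤ centralizer (ℓ : Set X) := by
    refine h.toEight.le_of_lines hQodd hTQ fun m hm => ?_
    by_cases hml : m = ℓ
    · exact hml ▸ inf_le_right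
    intro g hg
    obtain ⟨hgQ, hgm⟩ := mem_inf.1 hg
    obtain ⟨b, hb, hbi, c, hc, hcT, rfl⟩ := h.toEight.exists_split hm hQodd hTQ hgQ fun y hy =>
      mem_centralizer_iff.1 hgm y hy
    have hb1 : b = 1 := by
      by_contra hb1
      exact hT2 (h.toEight.twoLine_of_weights Φ.ne_two hQ hTQ hN hl hm (Ne.symm hml) ha hai ha1 hb hbi hb1)
    have hc1 : c = 1 := by
      by_contra hc1
      obtain ⟨k, hk⟩ := IsPGroup.iff_orderOf.1 hQ ⟨c, hc⟩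
      rw [Subgroup.orderOf_mk] at hk
      rcases k with _ | k
      · exact hc1 (orderOf_eq_one_iff.1 (hk.trans (pow_zero _)))
      · refine hN (c ^ Φ.p ^ k) ?_ fun v hv => (hcT v hv).pow_right _
        rw [orderOf_pow_of_dvd (pow_ne_zero _ Φ.prime.ne_zero) (hk ▸ pow_dvd_pow _ k.le_succ), hk, pow_succ,
          Nat.mul_div_cancel_left _ (pow_pos Φ.prime.pos k)]
    rw [hb1, hc1, one_mul]; exact one_mem _
  have htl : t ∈ ℓ := by
    rw [← h.toEight.weight_card hl hai ha1]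
    exact mem_inf.2 ⟨ht, mem_centralizer_zpowers (mem_centralizer_singleton_iff.1 (hQC ha))⟩
  obtain ⟨n, hnt, hn, hnm⟩ := h.exists_rot ht ht1
  set nh : ↥C := ⟨n, mem_centralizer_singleton_iff.2 hnt.eq⟩
  set ℓ' := ℓ.map (MulAut.conj n).toMonoidHom
  have hne : ℓ' ≠ ℓ := h.toEight.line_moved hn hnm ht1
    (by rw [hnt.eq, mul_inv_cancel_right]) hl htl
  have hl' : IsLine T ℓ' := h.toEight.line_map hl hn
  let Kr : Subgroup ↥C :=
    { carrier := {c | ∀ a ∈ Φ.A, Commute (Φ.ρ c) a}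
      one_mem' := fun a _ => by rw [map_one]; exact Commute.one_left a
      mul_mem' := fun {x y} hx hy a ha => by rw [map_mul]; exact (hx a ha).mul_left (hy a ha)
      inv_mem' := fun {x} hx a ha => by rw [map_inv]; exact (hx a ha).inv_left }
  have hlK : ∀ c : ↥C, (c : X) ∈ ℓ → c ∈ Kr := fun c hc a' ha' => by
    obtain ⟨b, hb, rfl⟩ := hcov a' ha'
    exact (show Commute c b from Subtype.ext (mem_centralizer_iff.1 (hle hb) c hc)).map _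
  have hlK' : ∀ c : ↥C, (c : X) ∈ ℓ' → c ∈ Kr := by
    intro c hc a' ha'
    obtain ⟨y, hy, hyc⟩ := hc
    have hyC : y ∈ C := h.toEight.le_cent ht (hl.1 hy)
    have h1 := hlK ⟨y, hyC⟩ hy ((Φ.ρ nh)⁻¹ * a' * Φ.ρ nh) (Normal.conj_mem' inferInstance a' ha' _)
    have e : c = nh * ⟨y, hyC⟩ * nh⁻¹ := Subtype.ext hyc.symm
    rw [e, map_mul, map_mul, map_inv]
    have h2 := (Commute.conj_iff (Φ.ρ nh)).2 h1
    rwa [show Φ.ρ nh * ((Φ.ρ nh)⁻¹ * a' * Φ.ρ nh) * (Φ.ρ nh)⁻¹ = a' by group] at h2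
  obtain ⟨u, hu, hu'⟩ : ∃ u ∈ ℓ', u ∉ ℓ := by
    by_contra hcon
    push Not at hcon
    exact hne (eq_of_le_of_card_ge hcon (by rw [hl'.2, hl.2]))
  refine hnc ?_
  rcases h.toEight.mem_or_coset hl (hl'.1 hu) hu' hd with e | e
  · exact hlK d e a₀ ha₀
  · have hu1 := hlK' ⟨u, h.toEight.le_cent ht (hl'.1 hu)⟩ hu
    have h1 : d ∈ Kr := by
      have h2 := Kr.mul_mem hu1 (hlK (⟨u, h.toEight.le_cent ht (hl'.1 hu)⟩ * d) e)
      rwa [← mul_assoc, show (⟨u, h.toEight.le_cent ht (hl'.1 hu)⟩ : ↥C) * ⟨u, h.toEight.le_cent ht (hl'.1 hu)⟩ = 1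
        from Subtype.ext (h.sq u (hl'.1 hu)), one_mul] at h2
    exact h1 a₀ ha₀

theorem exists_pair : ∃ a b : X, Pair Φ.p a b := by
  haveI := Fact.mk Φ.prime
  obtain ⟨r, m, hr, hm, hne, c, d, hci, hdi, hco, hdo, hcd⟩ := (Φ.noFixed_twoLine h ht ht1).2
  exact ⟨c, d, h.toEight.twoLine_pair hr hm hne hci hdi hco hdo hcd⟩

/-- `T` fixes nothing in the factor. -/
theorem fixed_T {a : ↥(centralizer ({t} : Set X)) ⧸ Φ.K} (ha : a ∈ Φ.A)
    (hfix : ∀ d : ↥(centralizer ({t} : Set X)), (d : X) ∈ T → Commute (Φ.ρ d) a) : a = 1 := by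
  haveI := Fact.mk Φ.prime
  obtain ⟨b, hb, rfl, hbT⟩ := Φ.exists_fixed_lift h ht ht1 le_rfl ha hfix
  by_contra ha1
  have ho : orderOf (Φ.ρ b) = Φ.p := orderOf_eq_prime (Φ.A_pow _ ha) ha1
  have hd : Φ.p ∣ orderOf (b : X) := by rw [orderOf_coe, ← ho]; exact orderOf_map_dvd _ _
  exact (Φ.noFixed_twoLine h ht ht1).1 _ (orderOf_pow_orderOf_div (orderOf_pos (b : X)).ne' hd)
    fun v hv => (hbT v hv).pow_right _

/-- An element of `T` outside `⟨t⟩` fixes at most `p` elements. -/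
theorem card_fixed_T {d : ↥(centralizer ({t} : Set X))} (hd : (d : X) ∈ T) (hd1 : (d : X) ≠ 1) (hdt : (d : X) ≠ t) :
    Nat.card ↥(Φ.A ⊓ centralizer ({Φ.ρ d} : Set _)) ≤ Φ.p := by
  revert d
  set C := centralizer ({t} : Set X)
  intro d hd hd1 hdt
  haveI := Fact.mk Φ.prime
  obtain ⟨hN, h2⟩ := Φ.noFixed_twoLine h ht ht1
  haveI : Fact (Nat.Prime 2) := ⟨Nat.prime_two⟩
  set ℓ := h.toEight.lineOf t d
  have hl : IsLine T ℓ := h.toEight.isLine_lineOf ht hd ht1 hd1 hdt.symm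
  set M := Φ.Bx ⊓ centralizer (ℓ : Set X)
  have hModd : Odd (Nat.card M) := Φ.odd_Bx.of_dvd_nat (card_dvd_of_le inf_le_left)
  have hTM : T ≤ normalizer (M : Set X) :=
    Signalizer.le_normalizer_inf_centralizer h.toEight.elem ((h.toEight.le_cent ht).trans Φ.le_normalizer_Bx) hl.1
  haveI := h.toEight.isPGroup.isNilpotent
  obtain ⟨R, hR⟩ := CoprimeAct.exists_invariant_sylow (A := T) (K := M) hTM
    (h.card ▸ (Nat.coprime_two_left.2 hModd).pow_left 3) (Or.inl inferInstance) Φ.p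
  have hRp : Nat.card (R : Subgroup M) ≤ Φ.p := by
    rw [← card_map_of_injective M.subtype_injective]
    exact h.toEight.line_card_le h.aut Φ.ne_two h2 hN hl (R.2.map _) hR
      ((map_subtype_le _).trans inf_le_right)
  obtain ⟨k, hk⟩ := IsPGroup.iff_card.1 (Φ.A_pgroup.to_le (inf_le_left (b := centralizer ({Φ.ρ d} : Set _))))
  rw [hk]
  by_contra hgt
  have hk2 : 2 ≤ k := by
    by_contra hk2
    interval_cases k
    · exact hgt (by rw [pow_zero]; exact Φ.prime.one_lt.le)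
    · exact hgt (by rw [pow_one])
  have hsub : Φ.A ⊓ centralizer ({Φ.ρ d} : Set _) ≤ (M.subgroupOf C).map Φ.ρ := by
    intro a ha
    obtain ⟨haA, hac⟩ := mem_inf.1 ha
    obtain ⟨b, hb, hba, hbl⟩ := Φ.exists_fixed_lift h ht ht1 hl.1 haA fun e he => by
      have hcd : Commute (Φ.ρ d) a := (mem_centralizer_singleton_iff.1 hac).symm
      rcases (h.toEight.mem_lineOf ht hd).1 he with e1 | e1 | e1 | e1
      · rw [show e = 1 from Subtype.ext e1, map_one]; exact Commute.one_left a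
      · rw [show e = ⟨t, mem_centralizer_singleton_iff.2 rfl⟩ from Subtype.ext e1]; exact Φ.commute_ρt h ht ht1 a
      · rw [show e = d from Subtype.ext e1]; exact hcd
      · rw [show e = ⟨t, mem_centralizer_singleton_iff.2 rfl⟩ * d from Subtype.ext e1, map_mul]
        exact (Φ.commute_ρt h ht ht1 a).mul_left hcd
    exact ⟨b, mem_subgroupOf.2 (mem_inf.2 ⟨⟨b, hb, rfl⟩, mem_centralizer_iff.2 fun s hs => (hbl s hs).eq⟩), hba⟩
  have hdvd : Φ.p ^ 2 ∣ Nat.card M := by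
    refine ((pow_dvd_pow Φ.p hk2).trans (hk ▸ card_dvd_of_le hsub)).trans ?_
    refine (card_map_dvd _ _).trans (dvd_of_eq ?_)
    exact Nat.card_congr (subgroupOfEquivOfLe (inf_le_left.trans Φ.Bx_le)).toEquiv
  have h3 := Nat.le_of_dvd Nat.card_pos (R.pow_dvd_card_of_pow_dvd_card hdvd)
  have := Φ.prime.two_le
  nlinarith

/-- An involution other than `t` fixes at most `p` elements. -/
theorem card_fixed {y : ↥(centralizer ({t} : Set X))} (hy : orderOf (y : X) = 2) (hyt : (y : X) ≠ t) :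
    Nat.card ↥(Φ.A ⊓ centralizer ({Φ.ρ y} : Set _)) ≤ Φ.p := by
  obtain ⟨g, hg⟩ := Factor.exists_conj_T h ht ht1 hy
  refine le_trans ?_ (Φ.card_fixed_T h ht ht1 hg ?_ ?_)
  · refine Nat.card_le_card_of_injective (fun a => (⟨Φ.ρ g * a * (Φ.ρ g)⁻¹, mem_inf.2
      ⟨Normal.conj_mem inferInstance _ (mem_inf.1 a.2).1 _, mem_centralizer_singleton_iff.2 ?_⟩⟩ :
        ↥(Φ.A ⊓ centralizer ({Φ.ρ (g * y * g⁻¹)} : Set _)))) fun a b e => Subtype.ext ?_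
    · rw [map_mul, map_mul, map_inv]
      exact ((Commute.conj_iff _).2 (show Commute _ (Φ.ρ y) from
        mem_centralizer_singleton_iff.1 (mem_inf.1 a.2).2)).eq
    · exact mul_left_cancel (mul_right_cancel (congrArg Subtype.val e))
  · intro e
    have e' : g * y * g⁻¹ = 1 := Subtype.ext e
    rw [conj_eq_one_iff] at e'
    rw [e', OneMemClass.coe_one, orderOf_one] at hy
    omega
  · intro e
    have h2 : (g : X) * t = t * g := mem_centralizer_singleton_iff.1 g.2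
    refine hyt ?_
    calc (y : X) = (g : X)⁻¹ * ((g : X) * y * (g : X)⁻¹) * g := by group
      _ = (g : X)⁻¹ * t * g := by rw [show (g : X) * y * (g : X)⁻¹ = t from e]
      _ = t := by rw [mul_assoc, ← h2, inv_mul_cancel_left]

/-- The elements of `T` outside `⟨t⟩` span the factor. -/
theorem card_le_fixed {d e : ↥(centralizer ({t} : Set X))} (hd : (d : X) ∈ T) (he : (e : X) ∈ T) :
    Nat.card Φ.A ≤ Nat.card ↥(Φ.A ⊓ centralizer ({Φ.ρ d} : Set _)) *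
      (Nat.card ↥(Φ.A ⊓ centralizer ({Φ.ρ e} : Set _)) *
        Nat.card ↥(Φ.A ⊓ centralizer ({Φ.ρ (d * e)} : Set _))) := by
  have hsq : ∀ d : ↥(centralizer ({t} : Set X)), (d : X) ∈ T → Φ.ρ d * Φ.ρ d = 1 := fun d hd => by
    rw [← map_mul, show d * d = 1 from Subtype.ext (h.sq _ hd), map_one]
  have hcde : Φ.ρ d * Φ.ρ e = Φ.ρ e * Φ.ρ d := by
    rw [← map_mul, ← map_mul, show d * e = e * d from Subtype.ext (h.toEight.comm hd he).eq]
  obtain ⟨K, hKA, hK, h1⟩ := split_le Φ.A Φ.A_comm (Φ.ρ d) (hsq d hd) fun a ha => Normal.conj_mem inferInstance a ha _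
  obtain ⟨K', hKK', hK', h2⟩ := split_le K (fun a ha b hb => Φ.A_comm a (hKA ha) b (hKA hb)) (Φ.ρ e) (hsq e he)
    fun a ha => (hK _).2 ⟨Normal.conj_mem inferInstance a (hKA ha) _, by
      rw [show Φ.ρ d * (Φ.ρ e * a * (Φ.ρ e)⁻¹) * (Φ.ρ d)⁻¹ = (Φ.ρ d * Φ.ρ e) * a * (Φ.ρ d * Φ.ρ e)⁻¹ by group,
        hcde, show (Φ.ρ e * Φ.ρ d) * a * (Φ.ρ e * Φ.ρ d)⁻¹ = Φ.ρ e * (Φ.ρ d * a * (Φ.ρ d)⁻¹) * (Φ.ρ e)⁻¹ by group,
        ((hK a).1 ha).2, conj_inv]⟩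
  refine h1.trans (Nat.mul_le_mul le_rfl (h2.trans (Nat.mul_le_mul
    (Subgroup.card_le_of_le (inf_le_inf hKA le_rfl)) (Subgroup.card_le_of_le fun a ha => ?_))))
  refine mem_inf.2 ⟨hKA (hKK' ha), mem_centralizer_singleton_iff.2 ?_⟩
  refine (mul_inv_eq_iff_eq_mul.1 ?_).symm
  rw [map_mul, show Φ.ρ d * Φ.ρ e * a * (Φ.ρ d * Φ.ρ e)⁻¹ = Φ.ρ d * (Φ.ρ e * a * (Φ.ρ e)⁻¹) * (Φ.ρ d)⁻¹ by group,
    ((hK' a).1 ha).2, ← conj_inv, ((hK a).1 (hKK' ha)).2, inv_inv]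

/-- The factor has order `p³`. -/
theorem card_A : Nat.card Φ.A = Φ.p ^ 3 := by
  set C := centralizer ({t} : Set X)
  haveI := Fact.mk Φ.prime
  have hTC := h.toEight.le_cent ht
  obtain ⟨d₀, hd₀, hd₀t⟩ : ∃ d ∈ T, d ∉ zpowers t := by
    by_contra hcon
    push Not at hcon
    have := Subgroup.card_le_of_le (show T ≤ zpowers t from hcon)
    rw [h.card, Nat.card_zpowers, h.toEight.orderOf_eq_two ht ht1] at this
    omega
  have hd₀1 : d₀ ≠ 1 := fun e => hd₀t (e ▸ one_mem _)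
  have hd₀t' : t ≠ d₀ := fun e => hd₀t (e ▸ mem_zpowers t)
  set a₀ := h.toEight.lineOf t d₀
  have ha₀ : IsLine T a₀ := h.toEight.isLine_lineOf ht hd₀ ht1 hd₀1 hd₀t'
  obtain ⟨d₁, hd₁, hd₁a⟩ := h.toEight.exists_not_mem ha₀
  have hta : t ∈ a₀ := mem_sup_left (mem_zpowers t)
  have hd₁1 : d₁ ≠ 1 := fun e => hd₁a (e ▸ one_mem _)
  have hd₁t : t ≠ d₁ := fun e => hd₁a (e ▸ hta)
  have hd₂ : d₀ * d₁ ∈ T := mul_mem hd₀ hd₁
  have hd₀a : d₀ ∈ a₀ := mem_sup_right (mem_zpowers _)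
  have hd₂a : d₀ * d₁ ∉ a₀ := fun e => hd₁a ((mul_mem_cancel_left hd₀a).1 e)
  have hd₂1 : d₀ * d₁ ≠ 1 := fun e => hd₂a (e ▸ one_mem _)
  have hd₂t : t ≠ d₀ * d₁ := fun e => hd₂a (e ▸ hta)
  set e₀ : ↥C := ⟨d₀, hTC hd₀⟩
  set e₁ : ↥C := ⟨d₁, hTC hd₁⟩
  have hle := Φ.card_le_fixed h ht ht1 (d := e₀) (e := e₁) hd₀ hd₁
  refine le_antisymm (hle.trans ?_) ?_
  · refine le_trans (Nat.mul_le_mul (Φ.card_fixed_T h ht ht1 hd₀ hd₀1 hd₀t'.symm) (Nat.mul_le_mul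
      (Φ.card_fixed_T h ht ht1 hd₁ hd₁1 hd₁t.symm)
      (Φ.card_fixed_T h ht ht1 (d := e₀ * e₁) hd₂ hd₂1 hd₂t.symm))) (le_of_eq (by ring))
  -- one of the three fixes something; by rotation all three do
  obtain ⟨n, hnt, hn, hnm⟩ := h.exists_rot ht ht1
  have hfn : n * t * n⁻¹ = t := by rw [hnt.eq, mul_inv_cancel_right]
  set nh : ↥C := ⟨n, mem_centralizer_singleton_iff.2 hnt.eq⟩
  let Fx : Subgroup X → Prop := fun ℓ => ∃ a ∈ Φ.A, a ≠ 1 ∧ ∀ d : ↥C, (d : X) ∈ ℓ → Commute (Φ.ρ d) a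
  have hrot : ∀ ℓ : Subgroup X, ℓ ≤ T → Fx ℓ → Fx (ℓ.map (MulAut.conj n).toMonoidHom) := by
    rintro ℓ hℓ ⟨a, ha, ha1, hac⟩
    refine ⟨Φ.ρ nh * a * (Φ.ρ nh)⁻¹, Normal.conj_mem inferInstance a ha _, fun e => ha1 (conj_eq_one_iff.1 e), ?_⟩
    rintro c ⟨y, hy, hyc⟩
    rw [show c = nh * ⟨y, hTC (hℓ hy)⟩ * nh⁻¹ from Subtype.ext hyc.symm, map_mul, map_mul, map_inv]
    exact (Commute.conj_iff _).2 (hac _ hy)
  have mkFx : ∀ d : ↥C, (d : X) ∈ T → Nat.card ↥(Φ.A ⊓ centralizer ({Φ.ρ d} : Set _)) ≠ 1 →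
      Fx (h.toEight.lineOf t d) := by
    intro d hd hc
    obtain ⟨a, ha, ha1⟩ := ((Φ.A ⊓ centralizer ({Φ.ρ d} : Set _)).bot_or_exists_ne_one).resolve_left
      fun e => hc (card_eq_one.2 e)
    refine ⟨a, (mem_inf.1 ha).1, ha1, fun c hc => ?_⟩
    have hcd : Commute (Φ.ρ d) a := (mem_centralizer_singleton_iff.1 (mem_inf.1 ha).2).symm
    rcases (h.toEight.mem_lineOf ht hd).1 hc with e | e | e | e
    · rw [show c = 1 from Subtype.ext e, map_one]; exact Commute.one_left a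
    · rw [show c = ⟨t, mem_centralizer_singleton_iff.2 rfl⟩ from Subtype.ext e]; exact Φ.commute_ρt h ht ht1 a
    · rw [show c = d from Subtype.ext e]; exact hcd
    · rw [show c = ⟨t, mem_centralizer_singleton_iff.2 rfl⟩ * d from Subtype.ext e, map_mul]
      exact (Φ.commute_ρt h ht ht1 a).mul_left hcd
  obtain ⟨a, ha, hta', hFa⟩ : ∃ a, IsLine T a ∧ t ∈ a ∧ Fx a := by
    by_contra hcon
    push Not at hcon
    have h1 : ∀ d : ↥C, (d : X) ∈ T → (d : X) ≠ 1 → t ≠ (d : X) →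
        Nat.card ↥(Φ.A ⊓ centralizer ({Φ.ρ d} : Set _)) = 1 := fun d hd hd1 hdt => by
      by_contra hc
      exact hcon _ (h.toEight.isLine_lineOf ht hd ht1 hd1 hdt) (mem_sup_left (mem_zpowers t)) (mkFx d hd hc)
    rw [h1 e₀ hd₀ hd₀1 hd₀t', h1 e₁ hd₁ hd₁1 hd₁t, h1 (e₀ * e₁) hd₂ hd₂1 hd₂t] at hle
    obtain ⟨d, hd, b, hb, hnc⟩ := Φ.moved_T h ht ht1
    haveI : Subsingleton Φ.A := (Finite.card_le_one_iff_subsingleton).1 hle
    refine hnc ?_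
    rw [show b = 1 from congrArg Subtype.val (Subsingleton.elim (⟨b, hb⟩ : Φ.A) 1)]
    exact Commute.one_right _
  have hall : ∀ b, IsLine T b → t ∈ b → Fx b := fun b hb htb => by
    rcases h.toEight.lines_through hn hnm ht1 hfn ha hb hta' htb with rfl | rfl | rfl
    · exact hFa
    · exact hrot a ha.1 hFa
    · exact hrot _ (h.toEight.line_map ha hn).1 (hrot a ha.1 hFa)
  set a₁ := h.toEight.lineOf t d₁
  set a₂ := h.toEight.lineOf t (d₀ * d₁)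
  have ha₁ : IsLine T a₁ := h.toEight.isLine_lineOf ht hd₁ ht1 hd₁1 hd₁t
  have ha₂ : IsLine T a₂ := h.toEight.isLine_lineOf ht hd₂ ht1 hd₂1 hd₂t
  have ht₁ : t ∈ a₁ := mem_sup_left (mem_zpowers t)
  have ht₂ : t ∈ a₂ := mem_sup_left (mem_zpowers t)
  obtain ⟨x₀, hx₀, hx₀1, hx₀c⟩ := hall a₀ ha₀ hta
  obtain ⟨x₁, hx₁, hx₁1, hx₁c⟩ := hall a₁ ha₁ ht₁
  obtain ⟨x₂, hx₂, hx₂1, hx₂c⟩ := hall a₂ ha₂ ht₂
  -- an involution of `T` outside the line inverts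
  have hinv : ∀ {ℓ : Subgroup X}, IsLine T ℓ → ∀ {x}, x ∈ Φ.A →
      (∀ d : ↥C, (d : X) ∈ ℓ → Commute (Φ.ρ d) x) → ∀ e : ↥C, (e : X) ∈ T → (e : X) ∉ ℓ →
        Φ.ρ e * x * (Φ.ρ e)⁻¹ = x⁻¹ := by
    intro ℓ hl x hx hxc e he hel
    have hee : Φ.ρ e * Φ.ρ e = 1 := by
      rw [← map_mul, show e * e = 1 from Subtype.ext (h.sq _ he), map_one]
    have hxe : Φ.ρ e * x * (Φ.ρ e)⁻¹ ∈ Φ.A := Normal.conj_mem inferInstance x hx _
    refine eq_inv_of_mul_eq_one_right (Φ.fixed_T h ht ht1 (mul_mem hx hxe) fun c hc => ?_)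
    have hfe : Commute (Φ.ρ e) (x * (Φ.ρ e * x * (Φ.ρ e)⁻¹)) := by
      refine mul_inv_eq_iff_eq_mul.1 ?_
      rw [← conj_mul, show Φ.ρ e * (Φ.ρ e * x * (Φ.ρ e)⁻¹) * (Φ.ρ e)⁻¹
        = Φ.ρ e * Φ.ρ e * x * (Φ.ρ e * Φ.ρ e)⁻¹ by group, hee, one_mul, inv_one, mul_one]
      exact Φ.A_comm _ hxe _ hx
    have hfl : ∀ c : ↥C, (c : X) ∈ ℓ → Commute (Φ.ρ c) (x * (Φ.ρ e * x * (Φ.ρ e)⁻¹)) := fun c hc => by
      have hce : Commute (Φ.ρ c) (Φ.ρ e) :=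
        (show Commute c e from Subtype.ext (h.toEight.comm (hl.1 hc) he).eq).map _
      exact (hxc c hc).mul_right ((hce.mul_right (hxc c hc)).mul_right hce.inv_right)
    rcases h.toEight.mem_or_coset hl he hel hc with h1 | h1
    · exact hfl c h1
    · have h2 := hfe.mul_left (hfl (e * c) h1)
      rwa [map_mul, ← mul_assoc, hee, one_mul] at h2
  have hndvd : ∀ {x}, x ∈ Φ.A → x ≠ 1 → ∀ i : ℤ, x ^ (i + i) = 1 → (Φ.p : ℤ) ∣ i := fun {x} hx hx1 i hi => by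
    have ho : orderOf x = Φ.p := orderOf_eq_prime (Φ.A_pow _ hx) hx1
    rw [← orderOf_dvd_iff_zpow_eq_one, ho, ← two_mul] at hi
    exact ((Int.Prime.dvd_mul' Φ.prime hi).resolve_left fun h2 =>
      Φ.ne_two ((Nat.prime_dvd_prime_iff_eq Φ.prime Nat.prime_two).1 (by exact_mod_cast h2)))
  -- one involution isolates one of the three
  have iso : ∀ (e : ↥C) {x y z}, x ∈ Φ.A → x ≠ 1 → y ∈ Φ.A → z ∈ Φ.A →
      Φ.ρ e * x * (Φ.ρ e)⁻¹ = x → Φ.ρ e * y * (Φ.ρ e)⁻¹ = y⁻¹ → Φ.ρ e * z * (Φ.ρ e)⁻¹ = z⁻¹ →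
        ∀ i j k : ℤ, x ^ i * y ^ j * z ^ k = 1 → (Φ.p : ℤ) ∣ i := by
    intro e x y z hx hx1 hy hz ex ey ez i j k hprod
    have h1 : x ^ i * (y ^ j)⁻¹ * (z ^ k)⁻¹ = 1 := by
      have := congrArg (fun w => Φ.ρ e * w * (Φ.ρ e)⁻¹) hprod
      simp only [mul_one, mul_inv_cancel] at this
      rwa [← conj_mul, ← conj_mul, ← conj_zpow, ← conj_zpow, ← conj_zpow, ex, ey, ez, inv_zpow, inv_zpow] at this
    refine hndvd hx hx1 i ?_
    have hw : y ^ j * z ^ k ∈ Φ.A := mul_mem (zpow_mem hy _) (zpow_mem hz _)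
    have hxi : x ^ i ∈ Φ.A := zpow_mem hx _
    rw [mul_assoc] at hprod h1
    rw [← mul_inv_rev, Φ.A_comm _ (zpow_mem hz k) _ (zpow_mem hy j)] at h1
    rw [zpow_add]
    nth_rw 1 [eq_inv_of_mul_eq_one_left hprod]
    rw [mul_inv_eq_one.1 h1, inv_mul_cancel]
  let f : Fin Φ.p × Fin Φ.p × Fin Φ.p → Φ.A := fun v =>
    ⟨x₀ ^ (v.1 : ℕ) * x₁ ^ (v.2.1 : ℕ) * x₂ ^ (v.2.2 : ℕ),
      mul_mem (mul_mem (pow_mem hx₀ _) (pow_mem hx₁ _)) (pow_mem hx₂ _)⟩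
  have hself : ∀ {e : ↥C} {x}, Commute (Φ.ρ e) x → Φ.ρ e * x * (Φ.ρ e)⁻¹ = x := fun hc => by
    rw [hc.eq, mul_inv_cancel_right]
  have h10 : d₀ ∉ a₁ := fun e' => hd₂a (by
    rw [h.toEight.line_ext ha₀ ha₁ hta hd₀a ht₁ e' ht1 hd₀1 hd₀t']
    exact mul_mem e' (mem_sup_right (mem_zpowers _)))
  have h20 : d₀ ∉ a₂ := fun e' => hd₁a (by
    rw [h.toEight.line_ext ha₀ ha₂ hta hd₀a ht₂ e' ht1 hd₀1 hd₀t']
    exact (mul_mem_cancel_left e').1 (mem_sup_right (mem_zpowers _)))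
  have h21 : d₁ ∉ a₂ := fun e' => h20 ((mul_mem_cancel_right e').1 (mem_sup_right (mem_zpowers _)))
  have h12 : d₀ * d₁ ∉ a₁ := fun e' => h10 ((mul_mem_cancel_right (mem_sup_right (mem_zpowers _))).1 e')
  have hinj : Function.Injective f := by
    rintro ⟨i, j, k⟩ ⟨i', j', k'⟩ he
    have he' : x₀ ^ (i : ℤ) * x₁ ^ (j : ℤ) * x₂ ^ (k : ℤ) =
        x₀ ^ (i' : ℤ) * x₁ ^ (j' : ℤ) * x₂ ^ (k' : ℤ) := by
      simpa only [zpow_natCast] using congrArg Subtype.val he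
    have hc : ∀ x ∈ Φ.A, ∀ y ∈ Φ.A, ∀ (m n : ℤ), Commute (x ^ m) (y ^ n) := fun x hx y hy m n =>
      Φ.A_comm _ (zpow_mem hx m) _ (zpow_mem hy n)
    have hone : x₀ ^ ((i : ℤ) - i') * x₁ ^ ((j : ℤ) - j') * x₂ ^ ((k : ℤ) - k') = 1 := by
      refine (mul_eq_right (b := x₀ ^ (i' : ℤ) * x₁ ^ (j' : ℤ) * x₂ ^ (k' : ℤ))).1 ?_
      rw [((hc _ hx₂ _ hx₀ _ i').mul_right (hc _ hx₂ _ hx₁ _ j')).mul_mul_mul_comm,
        (hc _ hx₁ _ hx₀ _ i').mul_mul_mul_comm, ← zpow_add, ← zpow_add, ← zpow_add, sub_add_cancel,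
        sub_add_cancel, sub_add_cancel]
      exact he'
    have hj : x₁ ^ ((j : ℤ) - j') * x₀ ^ ((i : ℤ) - i') * x₂ ^ ((k : ℤ) - k') = 1 := by
      rw [(hc _ hx₁ _ hx₀ _ _).eq]; exact hone
    have hk : x₂ ^ ((k : ℤ) - k') * x₀ ^ ((i : ℤ) - i') * x₁ ^ ((j : ℤ) - j') = 1 := by
      rw [mul_assoc, (hc _ hx₂ _ hx₀ _ _ |>.mul_right (hc _ hx₂ _ hx₁ _ _)).eq]; exact hone
    have q0 := iso e₀ hx₀ hx₀1 hx₁ hx₂ (hself (hx₀c e₀ hd₀a)) (hinv ha₁ hx₁ hx₁c e₀ hd₀ h10)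
      (hinv ha₂ hx₂ hx₂c e₀ hd₀ h20) _ _ _ hone
    have q1 := iso e₁ hx₁ hx₁1 hx₀ hx₂ (hself (hx₁c e₁ (mem_sup_right (mem_zpowers _))))
      (hinv ha₀ hx₀ hx₀c e₁ hd₁ hd₁a) (hinv ha₂ hx₂ hx₂c e₁ hd₁ h21) _ _ _ hj
    have q2 := iso (e₀ * e₁) hx₂ hx₂1 hx₀ hx₁ (hself (hx₂c _ (mem_sup_right (mem_zpowers _))))
      (hinv ha₀ hx₀ hx₀c (e₀ * e₁) hd₂ hd₂a) (hinv ha₁ hx₁ hx₁c (e₀ * e₁) hd₂ h12) _ _ _ hk
    have eqf : ∀ a b : Fin Φ.p, (Φ.p : ℤ) ∣ (a : ℤ) - b → a = b := fun a b hab => by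
      have := a.2
      have := b.2
      have h0 := Int.eq_zero_of_abs_lt_dvd hab (abs_lt.2 ⟨by omega, by omega⟩)
      exact Fin.ext (by omega)
    exact Prod.ext (eqf _ _ q0) (Prod.ext (eqf _ _ q1) (eqf _ _ q2))
  have := Nat.card_le_card_of_injective f hinj
  rw [Nat.card_prod, Nat.card_prod, Nat.card_fin] at this
  calc Φ.p ^ 3 = Φ.p * (Φ.p * Φ.p) := by ring
    _ ≤ _ := this

end Factor

end CfsgLib.EightCore
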