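import Cfsg.Agent.EightCore.FactorBound
import Cfsg.Agent.EightCore.DimThree

/-!
# Simple groups with Sylow 2-subgroups `E₈`: no moved chief factor in an odd core
-/

set_option autoImplicit false
set_option linter.unusedSectionVars false
set_option linter.unusedVariables false
set_option linter.style.haveILetI false

namespace CfsgLib.EightCore

open Subgroup
open CfsgLib.Linear.SmallSub (P2)
open CfsgLib.NormCyclic (Inv)

universe u

/-- `PSL₂(5)` has at most fifteen involutions. -/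
theorem PSL.card_invol_five {F : Type} [Field F] [Fintype F] (h5 : Fintype.card F = 5) :
    Nat.card {v : P2 F // Inv v} ≤ 15 := by
  have hodd : Odd (Fintype.card F) := by rw [h5]; decide
  rcases isEmpty_or_nonempty {v : P2 F // Inv v} with he | ⟨⟨v, hv⟩⟩
  · simp
  set H := centralizer ({v} : Set (P2 F))
  let f : P2 F ⧸ H → {v : P2 F // Inv v} := fun q => ⟨q.out * v * q.out⁻¹, hv.conj _⟩
  have hf : Function.Surjective f := by
    rintro ⟨w, hw⟩
    obtain ⟨g, hg⟩ := isConj_iff.1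
      (CfsgLib.Linear.FourGroups.involutions_conj hodd hv.1 hv.2 hw.1 hw.2)
    refine ⟨QuotientGroup.mk g, Subtype.ext ?_⟩
    obtain ⟨⟨c, hc⟩, he⟩ := QuotientGroup.mk_out_eq_mul H g
    show (QuotientGroup.mk g : P2 F ⧸ H).out * v * (QuotientGroup.mk g : P2 F ⧸ H).out⁻¹ = w
    rw [he, ← hg, mul_inv_rev]
    show g * c * v * (c⁻¹ * g⁻¹) = g * v * g⁻¹
    rw [mul_assoc g c v, mem_centralizer_singleton_iff.1 hc]
    group
  refine (Nat.card_le_card_of_surjective f hf).trans ?_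
  have h1 := Subgroup.card_mul_index H
  have h2 : Nat.card H = 4 := by rw [PSL.card_centralizer hodd hv, h5]; rfl
  have h3 := PSL.two_mul_card (F := F) hodd
  rw [h5] at h3
  rw [h2] at h1
  rw [← Subgroup.index_eq_card]
  omega

variable {X : Type u} [Group X] [Finite X] {T : Subgroup X} {t : X}

namespace Factor

variable (Φ : Factor t) (h : Hyp T) (ht : t ∈ T) (ht1 : t ≠ 1) (M : Model T t)

include h ht ht1

/-- Involutions with the same image in `PSL₂` fix the same elements of the factor. -/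
theorem commute_of_μ_eq {y y' : ↥(centralizer ({t} : Set X))} (hy : orderOf (y : X) = 2)
    (hy' : orderOf (y' : X) = 2) (hμ : M.μ y = M.μ y') {a : ↥(centralizer ({t} : Set X)) ⧸ Φ.K}
    (ha : a ∈ Φ.A) (hc : Commute (Φ.ρ y) a) : Commute (Φ.ρ y') a := by
  revert y y'
  set C := centralizer ({t} : Set X)
  intro y y' hy hy' hμ hc
  have hsq : ∀ z : ↥C, orderOf (z : X) = 2 → z * z = 1 := fun z hz => Subtype.ext (by
    have := pow_orderOf_eq_one (z : X)
    rwa [hz, pow_two] at this)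
  have key : ∀ z : ↥C, z * z = 1 → z * y ∈ Cfsg.oddCore ↥C → Commute (Φ.ρ z) a := by
    intro z hz hzy
    set o := z * y with ho
    have hzi : z⁻¹ = z := inv_eq_of_mul_eq_one_right hz
    have hyi : y⁻¹ = y := inv_eq_of_mul_eq_one_right (hsq y hy)
    have h2 : o * o ∈ Φ.B := by
      have h2 := Φ.rel y hy o hzy
      have e : o * y * o⁻¹ * y = o * o := by
        rw [ho, mul_inv_rev, hzi, hyi]
        rw [show z * y * y * (y * z) * y = z * (y * y) * y * (z * y) by group, hsq y hy, mul_one]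
      rwa [e] at h2
    obtain ⟨m, hm⟩ := DGroup.odd_orderOf (DGroup.odd_oddCore _) hzy
    have hoB : o ∈ Φ.B := by
      have e : o = (o * o) ^ (m + 1) := by
        rw [(Commute.refl o).mul_pow, ← pow_add, show m + 1 + (m + 1) = orderOf o + 1 by omega, pow_succ,
          pow_orderOf_eq_one, one_mul]
      rw [e]; exact pow_mem h2 _
    have hzo : z = o * y := by rw [ho, mul_assoc, hsq y hy, mul_one]
    rw [hzo, map_mul]
    exact (show Commute (Φ.ρ o) a from Φ.A_comm _ (Φ.mem_A hoB) _ ha).mul_left hc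
  have hμ1 : M.μ (y' * y) = 1 := by
    rw [map_mul, ← hμ, ← map_mul, hsq y hy, map_one]
  set th : ↥C := ⟨t, mem_centralizer_singleton_iff.2 rfl⟩
  have hth : ∀ z : ↥C, z * th = th * z := fun z => Subtype.ext (mem_centralizer_singleton_iff.1 z.2)
  have hmem : ∀ z : ↥C, (z : X) ∈ DGroup.coreIn C → z ∈ Cfsg.oddCore ↥C := fun z hz =>
    (mem_map_iff_mem C.subtype_injective).1 hz
  rcases (M.ker _).1 hμ1 with e | e
  · exact key y' (hsq y' hy') (hmem _ e)
  · have h1 := key (y' * th) (by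
      rw [show y' * th * (y' * th) = y' * (th * y') * th by group, ← hth y', show y' * (y' * th) * th
        = y' * y' * (th * th) by group, hsq y' hy', one_mul]
      exact Subtype.ext (h.sq t ht)) (hmem _ (by
        have e1 : y' * th * y = y' * y * th := by rw [mul_assoc, ← hth y, ← mul_assoc]
        rw [e1]; exact e))
    rw [map_mul] at h1
    have h3 := h1.mul_left (Φ.commute_ρt h ht ht1 a).inv_left
    rwa [mul_inv_cancel_right] at h3

/-- Every element of the factor is fixed by an involution other than `t`. -/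
theorem exists_fixing {a : ↥(centralizer ({t} : Set X)) ⧸ Φ.K} (ha : a ∈ Φ.A) (ha1 : a ≠ 1) :
    ∃ y : ↥(centralizer ({t} : Set X)), orderOf (y : X) = 2 ∧ (y : X) ≠ t ∧ Commute (Φ.ρ y) a := by
  revert a
  set C := centralizer ({t} : Set X)
  intro a ha ha1
  haveI := Fact.mk Φ.prime
  obtain ⟨b, hb, rfl⟩ := id ha
  have hbo : orderOf (Φ.ρ b) = Φ.p := orderOf_eq_prime (Φ.A_pow _ ha) ha1
  obtain ⟨m, ⟨j, hj⟩, hm1⟩ := exists_ppart Φ.ρ (g := b) hbo
  have hjp : orderOf ((b ^ m : ↥C) : X) = Φ.p ^ j := by rw [orderOf_coe, hj]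
  obtain ⟨u, v, huv⟩ := Φ.exists_pair h ht ht1
  have hexp := h.aut.orderOf_le huv hjp
  set r : X := ((b ^ m : ↥C) : X) with hr
  have hr1 : r ≠ 1 := fun e => hm1 (by rw [show b ^ m = 1 from Subtype.ext e, map_one])
  have hro : orderOf r = Φ.p := orderOf_eq_prime hexp hr1
  obtain ⟨ℓ, ℓ', hl, -, -, c, d, hci, -, hco, -, -⟩ := (Φ.noFixed_twoLine h ht ht1).2
  have hc1 : c ≠ 1 := fun e => by rw [e, orderOf_one] at hco; exact Φ.prime.ne_one hco.symm
  have h4 := (h.toEight.weight_four hl hci hc1).1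
  rw [h.aut.card_centralizer_elem hco hro] at h4
  obtain ⟨y, hy, hyt, hyc, hyR⟩ := h.toEight.exists_invol_ne (h.toEight.orderOf_eq_two ht ht1)
    (mem_centralizer_zpowers (mem_centralizer_singleton_iff.1 (b ^ m).2)) h4
  set yc : ↥C := ⟨y, mem_centralizer_singleton_iff.2 hyc.eq⟩
  refine ⟨yc, hy, hyt, ?_⟩
  have h1 : Commute (Φ.ρ yc) (Φ.ρ b ^ m) := by
    rw [← map_pow]
    exact (show Commute yc (b ^ m) from Subtype.ext (mem_centralizer_iff.1 hyR r (mem_zpowers r)).symm).map _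
  have hcop : Nat.Coprime Φ.p m := Φ.prime.coprime_iff_not_dvd.2 fun hd => hm1 (by
    obtain ⟨k, rfl⟩ := hd
    rw [map_pow, pow_mul, Φ.A_pow _ ha, one_pow])
  have h2 := mem_of_pow_coprime (R := centralizer ({Φ.ρ yc} : Set _)) hcop
    (by rw [Φ.A_pow _ ha]; exact one_mem _) (mem_centralizer_singleton_iff.2 h1.eq.symm)
  exact (mem_centralizer_singleton_iff.1 h2).symm

/-- The points of the factor are covered by the involutions of `PSL₂`. -/
theorem count_le : Φ.p ^ 3 - 1 ≤ (Φ.p - 1) * Nat.card {v : P2 M.F // Inv v} := by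
  classical
  set C := centralizer ({t} : Set X)
  haveI := Fintype.ofFinite (↥C ⧸ Φ.K)
  let S : Finset (↥C ⧸ Φ.K) := Finset.univ.filter fun a => a ∈ Φ.A ∧ a ≠ 1
  let f : (↥C ⧸ Φ.K) → P2 M.F := fun a =>
    if h' : a ∈ Φ.A ∧ a ≠ 1 then M.μ (Φ.exists_fixing h ht ht1 h'.1 h'.2).choose else 1
  have hS : S.card = Φ.p ^ 3 - 1 := by
    have e : S = (Finset.univ.filter fun a => a ∈ Φ.A).erase 1 := by
      ext a; simp [S, and_comm]
    rw [e, Finset.card_erase_of_mem (by simp), ← Φ.card_A h ht ht1, Nat.card_eq_fintype_card,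
      Fintype.card_subtype]
  have hμinv : ∀ y : ↥C, orderOf (y : X) = 2 → (y : X) ≠ t → Inv (M.μ y) := by
    intro y hy hyt
    have hyy : y * y = 1 := Subtype.ext (by
      have := pow_orderOf_eq_one (y : X)
      rwa [hy, pow_two] at this)
    refine ⟨by rw [← map_mul, hyy, map_one], fun e => ?_⟩
    rcases (M.ker y).1 e with e1 | e1
    · have := DGroup.odd_orderOf (DGroup.odd_coreIn _) e1
      rw [hy] at this; exact absurd this (by decide)
    · have hyt' : (y : X) * t * ((y : X) * t) = 1 := by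
        rw [(show Commute (y : X) t from mem_centralizer_singleton_iff.1 y.2).symm.mul_mul_mul_comm,
          h.sq t ht, mul_one]
        exact congrArg Subtype.val hyy
      refine hyt ?_
      rw [← inv_eq_of_mul_eq_one_right (h.sq t ht)]
      exact eq_inv_of_mul_eq_one_left (DGroup.eq_one_of_sq hyt' (DGroup.odd_orderOf (DGroup.odd_coreIn _) e1))
  have h1 := Finset.card_le_mul_card_image (f := f) S (Φ.p - 1) (by
    intro v hv
    obtain ⟨a, ha, hav⟩ := Finset.mem_image.1 hv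
    have ha' : a ∈ Φ.A ∧ a ≠ 1 := by simpa [S] using ha
    obtain ⟨hy, hyt, hyc⟩ := (Φ.exists_fixing h ht ht1 ha'.1 ha'.2).choose_spec
    set y := (Φ.exists_fixing h ht ht1 ha'.1 ha'.2).choose
    refine le_trans (Finset.card_le_card (t := (Finset.univ.filter fun b =>
      b ∈ Φ.A ⊓ centralizer ({Φ.ρ y} : Set _)).erase 1) fun b hb => ?_) ?_
    · obtain ⟨hbS, hbv⟩ := Finset.mem_filter.1 hb
      have hb' : b ∈ Φ.A ∧ b ≠ 1 := by simpa [S] using hbS
      obtain ⟨hy', hyt', hyc'⟩ := (Φ.exists_fixing h ht ht1 hb'.1 hb'.2).choose_spec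
      have he : M.μ (Φ.exists_fixing h ht ht1 hb'.1 hb'.2).choose = M.μ y := by
        have e1 : f b = M.μ (Φ.exists_fixing h ht ht1 hb'.1 hb'.2).choose := dif_pos hb'
        have e2 : f a = M.μ y := dif_pos ha'
        rw [← e1, hbv, ← hav, e2]
      refine Finset.mem_erase.2 ⟨hb'.2, Finset.mem_filter.2 ⟨Finset.mem_univ _, mem_inf.2 ⟨hb'.1, ?_⟩⟩⟩
      exact mem_centralizer_singleton_iff.2 (Φ.commute_of_μ_eq h ht ht1 M hy' hy he hb'.1 hyc').eq.symm
    · rw [Finset.card_erase_of_mem (by simp)]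
      refine Nat.sub_le_sub_right ?_ 1
      rw [← Fintype.card_subtype, ← Nat.card_eq_fintype_card]
      exact Φ.card_fixed h ht ht1 hy hyt)
  rw [hS] at h1
  refine h1.trans (Nat.mul_le_mul_left _ ?_)
  haveI := Fintype.ofFinite {v : P2 M.F // Inv v}
  rw [Nat.card_eq_fintype_card, Fintype.card_subtype]
  refine Finset.card_le_card fun v hv => Finset.mem_filter.2 ⟨Finset.mem_univ _, ?_⟩
  obtain ⟨a, ha, hav⟩ := Finset.mem_image.1 hv
  have ha' : a ∈ Φ.A ∧ a ≠ 1 := by simpa [S] using ha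
  obtain ⟨hy, hyt, -⟩ := (Φ.exists_fixing h ht ht1 ha'.1 ha'.2).choose_spec
  rw [← hav, show f a = M.μ _ from dif_pos ha']
  exact hμinv _ hy hyt

/-- Only elements over the kernel act trivially. -/
theorem μ_eq_one {c : ↥(centralizer ({t} : Set X))} (hc : ∀ a ∈ Φ.A, Commute (Φ.ρ c) a) : M.μ c = 1 := by
  revert c
  set C := centralizer ({t} : Set X)
  intro c hc
  let Kr : Subgroup ↥C := (centralizer (Φ.A : Set (↥C ⧸ Φ.K))).comap Φ.ρ
  have hcK : c ∈ Kr := mem_centralizer_iff.2 fun a ha => (hc a ha).eq.symm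
  haveI : (centralizer (Φ.A : Set (↥C ⧸ Φ.K))).Normal := Subgroup.normal_centralizer
  haveI : Kr.Normal := inferInstanceAs ((centralizer (Φ.A : Set (↥C ⧸ Φ.K))).comap Φ.ρ).Normal
  haveI : (Kr.map M.μ).Normal := Subgroup.Normal.map inferInstance _ M.surj
  haveI : IsSimpleGroup (P2 M.F) :=
    CfsgLib.Linear.isSimpleGroup_PSL (Or.inr (CfsgLib.Linear.Small.exists_sq_ne_one (F := M.F) (by
      have := M.h5; omega)))
  rcases IsSimpleGroup.eq_bot_or_eq_top_of_normal (Kr.map M.μ) inferInstance with hb | hb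
  · exact mem_bot.1 (hb ▸ mem_map_of_mem _ hcK)
  exfalso
  obtain ⟨d, hd, a, ha, hnc⟩ := Φ.moved_T h ht ht1
  refine hnc ?_
  obtain ⟨k, hk, hkd⟩ := hb.ge (mem_top (M.μ d))
  have hth : (⟨t, mem_centralizer_singleton_iff.2 rfl⟩ : ↥C) ∈ Kr :=
    mem_centralizer_iff.2 fun a _ => (Φ.commute_ρt h ht ht1 a).eq.symm
  obtain ⟨o, ho, k', hk', rfl⟩ : ∃ o, o ∈ Cfsg.oddCore ↥C ∧ ∃ k' ∈ Kr, d = k' * o := by
    have h1 : M.μ (k⁻¹ * d) = 1 := by rw [map_mul, map_inv, hkd, inv_mul_cancel]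
    rcases (M.ker _).1 h1 with e | e
    · exact ⟨k⁻¹ * d, (mem_map_iff_mem C.subtype_injective).1 e, k, hk, by group⟩
    · refine ⟨k⁻¹ * d * ⟨t, mem_centralizer_singleton_iff.2 rfl⟩, (mem_map_iff_mem C.subtype_injective).1 e,
        k * ⟨t, mem_centralizer_singleton_iff.2 rfl⟩, mul_mem hk hth, ?_⟩
      rw [show k⁻¹ * d * ⟨t, mem_centralizer_singleton_iff.2 rfl⟩ = ⟨t, mem_centralizer_singleton_iff.2 rfl⟩ * (k⁻¹ * d)
        from Subtype.ext (mem_centralizer_singleton_iff.1 (k⁻¹ * d).2), ← mul_assoc, mul_assoc k,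
        show (⟨t, mem_centralizer_singleton_iff.2 rfl⟩ : ↥C) * ⟨t, mem_centralizer_singleton_iff.2 rfl⟩ = 1 from
          Subtype.ext (h.sq t ht), mul_one, mul_inv_cancel_left]
  -- an involution has odd order modulo the kernel, so lies in it
  set π := QuotientGroup.mk' Kr
  have h2 : π (k' * o) * π (k' * o) = 1 := by
    rw [← map_mul, show k' * o * (k' * o) = 1 from Subtype.ext (h.sq _ hd), map_one]
  have e : π (k' * o) = π o := by rw [map_mul, show π k' = 1 from (QuotientGroup.eq_one_iff k').2 hk', one_mul]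
  rw [e] at h2
  have h3 : o ∈ Kr := (QuotientGroup.eq_one_iff o).1 (DGroup.eq_one_of_sq h2
    ((DGroup.odd_orderOf (DGroup.odd_oddCore _) ho).of_dvd_nat (orderOf_map_dvd π o)))
  exact (mem_centralizer_iff.1 (mem_comap.1 (mul_mem hk' h3)) a ha).symm

/-- The field has five elements. -/
theorem card_field (Φ : Factor t) : Fintype.card M.F = 5 := by
  set C := centralizer ({t} : Set X)
  haveI := Fact.mk M.prime
  haveI := Fact.mk Φ.prime
  have hne : M.p ≠ Φ.p := by
    intro e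
    refine M.not_dvd ?_
    rw [e, DGroup.coreIn, card_map_of_injective C.subtype_injective]
    obtain ⟨a, ha, ha1⟩ := (Φ.A.bot_or_exists_ne_one).resolve_left fun hb => by
      have := Φ.card_A h ht ht1
      rw [hb, card_bot] at this
      exact absurd (Nat.one_lt_pow three_ne_zero Φ.prime.one_lt) (by omega)
    obtain ⟨b, hb, rfl⟩ := id ha
    have ho : orderOf (Φ.ρ b) = Φ.p := orderOf_eq_prime (Φ.A_pow _ ha) ha1
    exact ho ▸ (orderOf_map_dvd Φ.ρ b).trans (Subgroup.orderOf_dvd_natCard _ (Φ.hBD hb))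
  set U := PSL.uSub (⊤ : AddSubgroup M.F)
  have hU : ∀ x ∈ U, ∃ c : M.F, PSL.u c = x := fun x hx => by
    obtain ⟨c, -, e⟩ := PSL.mem_uSub.1 hx; exact ⟨c, e⟩
  have hUu : ∀ c : M.F, PSL.u c ∈ U := fun c => PSL.mem_uSub.2 ⟨c, AddSubgroup.mem_top c, rfl⟩
  have hUp : IsPGroup M.p U := IsPGroup.of_card (n := M.f) (by
    rw [PSL.card_uSub, AddSubgroup.card_top, Nat.card_eq_fintype_card, M.card])
  set E := U.comap M.μ
  set ν := M.μ.subgroupComap U
  have hν : Function.Surjective ν := MonoidHom.subgroupComap_surjective_of_surjective _ _ M.surj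
  obtain ⟨R⟩ : Nonempty (Sylow M.p E) := inferInstance
  have hRtop : (R : Subgroup E).map ν = ⊤ := by
    have h1 : ((R.mapSurjective hν : Sylow M.p U) : Subgroup U) = (R : Subgroup E).map ν := rfl
    rw [← h1]
    exact ((R.mapSurjective hν).3 (Q := (⊤ : Subgroup U)) (hUp.of_equiv topEquiv.symm) le_top).symm
  set W := (R : Subgroup E).map E.subtype with hW
  have hWE : W ≤ E := map_subtype_le _
  have hWp : IsPGroup M.p W := R.2.map _
  have hWu : ∀ c : M.F, ∃ w ∈ W, M.μ w = PSL.u c := fun c => by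
    obtain ⟨r, hr, hrc⟩ := hRtop.ge (mem_top (⟨_, hUu c⟩ : U))
    exact ⟨r, ⟨r, hr, rfl⟩, congrArg Subtype.val hrc⟩
  have hinj : ∀ w ∈ W, M.μ w = 1 → w = 1 := by
    intro w hw hw1
    obtain ⟨j, hj⟩ := IsPGroup.iff_orderOf.1 hWp ⟨w, hw⟩
    rw [Subgroup.orderOf_mk] at hj
    have hO : (w : X) ∈ DGroup.coreIn C := by
      rcases (M.ker w).1 hw1 with e | e
      · exact e
      · obtain ⟨m, hm⟩ : Odd (orderOf (w : X)) := by
          rw [orderOf_coe, hj]; exact (M.prime.odd_of_ne_two M.ne_two).pow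
        have h2 : (w : X) * w ∈ DGroup.coreIn C := by
          have := mul_mem e e
          rwa [(show Commute (w : X) t from mem_centralizer_singleton_iff.1 w.2).symm.mul_mul_mul_comm,
            h.sq t ht, mul_one] at this
        have e2 : (w : X) = ((w : X) * w) ^ (m + 1) := by
          rw [(Commute.refl (w : X)).mul_pow, ← pow_add, show m + 1 + (m + 1) = orderOf (w : X) + 1 by omega,
            pow_succ, pow_orderOf_eq_one, one_mul]
        rw [e2]; exact pow_mem h2 _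
    have h3 := Subgroup.orderOf_dvd_natCard _ hO
    rw [orderOf_coe, hj] at h3
    rcases j with _ | j
    · exact orderOf_eq_one_iff.1 (hj.trans (pow_zero _))
    · exact absurd ((dvd_pow_self M.p j.succ_ne_zero).trans h3) M.not_dvd
  have hWinj : ∀ v ∈ W, ∀ w ∈ W, M.μ v = M.μ w → v = w := fun v hv w hw e =>
    mul_inv_eq_one.1 (hinj _ (mul_mem hv (inv_mem hw)) (by rw [map_mul, map_inv, e, mul_inv_cancel]))
  have hWc : ∀ v ∈ W, ∀ w ∈ W, v * w = w * v := by
    intro v hv w hw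
    obtain ⟨a, ha⟩ := hU _ (hWE hv)
    obtain ⟨b, hb⟩ := hU _ (hWE hw)
    refine hWinj _ (mul_mem hv hw) _ (mul_mem hw hv) ?_
    rw [map_mul, map_mul, ← ha, ← hb, ← PSL.u_add, ← PSL.u_add, add_comm]
  haveI : CharP M.F M.p := charP_of_card_eq_prime_pow M.card
  have hWe : ∀ w ∈ W, w ^ M.p = 1 := by
    intro w hw
    obtain ⟨a, ha⟩ := hU _ (hWE hw)
    refine hinj _ (pow_mem hw _) ?_
    rw [map_pow, ← ha]
    have hn : ∀ n : ℕ, (PSL.u a) ^ n = PSL.u ((n : M.F) * a) := by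
      intro n
      induction n with
      | zero => rw [pow_zero, Nat.cast_zero, zero_mul, PSL.u_zero]
      | succ n ih => rw [pow_succ, ih, ← PSL.u_add, Nat.cast_succ, add_mul, one_mul]
    rw [hn, CharP.cast_eq_zero, zero_mul, PSL.u_zero]
  -- the torus
  obtain ⟨α, hα⟩ := IsCyclic.exists_generator (α := M.Fˣ)
  obtain ⟨γ₀, hγ₀⟩ := M.surj (PSL.diag α)
  have hE : E.map (MulAut.conj γ₀).toMonoidHom = E := by
    refine eq_of_le_of_card_ge ?_ (card_map_of_injective (MulAut.conj γ₀).injective).ge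
    rintro _ ⟨x, hx, rfl⟩
    obtain ⟨c, hc⟩ := hU _ hx
    show M.μ (γ₀ * x * γ₀⁻¹) ∈ U
    rw [map_mul, map_mul, map_inv, hγ₀, ← hc, PSL.diag_conj]
    exact hUu _
  let e : E ≃* E := ((MulAut.conj γ₀).subgroupMap E).trans (MulEquiv.subgroupCongr hE)
  obtain ⟨c, hc⟩ := MulAction.exists_smul_eq E (R.mapSurjective (f := e.toMonoidHom) e.surjective) R
  set γ : ↥C := (c : ↥C) * γ₀
  have hγW : ∀ w ∈ W, γ * w * γ⁻¹ ∈ W := by
    rintro _ ⟨r, hr, rfl⟩
    have h1 : c * e r * c⁻¹ ∈ (R : Subgroup E) := by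
      have h2 : c * e r * c⁻¹ ∈ ((c • R.mapSurjective (f := e.toMonoidHom) e.surjective : Sylow M.p E) : Subgroup E) :=
        ⟨e r, ⟨r, hr, rfl⟩, rfl⟩
      rwa [hc] at h2
    refine ⟨_, h1, ?_⟩
    show (c : ↥C) * (γ₀ * (r : ↥C) * γ₀⁻¹) * (c : ↥C)⁻¹ = (c : ↥C) * γ₀ * r * ((c : ↥C) * γ₀)⁻¹
    group
  have hconj : ∀ (k : ℕ) (x : M.F),
      M.μ γ ^ k * PSL.u x * (M.μ γ ^ k)⁻¹ = PSL.u (((α : M.F) ^ 2) ^ k * x) := by
    obtain ⟨b, hb⟩ := hU _ c.2
    intro k
    induction k with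
    | zero => intro x; simp
    | succ k ih =>
      intro x
      rw [pow_succ', mul_inv_rev, show M.μ γ * M.μ γ ^ k * PSL.u x * ((M.μ γ ^ k)⁻¹ * (M.μ γ)⁻¹)
        = M.μ γ * (M.μ γ ^ k * PSL.u x * (M.μ γ ^ k)⁻¹) * (M.μ γ)⁻¹ by group, ih, map_mul, hγ₀, ← hb,
        show PSL.u b * PSL.diag α * PSL.u (((α : M.F) ^ 2) ^ k * x) * (PSL.u b * PSL.diag α)⁻¹
          = PSL.u b * (PSL.diag α * PSL.u (((α : M.F) ^ 2) ^ k * x) * (PSL.diag α)⁻¹) * (PSL.u b)⁻¹ by group,
        PSL.diag_conj, ← PSL.u_add, add_comm b, PSL.u_add, mul_inv_cancel_right, ← mul_assoc, ← pow_succ']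
  obtain ⟨k, hk, hact⟩ := semilinear_small Φ.A (p := Φ.p) Φ.A_comm Φ.A_pow (Φ.card_A h ht ht1).le
    (r := M.p) hne (W.map Φ.ρ)
    (by rintro _ ⟨v, hv, rfl⟩ _ ⟨w, hw, rfl⟩; rw [← map_mul, ← map_mul, hWc v hv w hw])
    (by rintro _ ⟨w, hw, rfl⟩; rw [← map_pow, hWe w hw, map_one]) (g := Φ.ρ γ)
    (by
      rintro _ ⟨w, hw, rfl⟩
      exact ⟨_, hγW w hw, by rw [map_mul, map_mul, map_inv]⟩)
  obtain ⟨w, hw, hw1⟩ := hWu 1
  have h1 : M.μ (w⁻¹ * (γ ^ k * w * (γ ^ k)⁻¹)) = 1 := by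
    refine Φ.μ_eq_one h ht ht1 M fun a ha => ?_
    have h2 := hact (Φ.ρ w) ⟨w, hw, rfl⟩ a ha
    refine mul_inv_eq_iff_eq_mul.1 ?_
    rw [map_mul, map_inv, map_mul, map_mul, map_inv, map_pow]
    set v := Φ.ρ γ ^ k * Φ.ρ w * (Φ.ρ γ ^ k)⁻¹
    calc (Φ.ρ w)⁻¹ * v * a * ((Φ.ρ w)⁻¹ * v)⁻¹ = (Φ.ρ w)⁻¹ * (v * a * v⁻¹) * Φ.ρ w := by group
      _ = a := by rw [h2]; group
  rw [map_mul, map_inv, inv_mul_eq_one, map_mul, map_mul, map_inv, map_pow, hw1, hconj, mul_one] at h1
  have h2 : ((α : M.F) ^ 2) ^ k = 1 := (PSL.u_injective h1).symm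
  rw [← pow_mul] at h2
  have h3 : α ^ (2 * k) = 1 := Units.ext (by rw [Units.val_pow_eq_pow_val, Units.val_one]; exact h2)
  have h4 := orderOf_dvd_of_pow_eq_one h3
  rw [orderOf_eq_card_of_forall_mem_zpowers hα, Nat.card_units, Nat.card_eq_fintype_card] at h4
  have h5 := Nat.le_of_dvd (by rcases hk with rfl | rfl <;> omega) h4
  have := M.h8
  have := M.h5
  rcases hk with rfl | rfl <;> omega

/-- There is no moved chief factor. -/
theorem false (Φ : Factor t) : False := by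
  obtain ⟨M⟩ := h.model ht ht1
  have h5 := Φ.card_field h ht ht1 M
  have hcount := Φ.count_le h ht ht1 M
  have h15 := PSL.card_invol_five (F := M.F) h5
  haveI := Fact.mk Φ.prime
  have hp3 : Φ.p = 3 := by
    by_contra hne
    have hp5 : 5 ≤ Φ.p := by
      have := Φ.prime.two_le
      have h2 := Φ.ne_two
      by_contra h5'
      have : Φ.p = 4 := by omega
      exact absurd (this ▸ Φ.prime) (by decide)
    obtain ⟨q, hq⟩ : ∃ q, Φ.p = q + 1 := ⟨Φ.p - 1, by omega⟩
    have h1 := hcount.trans (Nat.mul_le_mul_left _ h15)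
    rw [hq, Nat.add_sub_cancel] at h1
    have h2 : (q + 1) ^ 3 - 1 = q * (q * q + 3 * q + 3) := Nat.sub_eq_of_eq_add (by ring)
    rw [h2] at h1
    have := Nat.le_of_mul_le_mul_left h1 (by omega)
    nlinarith
  obtain ⟨ℓ, ℓ', hl, -, -, c, d, hci, -, hco, -, -⟩ := (Φ.noFixed_twoLine h ht ht1).2
  have hodd : Odd (Fintype.card M.F) := by rw [h5]; decide
  refine M.noWeight 3 Nat.prime_three (by decide) (PSL.three_dvd_card hodd) (fun v hv => ?_) ℓ hl c hci
    (hco.trans hp3)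
  rw [PSL.card_centralizer hodd hv, h5]
  decide

end Factor

end CfsgLib.EightCore
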