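import Cfsg.Agent.EightCore.Auto
import Cfsg.Agent.EightCore.AutConj
import Cfsg.Agent.Transfer.Basic
import Cfsg.Agent.CITGraph.Models
import Cfsg.Agent.EightCore.PSLFacts
import Cfsg.Agent.S3188

/-!
# Simple groups with Sylow 2-subgroups `E₈`: one class of involutions; solvable centralisers
-/

set_option autoImplicit false
set_option linter.unusedSectionVars false
set_option linter.unusedVariables false
set_option linter.style.haveILetI false

namespace CfsgLib.EightCore

open Subgroup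
open CfsgLib.Linear.SmallSub (P2)

universe u

variable {X : Type u} [Group X] [Finite X] {T : Subgroup X}

theorem Eight.commutator_top [IsSimpleGroup X] (hT : Eight T) : commutator X = ⊤ := by
  refine (IsSimpleGroup.eq_bot_or_eq_top_of_normal (commutator X) inferInstance).resolve_left fun e => ?_
  letI : CommGroup X := { (inferInstance : Group X) with
    mul_comm := fun a b => by
      rw [_root_.commutator_def] at e
      exact commutatorElement_eq_one_iff_mul_comm.1
        (mem_bot.1 (e ▸ commutator_mem_commutator (mem_top a) (mem_top b))) }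
  have hp := IsSimpleGroup.prime_card (α := X)
  have h8 : 8 ∣ Nat.card X := hT.card ▸ card_subgroup_dvd_card T
  rcases (Nat.dvd_prime hp).1 ((show 2 ∣ 8 by norm_num).trans h8) with h | h
  · omega
  · rw [← h] at h8; norm_num at h8

theorem Eight.oneClass [IsSimpleGroup X] (hT : Eight T) : OneClass T := by
  haveI : Fact (Nat.Prime 2) := ⟨Nat.prime_two⟩
  rcases hT.transitive_or_fixed (M := ⊤) le_top with htr | ⟨x, hx, hx1, hfix⟩
  · intro a ha ha1 b hb hb1
    obtain ⟨n, -, hn, e⟩ := htr a ha ha1 b hb hb1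
    exact ⟨n, hn, e⟩
  exfalso
  obtain ⟨S, hS⟩ := hT.sylow
  have hab : IsMulCommutative (S : Subgroup X) :=
    ⟨⟨fun a b => Subtype.ext (hT.comm (hS.le a.2) (hS.le b.2)).eq⟩⟩
  have hfoc : (S : Subgroup X).focalSubgroup = S := by
    rw [← Subgroup.commutator_inf_eq_focalSubgroup, hT.commutator_top, top_inf_eq]
  have hxc : x ∈ (S : Subgroup X) ⊓ centralizer (normalizer ((S : Subgroup X) : Set X) : Set X) := by
    refine mem_inf.2 ⟨hS.ge hx, mem_centralizer_iff.2 fun n hn => ?_⟩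
    rw [hS] at hn
    exact mul_inv_eq_iff_eq_mul.1 (hfix n (mem_top n) hn)
  have h1 : x ∈ ((S : Subgroup X) ⊓ centralizer (normalizer ((S : Subgroup X) : Set X) : Set X)) ⊓
      (S : Subgroup X).focalSubgroup := mem_inf.2 ⟨hxc, by rw [hfoc]; exact hS.ge hx⟩
  rw [(TransferBasic.focal_disjoint_sup hab).1, mem_bot] at h1
  exact hx1 h1

/-- Every involution is conjugate to a given one of `T`. -/
theorem Eight.exists_conj [IsSimpleGroup X] (hT : Eight T) {t : X} (ht : t ∈ T) (ht1 : t ≠ 1) {s : X}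
    (hs : orderOf s = 2) : ∃ g : X, g * s * g⁻¹ = t := by
  haveI : Fact (Nat.Prime 2) := ⟨Nat.prime_two⟩
  obtain ⟨S, hS⟩ := hT.sylow
  obtain ⟨Q, hQ⟩ := (IsPGroup.of_card (n := 1) (by rw [Nat.card_zpowers, hs, pow_one]) :
    IsPGroup 2 (zpowers s)).exists_le_sylow
  obtain ⟨g, hg⟩ := MulAction.exists_smul_eq X Q S
  have h1 : g * s * g⁻¹ ∈ T := by
    rw [← hS, ← hg]; exact ⟨s, hQ (mem_zpowers s), rfl⟩
  obtain ⟨n, -, hn⟩ := hT.oneClass _ h1 (fun e => by
    rw [conj_eq_one_iff] at e; rw [e, orderOf_one] at hs; omega) t ht ht1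
  exact ⟨n * g, by rw [← hn]; group⟩

theorem Eight.card_centralizer_eq [IsSimpleGroup X] (hT : Eight T) {t : X} (ht : t ∈ T) (ht1 : t ≠ 1) {s : X}
    (hs : orderOf s = 2) : ∃ e : X ≃* X, (centralizer ({s} : Set X)).map e.toMonoidHom = centralizer ({t} : Set X) := by
  obtain ⟨g, hg⟩ := hT.exists_conj ht ht1 hs
  refine ⟨MulAut.conj g, le_antisymm ?_ fun x hx => ?_⟩
  · rintro _ ⟨c, hc, rfl⟩
    refine mem_centralizer_singleton_iff.2 ?_
    rw [← hg]
    exact ((Commute.conj_iff g).2 (show Commute c s from mem_centralizer_singleton_iff.1 hc)).eq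
  · refine ⟨g⁻¹ * x * g, mem_centralizer_singleton_iff.2 ((Commute.conj_iff g).1 (?_ : Commute (g * (g⁻¹ * x * g) * g⁻¹) (g * s * g⁻¹))).eq, ?_⟩
    · rw [hg, show g * (g⁻¹ * x * g) * g⁻¹ = x by group]
      exact mem_centralizer_singleton_iff.1 hx
    · show g * (g⁻¹ * x * g) * g⁻¹ = x
      group

/-- With a solvable centraliser the group is `L₂(8)`. -/
theorem Eight.eight_of_solvable [IsSimpleGroup X] (hT : Eight T) {t : X} (ht : t ∈ T) (ht1 : t ≠ 1)
    (hsol : Group.IsSolvable ↥(centralizer ({t} : Set X))) :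
    ∃ (F : Type) (_ : Field F) (_ : Fintype F), Fintype.card F = 8 ∧
      Nonempty (X ≃* Matrix.ProjectiveSpecialLinearGroup (Fin 2) F) := by
  haveI : Fact (Nat.Prime 2) := ⟨Nat.prime_two⟩
  obtain ⟨S, hS⟩ := hT.sylow
  have hab : IsMulCommutative (S : Subgroup X) :=
    ⟨⟨fun a b => Subtype.ext (hT.comm (hS.le a.2) (hS.le b.2)).eq⟩⟩
  have hall : ∀ s : X, orderOf s = 2 → Group.IsSolvable ↥(centralizer ({s} : Set X)) := fun s hs => by
    obtain ⟨e, he⟩ := hT.card_centralizer_eq ht ht1 hs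
    haveI := hsol
    exact Group.isSolvable_of_isSolvable_injective
      (f := ((e.subgroupMap (centralizer ({s} : Set X))).trans (MulEquiv.subgroupCongr he)).toMonoidHom)
      (MulEquiv.injective _)
  have h8X : 8 ∣ Nat.card X := hT.card ▸ card_subgroup_dvd_card T
  rcases Cfsg.Agent.S3188.result S hab hall with hs | ⟨F, i1, i2, hcases, N, hN, ⟨e⟩, hc⟩
  · exfalso
    have hlt := Group.IsSolvable.commutator_lt_top_of_nontrivial (G := X)
    rw [hT.commutator_top] at hlt
    exact lt_irrefl _ hlt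
  have hO : Cfsg.oddCore X = ⊥ := by
    haveI := DGroup.normal_oddCore X
    refine (IsSimpleGroup.eq_bot_or_eq_top_of_normal (Cfsg.oddCore X) inferInstance).resolve_right fun e => ?_
    have := DGroup.odd_oddCore X
    rw [e, card_top] at this
    exact Nat.not_even_iff_odd.2 this (even_iff_two_dvd.2 ((show 2 ∣ 8 by norm_num).trans h8X))
  let q : X ⧸ Cfsg.oddCore X ≃* X := (QuotientGroup.quotientMulEquivOfEq hO).trans QuotientGroup.quotientBot
  haveI : IsSimpleGroup (X ⧸ Cfsg.oddCore X) := q.isSimpleGroup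
  have hNt : N = ⊤ := (hN.eq_bot_or_eq_top).resolve_left fun e' => by
    subst e'
    rw [show ((⊥ : Subgroup (X ⧸ Cfsg.oddCore X)) : Set (X ⧸ Cfsg.oddCore X)) = {1} from rfl] at hc
    refine top_ne_bot (le_bot_iff.1 ?_ : (⊤ : Subgroup (X ⧸ Cfsg.oddCore X)) = ⊥)
    rw [← hc]
    exact fun x _ => mem_centralizer_singleton_iff.2 (by rw [mul_one, one_mul])
  subst hNt
  let E : X ≃* Matrix.ProjectiveSpecialLinearGroup (Fin 2) F := q.symm.trans (topEquiv.symm.trans e)
  have hc8 : 8 ∣ Nat.card (P2 F) := by rw [← Nat.card_congr E.toEquiv]; exact h8X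
  have h16 : ¬ 16 ∣ Nat.card (P2 F) := by
    rw [← Nat.card_congr E.toEquiv]
    intro h16
    obtain ⟨U, hU⟩ := Sylow.exists_subgroup_card_pow_prime 2 (n := 4) h16
    obtain ⟨Q, hQ⟩ := (IsPGroup.of_card hU).exists_le_sylow
    have h1 := Subgroup.card_le_of_le hQ
    rw [hU, Nat.card_congr (Q.equiv S).toEquiv, show Nat.card (S : Subgroup X) = 8 by rw [hS, hT.card]] at h1
    norm_num at h1
  refine ⟨F, i1, i2, ?_, ⟨E⟩⟩
  rcases hcases with ⟨h8, h5⟩ | ⟨n, hn, hF⟩
  · exfalso
    have h2 := PSL.two_mul_card (F := F) (Nat.odd_iff.2 (by omega))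
    have hd : 16 ∣ 2 * Nat.card (P2 F) := Nat.mul_dvd_mul_left 2 hc8
    rw [h2] at hd
    have hmod : ∀ a : ℕ, a < 16 → (a % 8 = 3 ∨ a % 8 = 5) → (a * ((a + 15) * (a + 1))) % 16 ≠ 0 := by decide
    refine hmod (Fintype.card F % 16) (Nat.mod_lt _ (by norm_num)) (by omega) ?_
    obtain ⟨k, hk⟩ : ∃ k, Fintype.card F = k + 1 := ⟨Fintype.card F - 1, by omega⟩
    rw [hk, Nat.add_sub_cancel] at hd
    rw [hk]
    have ha : (k + 1) % 16 ≡ k + 1 [MOD 16] := Nat.mod_modEq _ _
    have hb : (k + 1) % 16 + 15 ≡ k [MOD 16] := by unfold Nat.ModEq; omega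
    exact (ha.mul (hb.mul (ha.add_right 1))).trans (Nat.mod_eq_zero_of_dvd hd |>.trans (Nat.zero_mod 16).symm)
  · rw [hF]
    have h2 := CfsgLib.CITGraph.card_psl_two_pow (F := F) (by omega) hF
    change Nat.card (P2 F) = _ at h2
    have hodd : Odd ((2 ^ n) ^ 2 - 1) := Nat.Even.sub_odd (Nat.one_le_pow _ _ (by positivity))
      (by rw [← pow_mul]; exact (Nat.even_pow.2 ⟨even_two, by omega⟩)) odd_one
    rw [h2] at hc8 h16
    have h3 : (2 : ℕ) ^ 3 ∣ 2 ^ n := ((Nat.coprime_two_left.2 hodd).pow_left 3).dvd_of_dvd_mul_right hc8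
    have h4 := Nat.pow_dvd_pow_iff_le_right (by norm_num : 1 < 2) |>.1 h3
    by_contra hne
    have hn4 : 4 ≤ n := by
      by_contra h5
      interval_cases n <;> simp_all
    exact h16 (dvd_mul_of_dvd_left (pow_dvd_pow 2 hn4) _)

end CfsgLib.EightCore
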