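import Cfsg.Agent.EightCore.Defs
import Cfsg.Agent.RankOneMeet.Basic
import Cfsg.Agent.CentralMeet.Local
import Cfsg.Agent.GWApps.Dihedral
import Cfsg.Agent.GW.Top.Statement
import Cfsg.Agent.InvCentPSL.PSLFacts
import Cfsg.Agent.Transfer.Basic

/-!
# Groups with Sylow 2-subgroup `E₈` and a central involution: the two shapes

Either the Sylow subgroup is normal, or `PSL₂(q)`, `q ≡ 3, 5 (mod 8)`, is a normal subgroup of odd
index in a complement of the central involution.
-/

set_option autoImplicit false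
set_option linter.unusedSectionVars false
set_option linter.style.haveILetI false

namespace CfsgLib.EightCore.Iso

open Subgroup
open CfsgLib.Linear.SmallSub (P2)
open CfsgLib.NormCyclic (Inv)

universe u

variable {X : Type u} [Group X] [Finite X]

/-- The data of the nonsolvable shape. -/
structure PSLData (T : Subgroup X) (x : X) where
  F : Type
  fld : Field F
  fin : Fintype F
  h8 : Fintype.card F % 8 = 3 ∨ Fintype.card F % 8 = 5
  h5 : 5 ≤ Fintype.card F
  ι : P2 F →* X
  inj : Function.Injective ι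
  norm : ι.range.Normal
  notMem : x ∉ ι.range
  cent : centralizer (ι.range : Set X) ≤ zpowers x
  v : P2 F
  w : P2 F
  hv : Inv v
  hw : Inv w
  hvw : Commute v w
  hne : v ≠ w
  memV : ι v ∈ T
  memW : ι w ∈ T
  decomp : ∀ d ∈ T, ∃ s : P2 F, (s = 1 ∨ s = v ∨ s = w ∨ s = v * w) ∧ (d = ι s ∨ d = x * ι s)

attribute [instance] PSLData.fld PSLData.fin

variable {T : Subgroup X} {x : X}

theorem zpowers_pgroup (h : Iso T x) : IsPGroup 2 (zpowers x) :=
  FTRows.CyclicMeet.isPGroup_zpowers (k := 1) (by rw [pow_one, sq, h.sq x h.mem])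

theorem zpowers_le_center (h : Iso T x) : zpowers x ≤ center X := zpowers_le.2 h.central

theorem mem_zpowers_cases (h : Iso T x) {c : X} (hc : c ∈ zpowers x) : c = 1 ∨ c = x := by
  obtain ⟨i, rfl⟩ := mem_zpowers_iff.1 hc
  have h2 : x ^ (2 : ℤ) = 1 := by rw [zpow_ofNat, sq]; exact h.sq x h.mem
  rw [← Int.mul_ediv_add_emod i 2, zpow_add, zpow_mul, h2, one_zpow, one_mul]
  rcases Int.emod_two_eq i with e | e <;> simp [e]

/-- The two shapes. -/
theorem shape (h : Iso T x) : T.Normal ∨ Nonempty (PSLData T x) := by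
  classical
  haveI : Fact (Nat.Prime 2) := ⟨Nat.prime_two⟩
  set Z := zpowers x with hZ
  have hZc : Z ≤ center X := zpowers_le_center h
  haveI : Z.Normal := ⟨fun z hz g => by
    rw [mem_center_iff.1 (hZc hz) g, mul_inv_cancel_right]; exact hz⟩
  set π := QuotientGroup.mk' Z with hπ
  have hO : Cfsg.oddCore (X ⧸ Z) = ⊥ :=
    CentralMeet.oddCore_quotient_of_central (zpowers_pgroup h) hZc h.core
  obtain ⟨S, hS⟩ := h.sylow
  let SK := S.mapSurjective (f := π) (QuotientGroup.mk'_surjective Z)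
  have hZT : Z ≤ T := zpowers_le.2 h.mem
  have hcard : Nat.card (SK : Subgroup (X ⧸ Z)) = 4 := by
    show Nat.card ((S : Subgroup X).map π) = 4
    have h1 := Subgroup.card_mul_index ((π.comp T.subtype).ker)
    rw [index_ker, MonoidHom.range_comp, range_subtype, h.card] at h1
    have h2 : Nat.card (π.comp T.subtype).ker = 2 := by
      rw [← MonoidHom.comap_ker, QuotientGroup.ker_mk']
      show Nat.card (Z.subgroupOf T) = 2
      rw [Nat.card_congr (subgroupOfEquivOfLe hZT).toEquiv, hZ, Nat.card_zpowers]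
      exact CentralRankOne.orderOf_two (h.sq x h.mem) h.ne_one
    rw [h2] at h1
    rw [hS]
    omega
  have hsq : ∀ k ∈ (SK : Subgroup (X ⧸ Z)), k * k = 1 := by
    rintro _ ⟨t, ht, rfl⟩
    rw [← map_mul, h.sq t (hS ▸ ht), map_one]
  -- a subgroup of squares one and order four
  by_cases hsol : Group.IsSolvable (X ⧸ Z)
  · left
    have hno : ∀ M : Subgroup (X ⧸ Z), ¬ Cfsg.IsComponent M := fun M hM =>
      Comp.component_not_solvable hM inferInstance
    have hlayer : Cfsg.layer (X ⧸ Z) = ⊥ := le_bot_iff.1 (Comp.layer_le fun L hL => (hno L hL).elim)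
    have hc := Comp.centralizer_Fstar_le (G := X ⧸ Z)
    rw [Cfsg.generalizedFittingSubgroup, hlayer, RankOneMeet.fitting_eq hO, bot_sup_eq] at hc
    have hP : Cfsg.pCore 2 (X ⧸ Z) = (SK : Subgroup (X ⧸ Z)) := by
      refine le_antisymm (RankOneMeet.pCore_le SK) fun k hk => hc (mem_centralizer_iff.2 fun p hp => ?_)
      have hp' := RankOneMeet.pCore_le SK hp
      have h1 := hsq _ (mul_mem hp' hk)
      rw [← inv_eq_of_mul_eq_one_right h1, mul_inv_rev, inv_eq_of_mul_eq_one_right (hsq p hp'),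
        inv_eq_of_mul_eq_one_right (hsq k hk)]
    have hT : T = (Cfsg.pCore 2 (X ⧸ Z)).comap π := by
      rw [hP]
      refine (le_antisymm (fun t ht => ?_) fun y hy => ?_)
      · exact ⟨t, hS.symm ▸ ht, rfl⟩
      · obtain ⟨t, ht, e⟩ := hy
        have h1 : t⁻¹ * y ∈ Z := QuotientGroup.eq.1 e
        have h2 := mul_mem (hS ▸ ht : t ∈ T) (hZT h1)
        rwa [mul_inv_cancel_left] at h2
    rw [hT]
    exact inferInstance
  right
  obtain ⟨R, hRn, hRp, hRs⟩ := GWApps.exists_perfect_residual (X ⧸ Z)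
  haveI := hRn
  haveI := hRp
  have hRns : ¬ Group.IsSolvable R := fun hs => hsol ((Group.isSolvable_iff_subgroup_quotient R).2 ⟨hs, hRs⟩)
  obtain ⟨SR⟩ : Nonempty (Sylow 2 R) := inferInstance
  -- the Sylow subgroup of the residual is the four-group
  obtain ⟨f, hf⟩ := GWApps.embeds_sylow SK (SR.2.map R.subtype)
  let eR := equivMapOfInjective (SR : Subgroup R) R.subtype R.subtype_injective
  have hsqR : ∀ r ∈ (SR : Subgroup R), r * r = 1 := fun r hr => by
    have h1 : f (eR ⟨r, hr⟩) * f (eR ⟨r, hr⟩) = 1 := Subtype.ext (hsq _ (f (eR ⟨r, hr⟩)).2)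
    rw [← map_mul, ← map_mul] at h1
    have h2 := eR.injective ((hf (h1.trans (map_one f).symm)).trans (map_one eR).symm)
    exact congrArg Subtype.val h2
  have hle4 : Nat.card (SR : Subgroup R) ≤ 4 :=
    hcard ▸ Nat.card_le_card_of_injective (f.comp eR.toMonoidHom) (hf.comp eR.injective)
  have hSRc : Nat.card (SR : Subgroup R) = 4 := by
    obtain ⟨k, hk⟩ := IsPGroup.iff_card.1 SR.2
    rcases k with _ | _ | _ | k
    · haveI : IsCyclic (SR : Subgroup R) := by
        haveI := (Nat.card_eq_one_iff_unique.1 (hk.trans (pow_zero 2))).1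
        infer_instance
      exact absurd (GWApps.isSolvable_of_cyclic_sylow SR inferInstance) hRns
    · exact absurd (GWApps.isSolvable_of_cyclic_sylow SR (isCyclic_of_prime_card (p := 2) (by rw [hk]; rfl))) hRns
    · exact hk
    · rw [hk, pow_succ, pow_succ, pow_succ] at hle4
      have := Nat.one_le_two_pow (n := k)
      omega
  haveI : IsKleinFour (SR : Subgroup R) := by
    refine ⟨hSRc, ?_⟩
    haveI : Nontrivial (SR : Subgroup R) := Finite.one_lt_card_iff_nontrivial.1 (by rw [hSRc]; norm_num)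
    exact Monoid.exponent_eq_prime_iff Nat.prime_two |>.2 fun r hr =>
      orderOf_eq_prime (Subtype.ext (by rw [SubmonoidClass.coe_pow, sq, OneMemClass.coe_one]; exact hsqR r r.2)) hr
  obtain ⟨eD⟩ : Nonempty ((SR : Subgroup R) ≃* DihedralGroup 2) := IsKleinFour.nonempty_mulEquiv
  have hOR : Cfsg.oddCore R = ⊥ := by
    haveI : (Cfsg.oddCore R).Characteristic := CentralMeet.oddCore_characteristic R
    have h1 := DGroup.le_oddCore (K := X ⧸ Z) (N := (Cfsg.oddCore R).map R.subtype) inferInstance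
      (by rw [card_map_of_injective R.subtype_injective]; exact DGroup.odd_oddCore R)
    rwa [hO, le_bot_iff, Subgroup.map_eq_bot_iff_of_injective _ R.subtype_injective] at h1
  let bot : R ⧸ Cfsg.oddCore R ≃* R :=
    (QuotientGroup.quotientMulEquivOfEq hOR).trans QuotientGroup.quotientBot
  rcases GW.Top.statement R SR 2 le_rfl ⟨eD⟩ with ⟨F, i1, i2, hodd, h3, ⟨q⟩⟩ | ⟨⟨q⟩⟩
  swap
  · exfalso
    have h8 : 2 ^ 3 ∣ Nat.card R := by
      rw [Nat.card_congr (bot.symm.trans q).toEquiv, Nat.card_eq_fintype_card,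
        card_alternatingGroup, Fintype.card_fin]
      decide
    obtain ⟨B₀, hB₀⟩ := Sylow.exists_subgroup_card_pow_prime 2 h8
    obtain ⟨B, hB'⟩ := (IsPGroup.of_card hB₀).exists_le_sylow
    have hcard' := card_dvd_of_le hB'
    rw [hB₀, Nat.card_congr (B.equiv SR).toEquiv, hSRc] at hcard'
    norm_num at hcard'
  let q' : R ≃* P2 F := bot.symm.trans q
  have hab : ∀ P : Sylow 2 (P2 F), IsMulCommutative (P : Subgroup (P2 F)) := fun P => by
    refine ⟨⟨fun a b => ?_⟩⟩
    let P' : Sylow 2 R := P.mapSurjective (f := q'.symm.toMonoidHom) q'.symm.surjective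
    have hsqP : ∀ r ∈ (P' : Subgroup R), r * r = 1 := by
      intro r hr
      obtain ⟨g, hg⟩ := MulAction.exists_smul_eq R SR P'
      rw [← hg, Sylow.coe_subgroup_smul] at hr
      obtain ⟨s, hs, rfl⟩ := hr
      show g * s * g⁻¹ * (g * s * g⁻¹) = 1
      rw [show g * s * g⁻¹ * (g * s * g⁻¹) = g * (s * s) * g⁻¹ by group, hsqR s hs, mul_one, mul_inv_cancel]
    have hsqF : ∀ c ∈ (P : Subgroup (P2 F)), c * c = 1 := fun c hc => q'.symm.injective (by
      rw [map_mul, map_one]; exact hsqP _ ⟨c, hc, rfl⟩)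
    refine Subtype.ext ?_
    show (a : P2 F) * b = b * a
    have h1 := hsqF _ (mul_mem a.2 b.2)
    rw [← inv_eq_of_mul_eq_one_right h1, mul_inv_rev, inv_eq_of_mul_eq_one_right (hsqF a a.2),
      inv_eq_of_mul_eq_one_right (hsqF b b.2)]
  have hq8 := InvCentPSL.mod_eight hodd hab
  haveI : IsSimpleGroup (P2 F) :=
    CfsgLib.Linear.isSimpleGroup_PSL (Or.inr (CfsgLib.Linear.Small.exists_sq_ne_one (F := F) (by omega)))
  haveI : IsSimpleGroup R := q'.isSimpleGroup
  -- the centraliser of the residual is trivial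
  obtain ⟨SR', hSR'⟩ := PushL2.exists_sylow_inf R SK
  have hSKR : (SK : Subgroup (X ⧸ Z)) ≤ R := by
    have h1 : Nat.card (SR' : Subgroup R) = 4 := by rw [Nat.card_congr (SR'.equiv SR).toEquiv, hSRc]
    have h2 : (SR' : Subgroup R).map R.subtype = (SK : Subgroup (X ⧸ Z)) ⊓ R := by
      rw [hSR', Comp.map_subgroupOf_inf]
    have h3 : Nat.card ↥((SK : Subgroup (X ⧸ Z)) ⊓ R) = 4 := by
      rw [← h2, card_map_of_injective R.subtype_injective, h1]
    exact inf_eq_left.1 (eq_of_le_of_card_ge inf_le_left (by rw [h3, hcard]))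
  have hcR : centralizer (R : Set (X ⧸ Z)) = ⊥ := by
    set C := centralizer (R : Set (X ⧸ Z))
    haveI : C.Normal := Subgroup.normal_centralizer
    obtain ⟨SC, hSC⟩ := PushL2.exists_sylow_inf C SK
    have hCR : C ⊓ R = ⊥ := by
      rcases (inferInstance : IsSimpleGroup R).eq_bot_or_eq_top_of_normal _
        (inferInstance : ((C ⊓ R).subgroupOf R).Normal) with hb | hb
      · rwa [subgroupOf_eq_bot, disjoint_iff, inf_assoc, inf_idem] at hb
      · exfalso
        apply hRns
        rw [subgroupOf_eq_top] at hb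
        haveI : IsMulCommutative R := ⟨⟨fun a b => Subtype.ext
          (mem_centralizer_iff.1 (hb b.2).1 a a.2)⟩⟩
        infer_instance
    have hCodd : Odd (Nat.card C) := by
      refine Nat.not_even_iff_odd.1 fun hev => ?_
      refine Sylow.ne_bot_of_dvd_card SC (even_iff_two_dvd.1 hev) ((eq_bot_iff_forall _).2 fun c hc => ?_)
      rw [hSC] at hc
      have h1 : (c : X ⧸ Z) ∈ C ⊓ R := ⟨c.2, hSKR hc⟩
      rw [hCR, mem_bot] at h1
      exact Subtype.ext h1
    exact le_bot_iff.1 (hO ▸ DGroup.le_oddCore inferInstance hCodd)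
  -- the lift
  set M := R.comap π with hM
  have hTM : T ≤ M := fun t ht => hSKR ⟨t, hS.symm ▸ ht, rfl⟩
  haveI : ((commutator M).map M.subtype).Normal := inferInstance
  set L₀ := (commutator M).map M.subtype with hL₀
  have hL₀R : L₀.map π = R := by
    have h1 : (commutator M).map (π.subgroupComap R) = ⊤ := by
      rw [_root_.commutator_def, map_commutator,
        map_top_of_surjective _ (MonoidHom.subgroupComap_surjective_of_surjective π R (QuotientGroup.mk'_surjective Z)),
        ← _root_.commutator_def]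
      exact Group.IsPerfect.commutator_eq_top
    refine le_antisymm ?_ fun r hr => ?_
    · rintro _ ⟨_, ⟨m, -, rfl⟩, rfl⟩
      exact m.2
    · obtain ⟨m, hm, e⟩ := h1.ge (mem_top (⟨r, hr⟩ : R))
      exact ⟨m, ⟨m, hm, rfl⟩, congrArg Subtype.val e⟩
  let TM : Sylow 2 M := S.subtype (hS.le.trans hTM)
  have hxL : x ∉ L₀ := by
    rintro ⟨m, hm, e⟩
    change (m : X) = x at e
    have hab : IsMulCommutative (TM : Subgroup M) := ⟨⟨fun a b => by
      have hsqT : ∀ c : (TM : Subgroup M), c * c = 1 := fun c =>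
        Subtype.ext (Subtype.ext (h.sq _ (hS ▸ c.2 : ((c : M) : X) ∈ T)))
      rw [← inv_eq_of_mul_eq_one_right (hsqT (a * b)), mul_inv_rev, inv_eq_of_mul_eq_one_right (hsqT a),
        inv_eq_of_mul_eq_one_right (hsqT b)]⟩⟩
    have h1 : m ∈ (TM : Subgroup M) ⊓ commutator M ⊓ center M :=
      ⟨⟨(by rw [e, hS]; exact h.mem : (m : X) ∈ (S : Subgroup X)), hm⟩,
        mem_center_iff.2 fun g => Subtype.ext (mem_center_iff.1 (e.symm ▸ h.central : (m : X) ∈ center X) g)⟩
    rw [TransferBasic.inf_center_inf_commutator_eq_bot (P := TM) hab, mem_bot] at h1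
    exact h.ne_one (by rw [← e, h1]; rfl)
  let σ : L₀ →* R := (π.comp L₀.subtype).codRestrict _ fun l => hL₀R.le ⟨l, l.2, rfl⟩
  have hσ : Function.Bijective σ := by
    refine ⟨(injective_iff_map_eq_one _).2 fun l hl => Subtype.ext ?_, fun r => ?_⟩
    · rcases mem_zpowers_cases h ((QuotientGroup.eq_one_iff (l : X)).1 (congrArg Subtype.val hl)) with e | e
      · exact e
      · exact absurd (e ▸ l.2) hxL
    · obtain ⟨l, hl, e⟩ := hL₀R.ge r.2
      exact ⟨⟨l, hl⟩, Subtype.ext e⟩
  let eσ := MulEquiv.ofBijective σ hσ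
  let ι : P2 F →* X := L₀.subtype.comp (q'.symm.trans eσ.symm).toMonoidHom
  have hrange : ι.range = L₀ := by
    rw [MonoidHom.range_comp, MonoidHom.range_eq_top.2 (q'.symm.trans eσ.symm).surjective,
      ← MonoidHom.range_eq_map, range_subtype]
  have hι : Function.Injective ι := L₀.subtype_injective.comp (q'.symm.trans eσ.symm).injective
  have hmem : ∀ d ∈ T, ∃ s : P2 F, d = ι s ∨ d = x * ι s := by
    intro d hd
    obtain ⟨l, hl, e⟩ := hL₀R.ge (hSKR ⟨d, hS.symm ▸ hd, rfl⟩)
    obtain ⟨s, rfl⟩ : l ∈ ι.range := hrange ▸ hl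
    refine ⟨s, ?_⟩
    rcases mem_zpowers_cases h (QuotientGroup.eq.1 e : (ι s)⁻¹ * d ∈ Z) with e1 | e1
    · exact Or.inl (inv_mul_eq_one.1 e1).symm
    · exact Or.inr (by rw [inv_mul_eq_iff_eq_mul.1 e1, mem_center_iff.1 h.central])
  -- the four-group
  let P : Subgroup (P2 F) := T.comap ι
  have hPsq : ∀ s ∈ P, s * s = 1 := fun s hs => hι (by rw [map_mul, map_one]; exact h.sq _ hs)
  have hPmem : ∀ d ∈ T, ∃ s ∈ P, d = ι s ∨ d = x * ι s := by
    intro d hd
    obtain ⟨s, hs⟩ := hmem d hd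
    refine ⟨s, ?_, hs⟩
    rcases hs with e | e
    · show ι s ∈ T; exact e ▸ hd
    · show ι s ∈ T
      have h1 := mul_mem (inv_mem h.mem) hd
      rwa [e, inv_mul_cancel_left] at h1
  have hPc : Nat.card P = 4 := by
    let g : P × Fin 2 → T := fun p => ⟨if p.2 = 0 then ι p.1 else x * ι p.1, by
      split_ifs
      · exact p.1.2
      · exact mul_mem h.mem p.1.2⟩
    have hg : Function.Bijective g := by
      constructor
      · rintro ⟨p, i⟩ ⟨r, j⟩ e
        have e' := congrArg Subtype.val e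
        simp only [g] at e'
        fin_cases i <;> fin_cases j <;> simp at e'
        · rw [Subtype.ext (hι e')]
        · refine absurd ?_ hxL
          rw [← hrange]
          exact ⟨(p : P2 F) * (r : P2 F)⁻¹, by rw [map_mul, map_inv, e', mul_inv_cancel_right]⟩
        · refine absurd ?_ hxL
          rw [← hrange]
          exact ⟨(r : P2 F) * (p : P2 F)⁻¹, by rw [map_mul, map_inv, ← e', mul_inv_cancel_right]⟩
        · rw [Subtype.ext (hι e')]
      · intro d
        obtain ⟨s, hs, e | e⟩ := hPmem d d.2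
        · exact ⟨(⟨s, hs⟩, 0), Subtype.ext (by simp [g, e])⟩
        · exact ⟨(⟨s, hs⟩, 1), Subtype.ext (by simp [g, e])⟩
    have h1 := Nat.card_eq_of_bijective g hg
    rw [Nat.card_prod, Nat.card_fin, h.card] at h1
    omega
  obtain ⟨v, w, hvP, hwP, hv1, hw1, hvw⟩ : ∃ v w, v ∈ P ∧ w ∈ P ∧ v ≠ 1 ∧ w ≠ 1 ∧ v ≠ w := by
    classical
    haveI := Fintype.ofFinite P
    obtain ⟨a, b, c, hab, hac, hbc⟩ := Fintype.two_lt_card_iff.1
      (show 2 < Fintype.card P by rw [← Nat.card_eq_fintype_card, hPc]; norm_num)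
    by_cases ha : (a : P2 F) = 1
    · exact ⟨b, c, b.2, c.2, fun e => hab (Subtype.ext (ha.trans e.symm)),
        fun e => hac (Subtype.ext (ha.trans e.symm)), fun e => hbc (Subtype.ext e)⟩
    by_cases hb : (b : P2 F) = 1
    · exact ⟨a, c, a.2, c.2, ha, fun e => hbc (Subtype.ext (hb.trans e.symm)),
        fun e => hac (Subtype.ext e)⟩
    exact ⟨a, b, a.2, b.2, ha, hb, fun e => hab (Subtype.ext e)⟩
  have hcomm : Commute v w := by
    have h1 := hPsq _ (mul_mem hvP hwP)
    show v * w = w * v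
    rw [← inv_eq_of_mul_eq_one_right h1, mul_inv_rev, inv_eq_of_mul_eq_one_right (hPsq v hvP),
      inv_eq_of_mul_eq_one_right (hPsq w hwP)]
  obtain ⟨E, hE4, -, hEmem⟩ := SmallCent.exists_four (hPsq v hvP) (hPsq w hwP) hcomm.eq hv1 hw1 hvw
  have hEP : E = P := eq_of_le_of_card_ge (fun s hs => by
    rcases (hEmem s).1 hs with rfl | rfl | rfl | rfl
    exacts [one_mem _, hvP, hwP, mul_mem hvP hwP]) (by rw [hE4, hPc])
  refine ⟨{
    F := F, fld := i1, fin := i2, h8 := hq8, h5 := by omega, ι := ι, inj := hι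
    norm := hrange ▸ (inferInstance : L₀.Normal)
    notMem := hrange ▸ hxL
    cent := fun c hc => ?_
    v := v, w := w, hv := ⟨hPsq v hvP, hv1⟩, hw := ⟨hPsq w hwP, hw1⟩, hvw := hcomm, hne := hvw
    memV := hvP, memW := hwP
    decomp := fun d hd => ?_ }⟩
  · refine (QuotientGroup.eq_one_iff c).1 ?_
    have h1 : π c ∈ centralizer (R : Set (X ⧸ Z)) := mem_centralizer_iff.2 fun r hr => by
      obtain ⟨l, hl, rfl⟩ := hL₀R.ge hr
      rw [← map_mul, ← map_mul, mem_centralizer_iff.1 hc l (hrange.symm ▸ hl)]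
    rwa [hcR, mem_bot] at h1
  · obtain ⟨s, hs, e⟩ := hPmem d hd
    exact ⟨s, (hEmem s).1 (hEP ▸ hs), e⟩

end CfsgLib.EightCore.Iso
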