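import Cfsg.Agent.InvCentPSL.PSLFacts
import Cfsg.Agent.DGroup.Four
import Cfsg.Agent.Solvable.CoprimeAct

/-!
# Subgroups of odd order of `PSL₂(q)` normalised by a four-group

Such a subgroup lies in the centraliser of one of the three involutions.
-/

set_option autoImplicit false
set_option linter.unusedSectionVars false
set_option linter.style.haveILetI false

namespace CfsgLib.EightCore.Iso

open Subgroup
open CfsgLib.Linear.SmallSub (P2)
open CfsgLib.NormCyclic (Inv)
open CfsgLib.DGroup (eq_one_of_sq odd_orderOf)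

variable {F : Type} [Field F] [Fintype F]

/-- An abelian subgroup of odd order invariant under two commuting involutions. -/
theorem abelian_piece (hodd : Odd (Fintype.card F)) {u t : P2 F} (hu : Inv u) (ht : Inv t)
    (hut : Commute u t) (hne : u ≠ t) {A : Subgroup (P2 F)} (hA : Odd (Nat.card A))
    (hAc : ∀ a ∈ A, ∀ b ∈ A, Commute a b) (hA0 : A ≠ ⊥) (hAu : ∀ a ∈ A, u * a * u ∈ A)
    (hAt : ∀ a ∈ A, t * a * t ∈ A) : ∃ z : P2 F, Inv z ∧ ∀ a ∈ A, Commute a z := by
  have hTI := InvCentPSL.ti (F := F) hodd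
  have fin : ∀ z b : P2 F, Inv z → b ∈ A → b ≠ 1 → Commute b z → ∀ a ∈ A, Commute a z :=
    fun z b hz hb hb1 hbz a ha =>
      hTI z b a hz hb1 (odd_orderOf hA hb) (odd_orderOf hA ha) hbz (hAc a ha b hb)
  have fix : ∀ z : P2 F, Inv z → ∀ a ∈ A, z * a * z ∈ A → Commute (a * (z * a * z)) z := by
    intro z hz a ha hza
    have h1 : z * (a * (z * a * z)) = a * (z * a * z) * z := by
      calc z * (a * (z * a * z)) = (z * a * z) * a * z := by group
        _ = a * (z * a * z) * z := by rw [(hAc _ hza a ha).eq]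
    exact h1.symm
  obtain ⟨a, ha, ha1⟩ := (bot_or_exists_ne_one A).resolve_left hA0
  by_cases h1 : a * (u * a * u) = 1
  swap
  · exact ⟨u, hu, fin u _ hu (mul_mem ha (hAu a ha)) h1 (fix u hu a ha (hAu a ha))⟩
  by_cases h2 : a * (t * a * t) = 1
  swap
  · exact ⟨t, ht, fin t _ ht (mul_mem ha (hAt a ha)) h2 (fix t ht a ha (hAt a ha))⟩
  have eu : u * a * u = a⁻¹ := eq_inv_of_mul_eq_one_right h1
  have et : t * a * t = a⁻¹ := eq_inv_of_mul_eq_one_right h2
  have hzi : Inv (u * t) := hu.mul ht hut hne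
  refine ⟨u * t, hzi, fin _ a hzi ha ha1 ?_⟩
  have h3 : u * t * a * (u * t)⁻¹ = a := by
    rw [mul_inv_rev, hu.inv_eq, ht.inv_eq]
    calc u * t * a * (t * u) = u * (t * a * t) * u := by group
      _ = u⁻¹ * a⁻¹ * u⁻¹ := by rw [et, hu.inv_eq]
      _ = (u * a * u)⁻¹ := by group
      _ = a := by rw [eu, inv_inv]
  exact (mul_inv_eq_iff_eq_mul.1 h3).symm

/-- A subgroup of odd order invariant under two commuting involutions centralises an involution. -/
theorem odd_piece (hodd : Odd (Fintype.card F))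
    (h8 : Fintype.card F % 8 = 3 ∨ Fintype.card F % 8 = 5) {u t : P2 F} (hu : Inv u) (ht : Inv t)
    (hut : Commute u t) (hne : u ≠ t) {E : Subgroup (P2 F)} (hE : Odd (Nat.card E))
    (hEu : u ∈ normalizer (E : Set (P2 F))) (hEt : t ∈ normalizer (E : Set (P2 F))) :
    ∃ z : P2 F, Inv z ∧ ∀ a ∈ E, Commute a z := by
  classical
  have hG := InvCentPSL.dhyp (F := F) hodd
  have hTI := InvCentPSL.ti (F := F) hodd
  have stab : ∀ (s : P2 F), Inv s → ∀ K : Subgroup (P2 F), s ∈ normalizer (K : Set (P2 F)) →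
      ∀ a ∈ K, s * a * s ∈ K := fun s hs K hK a ha => by
    have := DGroup.conj_mem hK ha
    rwa [hs.inv_eq] at this
  let Fo : DGroup.Four (P2 F) := ⟨u, t, u * t, hu, ht, hu.mul ht hut hne, hut, hne, rfl⟩
  have hS : Fo.Stab E := ⟨hEu, hEt⟩
  -- every invariant `p`-subgroup is cyclic
  have hcyc : ∀ {p : ℕ} [Fact p.Prime] (P : Subgroup (P2 F)), IsPGroup p P → Odd (Nat.card P) →
      u ∈ normalizer (P : Set (P2 F)) → t ∈ normalizer (P : Set (P2 F)) → IsCyclic P := by
    intro p _ P hP hPo hPu hPt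
    by_cases hP0 : P = ⊥
    · subst hP0; infer_instance
    haveI : Nontrivial P := (nontrivial_iff_ne_bot P).2 hP0
    set Z := (center P).map P.subtype with hZ
    have hZ0 : Z ≠ ⊥ := by
      rw [hZ, Ne, map_eq_bot_iff_of_injective _ P.subtype_injective]
      haveI := hP.center_nontrivial
      exact (nontrivial_iff_ne_bot _).1 inferInstance
    have hZc : ∀ z ∈ Z, ∀ y ∈ P, Commute z y := by
      rintro _ ⟨z, hz, rfl⟩ y hy
      exact (congrArg Subtype.val (mem_center_iff.1 hz ⟨y, hy⟩)).symm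
    have hZP : Z ≤ P := map_subtype_le _
    have hinv : ∀ s : P2 F, Inv s → s ∈ normalizer (P : Set (P2 F)) → ∀ z ∈ Z, s * z * s ∈ Z := by
      intro s hs hsP z hz
      refine ⟨⟨s * z * s, stab s hs P hsP z (hZP hz)⟩, mem_center_iff.2 fun y => Subtype.ext ?_, rfl⟩
      have h1 := hZc z hz _ (stab s hs P hsP y y.2)
      have h2 := h1.map (MulAut.conj s).toMonoidHom
      simp only [MulEquiv.coe_toMonoidHom, MulAut.conj_apply, hs.inv_eq] at h2
      rw [show s * (s * (y : P2 F) * s) * s = (s * s) * y * (s * s) by group, hs.1, one_mul,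
        mul_one] at h2
      exact h2.symm.eq
    obtain ⟨z, hz, hzZ⟩ := abelian_piece hodd hu ht hut hne
      (hPo.of_dvd_nat (card_dvd_of_le hZP)) (fun a ha b hb => hZc a ha b (hZP hb)) hZ0
      (hinv u hu hPu) (hinv t ht hPt)
    obtain ⟨a, ha, ha1⟩ := (bot_or_exists_ne_one Z).resolve_left hZ0
    obtain ⟨w, hw, hwz, hwne⟩ := InvCentPSL.exists_other hodd hz
    obtain ⟨k, ε, T, -, -, -, hTc, -, -, hTm, -⟩ :=
      GW.CaseI.psl_torus hodd h8 hz.1 hz.2 hw.1 hw.2 hwz hwne
    haveI := hTc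
    refine Subgroup.isCyclic_of_le (show P ≤ T from fun y hy => hTm y ?_ (odd_orderOf hPo hy))
    exact hTI z a y hz ha1 (odd_orderOf hPo (hZP ha)) (odd_orderOf hPo hy) (hzZ a ha)
      (hZc a ha y hy).symm
  -- so `E` is a Z-group
  haveI : IsZGroup E := by
    refine ⟨fun p hp P => ?_⟩
    haveI := Fact.mk hp
    have hVs : Group.IsSolvable Fo.V := by
      haveI := Fact.mk Nat.prime_two
      haveI := Fo.card_V.isNilpotent
      infer_instance
    obtain ⟨Q, hQ⟩ := CoprimeAct.exists_invariant_sylow (A := Fo.V) (K := E) (Fo.V_le_normalizer hS)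
      (Fo.coprime_V hE) (Or.inl hVs) p
    haveI : IsCyclic ((Q : Subgroup E).map E.subtype) := hcyc (p := p) _ (Q.2.map _)
      (hE.of_dvd_nat (card_dvd_of_le (map_subtype_le _))) (hQ (subset_closure (Or.inl rfl)))
      (hQ (subset_closure (Or.inr rfl)))
    exact ((P.equiv Q).trans ((Q : Subgroup E).equivMapOfInjective _ E.subtype_injective)).isCyclic.2
      inferInstance
  by_cases hE0 : E = ⊥
  · exact ⟨u, hu, fun a ha => by rw [hE0, mem_bot] at ha; rw [ha]; exact Commute.one_left u⟩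
  -- a nontrivial abelian subgroup invariant under `E` and both involutions
  obtain ⟨A, hAE, hA0, hAc, hAn⟩ : ∃ A ≤ E, A ≠ ⊥ ∧ (∀ a ∈ A, ∀ b ∈ A, Commute a b) ∧
      normalizer (E : Set (P2 F)) ≤ normalizer (A : Set (P2 F)) := by
    by_cases hc : commutator E = ⊥
    · refine ⟨E, le_rfl, hE0, fun a ha b hb => ?_, le_rfl⟩
      rw [_root_.commutator_def] at hc
      have h1 := mem_bot.1
        (hc ▸ commutator_mem_commutator (mem_top (⟨a, ha⟩ : E)) (mem_top (⟨b, hb⟩ : E)))
      have h2 : (⟨a, ha⟩ : E) * ⟨b, hb⟩ = ⟨b, hb⟩ * ⟨a, ha⟩ :=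
        commutatorElement_eq_one_iff_mul_comm.1 h1
      exact congrArg Subtype.val h2
    · refine ⟨(commutator E).map E.subtype, map_subtype_le _,
        fun e => hc ((map_eq_bot_iff_of_injective _ E.subtype_injective).1 e), ?_, ?_⟩
      · letI := (IsZGroup.isCyclic_commutator E).commGroup
        rintro _ ⟨a, ha, rfl⟩ _ ⟨b, hb, rfl⟩
        exact Commute.map (congrArg Subtype.val (mul_comm (⟨a, ha⟩ : commutator E) ⟨b, hb⟩)) E.subtype
      · rw [map_subtype_commutator]
        intro g hg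
        have h1 : E.map (MulAut.conj g).toMonoidHom = E := SZ.conj_smul_eq_iff_mem_normalizer.2 hg
        refine SZ.conj_smul_eq_iff_mem_normalizer.1 ?_
        show ⁅E, E⁆.map (MulAut.conj g).toMonoidHom = ⁅E, E⁆
        rw [map_commutator, h1]
  have hAo : Odd (Nat.card A) := hE.of_dvd_nat (card_dvd_of_le hAE)
  obtain ⟨z, hz, hzA⟩ := abelian_piece hodd hu ht hut hne hAo hAc hA0 (stab u hu A (hAn hEu))
    (stab t ht A (hAn hEt))
  obtain ⟨a, ha, ha1⟩ := (bot_or_exists_ne_one A).resolve_left hA0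
  refine ⟨z, hz, fun y hy => ?_⟩
  have hb : y * a * y⁻¹ ∈ A := DGroup.conj_mem (hAn (le_normalizer hy)) ha
  have hb1 : y * a * y⁻¹ ≠ 1 := fun e => ha1 (conj_eq_one_iff.1 e)
  have e := hG.inv_unique hTI hz (hz.conj y) (odd_orderOf hAo hb) hb1 (hzA _ hb)
    ((Commute.conj_iff y).2 (hzA a ha))
  exact mul_inv_eq_iff_eq_mul.1 e

end CfsgLib.EightCore.Iso
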