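import Cfsg.Agent.EightCore.IsoBase
import Cfsg.Agent.EightCore.IsoPSL
import Cfsg.Agent.EightCore.Basic

/-!
# Groups with Sylow 2-subgroup `E₈` and a central involution: the tori of the lines

For a line through the central involution the inverted elements form a cyclic group, the same for each
such line up to order; a line avoiding it inverts nothing.
-/

set_option autoImplicit false
set_option linter.unusedSectionVars false
set_option linter.style.haveILetI false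

namespace CfsgLib.EightCore.Iso

open Subgroup
open CfsgLib.Linear.SmallSub (P2)
open CfsgLib.NormCyclic (Inv)
open CfsgLib.DGroup (eq_one_of_sq eq_one_of_inv_eq)

universe u

variable {X : Type u} [Group X] [Finite X] {T : Subgroup X} {x : X}

theorem conj_mem_inverted {ℓ : Subgroup X} (hl : IsLine T ℓ) {c a : X}
    (hc : c ∈ centralizer (T : Set X)) (ha : a ∈ inverted T ℓ) : c * a * c⁻¹ ∈ inverted T ℓ := by
  have hfix : ∀ y ∈ T, c * y * c⁻¹ = y := fun y hy => by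
    rw [← mem_centralizer_iff.1 hc y hy, mul_inv_cancel_right]
  refine ⟨(Invol.orderOf_conj_eq c a).symm ▸ ha.1, fun y hy => ?_, fun d hd hdl => ?_⟩
  · have h1 := (Commute.conj_iff c).2 (ha.2.1 y hy)
    rwa [hfix y (hl.1 hy)] at h1
  · calc d * (c * a * c⁻¹) * d⁻¹ = c * d * c⁻¹ * (c * a * c⁻¹) * (c * d * c⁻¹)⁻¹ := by
          rw [hfix d hd]
      _ = c * (d * a * d⁻¹) * c⁻¹ := by group
      _ = (c * a * c⁻¹)⁻¹ := by rw [ha.2.2 d hd hdl]; group

theorem one_mem_inverted {ℓ : Subgroup X} : (1 : X) ∈ inverted T ℓ :=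
  ⟨by rw [orderOf_one]; exact odd_one, fun y _ => Commute.one_right y,
    fun d _ _ => by rw [mul_one, mul_inv_cancel, inv_one]⟩

/-- A line avoiding the central involution inverts nothing. -/
theorem not_mem_line (h : Iso T x) {ℓ : Subgroup X} (hl : IsLine T ℓ) (hx : x ∉ ℓ) {a : X}
    (ha : a ∈ inverted T ℓ) : a = 1 := by
  have h1 := ha.2.2 x h.mem hx
  rw [← mem_center_iff.1 h.central a, mul_inv_cancel_right] at h1
  exact eq_one_of_inv_eq h1.symm ha.1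

/-- In the solvable shape nothing is inverted. -/
theorem inverted_normal (h : Iso T x) (hT : T.Normal) {ℓ : Subgroup X} (hl : IsLine T ℓ) {a : X}
    (ha : a ∈ inverted T ℓ) : a = 1 := by
  obtain ⟨d, hd, hdl⟩ := h.exists_not_mem hl
  have h1 : d * (a * d⁻¹ * a⁻¹) ∈ T := mul_mem hd (hT.conj_mem _ (inv_mem hd) a)
  rw [← mul_assoc, ← mul_assoc, ha.2.2 d hd hdl] at h1
  have ho : Odd (orderOf (a⁻¹ * a⁻¹)) := by
    rw [← mul_inv_rev, orderOf_inv]
    exact ha.1.of_dvd_nat (by rw [← sq]; exact orderOf_pow_dvd 2)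
  have h2 : a⁻¹ * a⁻¹ = 1 := h.eq_one_of_odd h1 ho
  exact inv_eq_one.1 (eq_one_of_sq h2 (by rw [orderOf_inv]; exact ha.1))

/-- The involutions attached to a line through the central involution. -/
theorem line_data (h : Iso T x) (D : PSLData T x) {ℓ : Subgroup X} (hl : IsLine T ℓ) (hx : x ∈ ℓ) :
    ∃ u t : P2 D.F, Inv u ∧ Inv t ∧ Commute u t ∧ u ≠ t ∧ D.ι u ∈ ℓ ∧ D.ι t ∈ T ∧ D.ι t ∉ ℓ ∧
      (∀ z ∈ ℓ, z = 1 ∨ z = x ∨ z = D.ι u ∨ z = x * D.ι u) := by
  have inv_of : ∀ s : P2 D.F, D.ι s ∈ T → s ≠ 1 → Inv s := fun s hs hs1 =>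
    ⟨D.inj (by rw [map_mul, map_one]; exact h.sq _ hs), hs1⟩
  -- an involution of the range in the line
  obtain ⟨u, hu1, huℓ⟩ : ∃ u : P2 D.F, u ≠ 1 ∧ D.ι u ∈ ℓ := by
    obtain ⟨a, ha, ha1, b, hb, hb1, hne⟩ := hl.exists_two
    obtain ⟨y, hy, hy1, hyx⟩ : ∃ y ∈ ℓ, y ≠ 1 ∧ y ≠ x := by
      by_cases hax : a = x
      · exact ⟨b, hb, hb1, hax ▸ hne⟩
      · exact ⟨a, ha, ha1, hax⟩
    obtain ⟨s, -, e | e⟩ := D.decomp y (hl.1 hy)
    · exact ⟨s, fun e1 => hy1 (by rw [e, e1, map_one]), e ▸ hy⟩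
    · refine ⟨s, fun e1 => hyx (by rw [e, e1, map_one, mul_one]), ?_⟩
      have h1 := mul_mem (inv_mem hx) hy
      rwa [e, inv_mul_cancel_left] at h1
  obtain ⟨d, hd, hdl⟩ := h.exists_not_mem hl
  obtain ⟨t, htT, htℓ⟩ : ∃ t : P2 D.F, D.ι t ∈ T ∧ D.ι t ∉ ℓ := by
    obtain ⟨s, -, e | e⟩ := D.decomp d hd
    · exact ⟨s, e ▸ hd, e ▸ hdl⟩
    · refine ⟨s, ?_, fun h1 => hdl (e ▸ mul_mem hx h1)⟩
      have h1 := mul_mem (inv_mem h.mem) hd
      rwa [e, inv_mul_cancel_left] at h1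
  have ht1 : t ≠ 1 := fun e => htℓ (by rw [e, map_one]; exact one_mem _)
  have huT := hl.1 huℓ
  refine ⟨u, t, inv_of u huT hu1, inv_of t htT ht1, D.inj (by
    rw [map_mul, map_mul]; exact h.comm huT htT), fun e => htℓ (e ▸ huℓ), huℓ, htT, htℓ, fun z hz => ?_⟩
  have hι1 : D.ι u ≠ 1 := fun e => hu1 (D.inj (e.trans (map_one _).symm))
  have hne : x ≠ D.ι u := fun e => D.notMem ⟨u, e.symm⟩
  rw [h.eq_lineOf hl hx huℓ h.ne_one hι1 hne] at hz
  exact (h.mem_lineOf h.mem huT).1 hz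

/-- The inverted elements of a line through `x` are the elements of odd order centralising the involution
of the range in the line. -/
theorem inverted_iff (h : Iso T x) (D : PSLData T x) {ℓ : Subgroup X} (hl : IsLine T ℓ) {u t : P2 D.F}
    (hu : Inv u) (ht : Inv t) (hut : Commute u t) (hne : u ≠ t) (huℓ : D.ι u ∈ ℓ) (htT : D.ι t ∈ T)
    (htℓ : D.ι t ∉ ℓ) (hmem : ∀ z ∈ ℓ, z = 1 ∨ z = x ∨ z = D.ι u ∨ z = x * D.ι u) {a : X} :
    a ∈ inverted T ℓ ↔ ∃ y : P2 D.F, D.ι y = a ∧ Odd (orderOf y) ∧ Commute y u := by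
  haveI := D.norm
  constructor
  · intro ha
    have h1 : a * (D.ι t)⁻¹ * a⁻¹ ∈ D.ι.range := D.norm.conj_mem _ (inv_mem ⟨t, rfl⟩) a
    have h2 : D.ι t * (a * (D.ι t)⁻¹ * a⁻¹) ∈ D.ι.range := mul_mem ⟨t, rfl⟩ h1
    rw [← mul_assoc, ← mul_assoc, ha.2.2 _ htT htℓ, ← mul_inv_rev] at h2
    obtain ⟨k, hk⟩ := ha.1
    have e : a = (a * a) ^ (k + 1) := by
      rw [(Commute.refl a).mul_pow, ← pow_add, show k + 1 + (k + 1) = orderOf a + 1 by omega,
        pow_succ, pow_orderOf_eq_one, one_mul]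
    obtain ⟨y, hy⟩ : a ∈ D.ι.range := e ▸ pow_mem (inv_mem_iff.1 h2) _
    refine ⟨y, hy, ?_, D.inj ?_⟩
    · rw [← orderOf_injective D.ι D.inj, hy]; exact ha.1
    · rw [map_mul, map_mul, hy]; exact (ha.2.1 _ huℓ).symm
  · rintro ⟨y, rfl, hy, hyu⟩
    have hc : Commute (D.ι u) (D.ι y) := hyu.symm.map D.ι
    have hxc : Commute x (D.ι y) := (mem_center_iff.1 h.central _).symm
    refine ⟨by rw [orderOf_injective D.ι D.inj]; exact hy, fun z hz => ?_, fun d hd hdl => ?_⟩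
    · rcases hmem z hz with rfl | rfl | rfl | rfl
      exacts [Commute.one_left _, hxc, hc, hxc.mul_left hc]
    · have hz := (h.mem_or_coset hl htT htℓ hd).resolve_left hdl
      have hdz : d = D.ι t * (D.ι t * d) := by rw [← mul_assoc, h.sq _ htT, one_mul]
      have hcom : Commute (D.ι t * d) (D.ι y) := by
        rcases hmem _ hz with e | e | e | e <;> rw [e]
        exacts [Commute.one_left _, hxc, hc, hxc.mul_left hc]
      have hinv : t * y * t = y⁻¹ :=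
        (InvCentPSL.dhyp (F := D.F) (Nat.odd_iff.2 (by have := D.h8; omega))).inverts hu ht hut.symm
          hne.symm ⟨hyu, hy⟩
      calc d * D.ι y * d⁻¹
          = D.ι t * ((D.ι t * d) * D.ι y * (D.ι t * d)⁻¹) * (D.ι t)⁻¹ := by
            conv_lhs => rw [hdz]
            group
        _ = D.ι (t * y * t) := by
            rw [hcom.eq, mul_inv_cancel_right, h.inv_eq htT, map_mul, map_mul]
        _ = (D.ι y)⁻¹ := by rw [hinv, map_inv]

/-- The data of the torus of a line through `x`. -/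
theorem torus_data (h : Iso T x) (D : PSLData T x) {ℓ : Subgroup X} (hl : IsLine T ℓ) (hx : x ∈ ℓ) :
    ∃ (u t : P2 D.F) (k : ℕ) (ε : ℤ) (A : Subgroup (P2 D.F)), Inv u ∧ Inv t ∧ Commute u t ∧ u ≠ t ∧
      D.ι u ∈ ℓ ∧ D.ι t ∈ T ∧ (∀ z ∈ ℓ, z = 1 ∨ z = x ∨ z = D.ι u ∨ z = x * D.ι u) ∧
      (ε = 1 ∨ ε = -1) ∧ ((Fintype.card D.F : ℕ) : ℤ) = 4 * k + ε ∧ Odd k ∧ IsCyclic A ∧
      Nat.card A = k ∧ (∀ y ∈ A, Commute y u) ∧
      (∀ y : P2 D.F, Commute y u → Odd (orderOf y) → y ∈ A) ∧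
      ((A.map D.ι : Subgroup X) : Set X) = inverted T ℓ := by
  obtain ⟨u, t, hu, ht, hut, hne, huℓ, htT, htℓ, hmem⟩ := line_data h D hl hx
  have hodd : Odd (Fintype.card D.F) := Nat.odd_iff.2 (by have := D.h8; omega)
  obtain ⟨k, ε, A, hε, hq, hk, hcyc, hcard, hc, hmemA, -⟩ :=
    GW.CaseI.psl_torus hodd D.h8 hu.1 hu.2 ht.1 ht.2 hut.symm hne.symm
  refine ⟨u, t, k, ε, A, hu, ht, hut, hne, huℓ, htT, hmem, hε, hq, hk, hcyc, hcard, hc, hmemA, ?_⟩
  ext a
  rw [inverted_iff h D hl hu ht hut hne huℓ htT htℓ hmem, SetLike.mem_coe, mem_map]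
  constructor
  · rintro ⟨y, hy, rfl⟩
    exact ⟨y, rfl, DGroup.odd_orderOf (by rw [hcard]; exact hk) hy, hc y hy⟩
  · rintro ⟨y, rfl, hy, hyu⟩
    exact ⟨y, hmemA y hyu hy, rfl⟩

theorem inverted_eq_bot (h : Iso T x) {ℓ : Subgroup X} (hl : IsLine T ℓ)
    (hbad : T.Normal ∨ x ∉ ℓ) : ((⊥ : Subgroup X) : Set X) = inverted T ℓ := by
  ext a
  rw [SetLike.mem_coe, mem_bot]
  refine ⟨fun e => e ▸ one_mem_inverted, fun ha => ?_⟩
  rcases hbad with hT | hx
  exacts [inverted_normal h hT hl ha, not_mem_line h hl hx ha]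

/-- The inverted elements of a line form a cyclic group normalised by the centraliser of `T`. -/
theorem exists_torus (h : Iso T x) {ℓ : Subgroup X} (hl : IsLine T ℓ) :
    ∃ A : Subgroup X, (A : Set X) = inverted T ℓ ∧ IsCyclic A ∧
      centralizer (T : Set X) ≤ normalizer (A : Set X) := by
  obtain ⟨A, hA, hcyc⟩ : ∃ A : Subgroup X, (A : Set X) = inverted T ℓ ∧ IsCyclic A := by
    by_cases hx : x ∈ ℓ
    swap
    · exact ⟨⊥, inverted_eq_bot h hl (Or.inr hx), inferInstance⟩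
    rcases shape h with hT | ⟨⟨D⟩⟩
    · exact ⟨⊥, inverted_eq_bot h hl (Or.inl hT), inferInstance⟩
    obtain ⟨u, t, k, ε, A, -, -, -, -, -, -, -, -, -, -, hcyc, -, -, -, hA⟩ := torus_data h D hl hx
    haveI := hcyc
    exact ⟨A.map D.ι, hA, (A.equivMapOfInjective _ D.inj).isCyclic.1 hcyc⟩
  refine ⟨A, hA, hcyc, fun c hc => mem_normalizer_iff.2 fun a => ?_⟩
  rw [← SetLike.mem_coe (p := A), ← SetLike.mem_coe (p := A) (x := c * a * c⁻¹), hA]
  refine ⟨conj_mem_inverted hl hc, fun ha => ?_⟩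
  have h1 := conj_mem_inverted hl (inv_mem hc) ha
  rwa [show c⁻¹ * (c * a * c⁻¹) * c⁻¹⁻¹ = a by group] at h1

/-- The lines through `x` have tori of the same order. -/
theorem card_torus (h : Iso T x) {ℓ ℓ' : Subgroup X} (hl : IsLine T ℓ) (hl' : IsLine T ℓ')
    (hx : x ∈ ℓ) (hx' : x ∈ ℓ') : Nat.card (inverted T ℓ) = Nat.card (inverted T ℓ') := by
  rcases shape h with hT | ⟨⟨D⟩⟩
  · rw [← inverted_eq_bot h hl (Or.inl hT), ← inverted_eq_bot h hl' (Or.inl hT)]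
  obtain ⟨u, t, k, ε, A, -, -, -, -, -, -, -, hε, hq, -, -, hA, -, -, hAe⟩ := torus_data h D hl hx
  obtain ⟨u', t', k', ε', A', -, -, -, -, -, -, -, hε', hq', -, -, hA', -, -, hAe'⟩ :=
    torus_data h D hl' hx'
  rw [← hAe, ← hAe', SetLike.coe_sort_coe, SetLike.coe_sort_coe,
    card_map_of_injective D.inj, card_map_of_injective D.inj, hA, hA']
  omega

/-- An invariant subgroup of odd order meets the tori of one line only. -/
theorem line_unique (h : Iso T x) {Y : Subgroup X} (hY : Odd (Nat.card Y))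
    (hTY : T ≤ normalizer (Y : Set X)) {ℓ ℓ' : Subgroup X} (hl : IsLine T ℓ) (hl' : IsLine T ℓ')
    (hne : ℓ ≠ ℓ') {a b : X} (ha : a ∈ Y) (hai : a ∈ inverted T ℓ) (ha1 : a ≠ 1) (hb : b ∈ Y)
    (hbi : b ∈ inverted T ℓ') : b = 1 := by
  by_contra hb1
  have hx : x ∈ ℓ := by_contra fun h1 => ha1 (not_mem_line h hl h1 hai)
  have hx' : x ∈ ℓ' := by_contra fun h1 => hb1 (not_mem_line h hl' h1 hbi)
  rcases shape h with hT | ⟨⟨D⟩⟩
  · exact ha1 (inverted_normal h hT hl hai)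
  obtain ⟨u, t, hu, ht, hut, hut', huℓ, htT, htℓ, hmem⟩ := line_data h D hl hx
  obtain ⟨u', t', hu', ht', hut2, hut2', huℓ', htT', htℓ', hmem'⟩ := line_data h D hl' hx'
  obtain ⟨y, rfl, hy, hyu⟩ := (inverted_iff h D hl hu ht hut hut' huℓ htT htℓ hmem).1 hai
  obtain ⟨y', rfl, hy', hyu'⟩ :=
    (inverted_iff h D hl' hu' ht' hut2 hut2' huℓ' htT' htℓ' hmem').1 hbi
  have hodd : Odd (Fintype.card D.F) := Nat.odd_iff.2 (by have := D.h8; omega)
  set E := Y.comap D.ι with hE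
  have hEo : Odd (Nat.card E) := hY.of_dvd_nat (card_comap_dvd_of_injective Y D.ι D.inj)
  have hEn : ∀ s : P2 D.F, D.ι s ∈ T → s ∈ normalizer (E : Set (P2 D.F)) := fun s hs =>
    mem_normalizer_iff.2 fun z => by
      rw [hE, mem_comap, mem_comap, map_mul, map_mul, map_inv]
      exact mem_normalizer_iff.1 (hTY hs) _
  obtain ⟨z, hz, hzE⟩ := odd_piece hodd D.h8 hu ht hut hut' hEo (hEn u (hl.1 huℓ)) (hEn t htT)
  have hTI := InvCentPSL.ti (F := D.F) hodd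
  have hG := InvCentPSL.dhyp (F := D.F) hodd
  have h1 : u = z := hG.inv_unique hTI hz hu hy (fun e => ha1 (by rw [e, map_one])) (hzE y ha) hyu
  have h2 : u' = z := hG.inv_unique hTI hz hu' hy' (fun e => hb1 (by rw [e, map_one])) (hzE y' hb) hyu'
  refine hne (h.line_ext hl hl' hx huℓ hx' (by rw [h1, ← h2]; exact huℓ') h.ne_one
    (fun e => hu.2 (D.inj (e.trans (map_one _).symm))) fun e => D.notMem ⟨u, e.symm⟩)

end CfsgLib.EightCore.Iso
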