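import Cfsg.Agent.S2065
import Cfsg.Agent.EightCore.AutConj

/-!
# A group with a normal subgroup `J₁` of trivial centraliser
-/

set_option autoImplicit false
set_option linter.unusedVariables false

namespace CfsgLib.EightCore

open Subgroup

universe u

theorem inner_of_iso {M : Type*} [Group M] (hJ : Cfsg.Spor.IsoJ1 M) (φ : MulAut M) :
    ∃ m : M, ∀ x : M, φ x = m * x * m⁻¹ := by
  obtain ⟨e⟩ := hJ
  have h : Subsingleton (Cfsg.Out ↥Cfsg.Spor.J1) := (Nat.card_eq_one_iff_unique.1 Cfsg.Agent.S2065.result).1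
  have htop := (Subgroup.eq_top_iff' _).1 (QuotientGroup.subsingleton_iff.1 h) ((e.symm.trans φ).trans e)
  obtain ⟨c, hc⟩ := htop
  refine ⟨e.symm c, fun x => ?_⟩
  have h1 : c * e x * c⁻¹ = e (φ (e.symm (e x))) := DFunLike.congr_fun hc (e x)
  rw [e.symm_apply_apply] at h1
  apply e.injective
  rw [← h1, map_mul, map_mul, e.apply_symm_apply, map_inv, e.apply_symm_apply]

theorem j1_index {G : Type u} [Group G] [Finite G] (hG : PAbConj G) (M : Subgroup G) [M.Normal]
    (hJ : Cfsg.Spor.IsoJ1 ↥M) (hc : centralizer (M : Set G) = ⊥) : M = ⊤ := by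
  refine (Subgroup.eq_top_iff' M).2 fun g => ?_
  obtain ⟨m, hm⟩ := inner_of_iso hJ (MulAut.conjNormal g : MulAut M)
  have h1 : (m : G)⁻¹ * g ∈ centralizer (M : Set G) := mem_centralizer_iff.2 fun x hx => by
    have e : g * x * g⁻¹ = (m : G) * x * (m : G)⁻¹ :=
      (MulAut.conjNormal_apply g (⟨x, hx⟩ : M)).symm.trans (congrArg Subtype.val (hm ⟨x, hx⟩))
    calc x * ((m : G)⁻¹ * g) = (m : G)⁻¹ * (m * x * (m : G)⁻¹) * g := by group
      _ = (m : G)⁻¹ * g * x := by rw [← e]; group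
  rw [hc, mem_bot, inv_mul_eq_one] at h1
  exact h1 ▸ m.2

end CfsgLib.EightCore
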