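import Cfsg.Agent.EightCore.Degree
import Cfsg.Agent.PushL2.Setup

/-!
# Simple groups with Sylow 2-subgroups `E₈`: the model of an involution centraliser
-/

set_option autoImplicit false
set_option linter.unusedSectionVars false
set_option linter.unusedVariables false
set_option linter.style.haveILetI false

namespace CfsgLib.EightCore

open Subgroup
open CfsgLib.Linear.SmallSub (P2)
open CfsgLib.NormCyclic (Inv)

universe u

variable {X : Type u} [Group X] [Finite X] {T : Subgroup X}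

theorem mem_of_pow_coprime {G : Type u} [Group G] {R : Subgroup G} {g : G} {a b : ℕ} (hab : Nat.Coprime a b)
    (ha : g ^ a ∈ R) (hb : g ^ b ∈ R) : g ∈ R := by
  have e : g = (g ^ a) ^ (a.gcdA b) * (g ^ b) ^ (a.gcdB b) := by
    rw [← zpow_natCast, ← zpow_natCast, ← zpow_mul, ← zpow_mul, ← zpow_add, ← Nat.gcd_eq_gcd_ab, hab.gcd_eq_one,
      Nat.cast_one, zpow_one]
  rw [e]
  exact mul_mem (zpow_mem ha _) (zpow_mem hb _)

/-- A map from the centraliser of `t` onto `PSL₂(q)` whose kernel is the odd core extended by `t`. -/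
structure Model (T : Subgroup X) (t : X) where
  F : Type
  fld : Field F
  fin : Fintype F
  p : ℕ
  f : ℕ
  prime : p.Prime
  ne_two : p ≠ 2
  card : Fintype.card F = p ^ f
  deg : f = 1 ∨ f = 3
  h8 : Fintype.card F % 8 = 3 ∨ Fintype.card F % 8 = 5
  h5 : 5 ≤ Fintype.card F
  μ : ↥(centralizer ({t} : Set X)) →* P2 F
  surj : Function.Surjective μ
  ker : ∀ c, μ c = 1 ↔
    (c : X) ∈ DGroup.coreIn (centralizer ({t} : Set X)) ∨ (c : X) * t ∈ DGroup.coreIn (centralizer ({t} : Set X))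
  not_dvd : ¬ p ∣ Nat.card (DGroup.coreIn (centralizer ({t} : Set X)))
  noWeight : ∀ r : ℕ, r.Prime → r ≠ 2 → r ∣ Nat.card (P2 F) →
    (∀ v : P2 F, Inv v → ¬ r ∣ Nat.card (centralizer ({v} : Set (P2 F)))) →
    ∀ (ℓ : Subgroup X), IsLine T ℓ → ∀ b ∈ inverted T ℓ, orderOf b ≠ r

attribute [instance] Model.fld Model.fin

section Data

variable (h : Hyp T) {t : X} (ht : t ∈ T) (ht1 : t ≠ 1) (D : Shape T t)

include h ht ht1 D

/-- An element of odd order centralising `T` lies in the odd core. -/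
theorem Shape.commute_T_mem_core {c : X} (hc : Odd (orderOf c)) (hcT : ∀ v ∈ T, Commute v c) :
    c ∈ DGroup.coreIn (centralizer ({t} : Set X)) := by
  set C := centralizer ({t} : Set X)
  have hcC : c ∈ C := mem_centralizer_singleton_iff.2 (hcT t ht).symm.eq
  by_contra hno
  set a : ↥C := ⟨c, hcC⟩
  have hq1 : qmap C a ≠ 1 := fun e => hno (qmap_eq_one.1 e)
  set n := orderOf (qmap C a) with hn
  have hn1 : n ≠ 1 := fun e => hq1 (orderOf_eq_one_iff.1 e)
  have hnc : n ∣ orderOf c := by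
    rw [show orderOf c = orderOf a from (orderOf_coe a)]; exact orderOf_map_dvd _ _
  have hr := Nat.minFac_prime hn1
  set r := n.minFac with hrdef
  haveI := Fact.mk hr
  have hrn : r ∣ n := Nat.minFac_dvd n
  have hr2 : r ≠ 2 := fun e => by
    have := hc.of_dvd_nat ((e ▸ hrn).trans hnc)
    exact absurd this (by decide)
  have hd : r ∣ Nat.card (P2 D.F) := by
    set z := qmap C a ^ (n / r) with hz
    have hzo : orderOf z = r := orderOf_pow_orderOf_div (orderOf_pos _).ne' hrn
    haveI := D.norm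
    haveI := Shape.simple D
    let ρ : P2 D.F ≃* D.ι.range := MonoidHom.ofInjective D.inj
    let τ : ↥C ⧸ Cfsg.oddCore ↥C →* MulAut (P2 D.F) :=
      (MulAut.congr ρ.symm).toMonoidHom.comp MulAut.conjNormal
    have hτ : τ z ≠ 1 := by
      intro e
      have e1 : (MulAut.conjNormal z : MulAut D.ι.range) = 1 :=
        (MulAut.congr ρ.symm).injective (e.trans (map_one _).symm)
      have e2 : z ∈ centralizer (D.ι.range : Set (↥C ⧸ Cfsg.oddCore ↥C)) := mem_centralizer_iff.2 fun s hs => by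
        have := congrArg Subtype.val (DFunLike.congr_fun e1 (⟨s, hs⟩ : D.ι.range))
        rw [MulAut.conjNormal_apply] at this
        exact (mul_inv_eq_iff_eq_mul.1 (this : z * s * z⁻¹ = s)).symm
      have h2 := Subgroup.orderOf_dvd_natCard _ (D.cent e2)
      have h3 : orderOf (zbar t) ∣ 2 := orderOf_dvd_of_pow_eq_one (by
        rw [pow_two, ← map_mul]
        exact (congrArg (qmap C) (Subtype.ext (h.sq t ht))).trans (map_one _))
      rw [hzo, Nat.card_zpowers] at h2
      exact hr2 ((Nat.prime_dvd_prime_iff_eq hr Nat.prime_two).1 (h2.trans h3))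
    have ho : orderOf (τ z) = r := by
      refine orderOf_eq_prime ?_ hτ
      rw [← map_pow, ← hzo, pow_orderOf_eq_one, map_one]
    obtain ⟨p, f, hp, hp2, hF, hf⟩ := Shape.degree h ht ht1 D
    haveI := Fact.mk hp
    have h1 : r ∣ Nat.card (MulAut (P2 D.F)) := ho ▸ _root_.orderOf_dvd_natCard _
    rw [PSL.card_aut hF hp2 (by omega)] at h1
    rcases hr.dvd_mul.1 h1 with h1 | h1
    · rcases hf with rfl | rfl
      · exact absurd h1 hr.not_dvd_one
      · rw [(Nat.prime_dvd_prime_iff_eq hr Nat.prime_three).1 h1]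
        exact PSL.three_dvd_card (Shape.odd D)
    · exact (hr.dvd_mul.1 h1).resolve_left fun h2 => hr2 ((Nat.prime_dvd_prime_iff_eq hr Nat.prime_two).1 h2)
  exact Shape.noFixed h ht ht1 D hr2 hd (c ^ (orderOf c / r))
    (orderOf_pow_orderOf_div (orderOf_pos c).ne' (hrn.trans hnc)) fun v hv => (hcT v hv).pow_right _

theorem Shape.normalizer_inf_range {q : ↥(centralizer ({t} : Set X)) ⧸ Cfsg.oddCore ↥(centralizer ({t} : Set X))}
    (hq : q ∈ normalizer ((img (centralizer ({t} : Set X)) T ⊓ D.ι.range : Subgroup _) :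
      Set (↥(centralizer ({t} : Set X)) ⧸ Cfsg.oddCore ↥(centralizer ({t} : Set X))))) :
    q ∈ normalizer (img (centralizer ({t} : Set X)) T :
      Set (↥(centralizer ({t} : Set X)) ⧸ Cfsg.oddCore ↥(centralizer ({t} : Set X)))) := by
  refine (show zpowers q ≤ _ from Signalizer.le_normalizer_of_conj_mem fun g hg d hd => ?_) (mem_zpowers q)
  have hgn := (zpowers_le.2 hq) hg
  obtain ⟨s, hs, hds⟩ := D.decomp d hd
  have hsT : D.ι s ∈ img (centralizer ({t} : Set X)) T := by
    rcases hs with e | e | e | e <;> rw [e]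
    · rw [map_one]; exact one_mem _
    · exact D.memV
    · exact D.memW
    · rw [map_mul]; exact mul_mem D.memV D.memW
  have h1 : g * D.ι s * g⁻¹ ∈ img (centralizer ({t} : Set X)) T :=
    (mem_inf.1 ((mem_normalizer_iff.1 hgn _).1 (mem_inf.2 ⟨hsT, ⟨s, rfl⟩⟩))).1
  rcases hds with rfl | rfl
  · exact h1
  · rw [← mul_assoc, ← (Shape.zbar_comm h ht ht1 g).eq, mul_assoc, mul_assoc, ← mul_assoc g]
    exact mul_mem (h.iso ht ht1).mem h1

/-- An element of `N(T)` over `PSL₂` rotating the lines through `t`. -/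
theorem Shape.exists_rot : ∃ n : ↥(centralizer ({t} : Set X)),
    (n : X) ∈ normalizer (T : Set X) ∧ Moves T (n : X) ∧ qmap _ n ∈ D.ι.range := by
  set C := centralizer ({t} : Set X)
  haveI : Fact (Nat.Prime 2) := ⟨Nat.prime_two⟩
  haveI := D.norm
  have hTC := h.toEight.le_cent ht
  have h8 := h.toEight.eight_img hTC
  obtain ⟨S, hS⟩ := h8.sylow
  obtain ⟨S', hS'⟩ := PushL2.exists_sylow_inf D.ι.range S
  haveI : IsMulCommutative (S' : Subgroup D.ι.range) := ⟨⟨fun a b => Subtype.ext (Subtype.ext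
    (h8.comm (hS.le (mem_subgroupOf.1 (hS'.le a.2))) (hS.le (mem_subgroupOf.1 (hS'.le b.2)))).eq)⟩⟩
  obtain ⟨c, hc⟩ := isConj_iff.1
    (CfsgLib.Linear.FourGroups.involutions_conj (Shape.odd D) D.hv.1 D.hv.2 D.hw.1 D.hw.2)
  set V : D.ι.range := ⟨D.ι D.v, ⟨_, rfl⟩⟩
  set g : D.ι.range := ⟨D.ι c, ⟨_, rfl⟩⟩
  have hW : g * V * g⁻¹ = ⟨D.ι D.w, ⟨_, rfl⟩⟩ := Subtype.ext (by
    show D.ι c * D.ι D.v * (D.ι c)⁻¹ = D.ι D.w
    rw [← map_inv, ← map_mul, ← map_mul, hc])
  obtain ⟨m, hm, hmv⟩ := S'.conj_eq_normalizer_conj_of_mem V g⁻¹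
    (hS'.ge (mem_subgroupOf.2 (hS.ge D.memV)))
    (by rw [inv_inv, hW]; exact hS'.ge (mem_subgroupOf.2 (hS.ge D.memW)))
  rw [inv_inv, hW] at hmv
  set q : ↥C ⧸ Cfsg.oddCore ↥C := ((m⁻¹ : D.ι.range) : ↥C ⧸ Cfsg.oddCore ↥C) with hq
  have hqn : q ∈ normalizer ((img C T ⊓ D.ι.range : Subgroup _) : Set (↥C ⧸ Cfsg.oddCore ↥C)) := by
    refine (show zpowers q ≤ _ from ?_) (mem_zpowers q)
    refine Signalizer.le_normalizer_of_conj_mem fun g hg d hd => ?_
    obtain ⟨hdT, hdR⟩ := mem_inf.1 hd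
    obtain ⟨i, rfl⟩ := mem_zpowers_iff.1 hg
    have h2 := (mem_normalizer_iff.1 (zpow_mem (inv_mem hm) i) (⟨d, hdR⟩ : D.ι.range)).1
      (hS'.ge (mem_subgroupOf.2 (hS.ge hdT)))
    have h3 := mem_subgroupOf.1 (hS'.le h2)
    rw [hS] at h3
    refine mem_inf.2 ⟨?_, D.norm.conj_mem _ hdR _⟩
    simpa [hq, zpow_neg] using h3
  have hq2 : q * D.ι D.v * q⁻¹ = D.ι D.w := by
    have := congrArg Subtype.val hmv
    simpa [hq, V] using this.symm
  obtain ⟨n, hn, hnq⟩ := h.toEight.normalizer_lift hTC (Shape.normalizer_inf_range h ht ht1 D hqn)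
  refine ⟨n, hn, fun hall => D.hne (D.inj ?_), hnq ▸ (m⁻¹).2⟩
  obtain ⟨d, hd, hdv⟩ := (mem_img hTC).1 D.memV
  have h2 := (show Commute n d from Subtype.ext (hall _ hd).eq).map (qmap C)
  rw [hnq, hdv] at h2
  rw [← hq2, h2.eq, mul_inv_cancel_right]

/-- The centraliser modulo its core is `PSL₂` times the image of `t`. -/
theorem Shape.mem_range_sup (g : ↥(centralizer ({t} : Set X)) ⧸ Cfsg.oddCore ↥(centralizer ({t} : Set X))) :
    g ∈ D.ι.range ⊔ zpowers (zbar t) := by
  revert g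
  set C := centralizer ({t} : Set X)
  intro g
  haveI : Fact (Nat.Prime 2) := ⟨Nat.prime_two⟩
  haveI := D.norm
  have hTC := h.toEight.le_cent ht
  have h8 := h.toEight.eight_img hTC
  set R := D.ι.range ⊔ zpowers (zbar t) with hR
  have hTR : img C T ≤ R := fun d hd => by
    obtain ⟨s, -, hds⟩ := D.decomp d hd
    rcases hds with rfl | rfl
    · exact mem_sup_left ⟨s, rfl⟩
    · exact mul_mem (mem_sup_right (mem_zpowers _)) (mem_sup_left ⟨s, rfl⟩)
  obtain ⟨S, hS⟩ := h8.sylow
  obtain ⟨S', hS'⟩ := PushL2.exists_sylow_inf D.ι.range S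
  have hfr := Sylow.normalizer_sup_eq_top S'
  rw [hS', Comp.map_subgroupOf_inf, hS] at hfr
  have hg := hfr.ge (mem_top g)
  obtain ⟨y, hy, z, hz, hyz⟩ := (Solvable.mem_sup_of_le_normalizer le_normalizer_of_normal).1 hg
  rw [← hyz]
  refine mul_mem ?_ (mem_sup_left hz)
  obtain ⟨n, hn, rfl⟩ := h.toEight.normalizer_lift hTC (Shape.normalizer_inf_range h ht ht1 D hy)
  obtain ⟨m, hm, hmm, hmR⟩ := Shape.exists_rot h ht ht1 D
  have hfix : ∀ c : ↥C, (c : X) * t * (c : X)⁻¹ = t := fun c => by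
    rw [mem_centralizer_singleton_iff.1 c.2, mul_inv_cancel_right]
  -- an element fixing a line through `t` centralises `T`
  have key : ∀ c : ↥C, (c : X) ∈ normalizer (T : Set X) → (∀ v ∈ T, Commute (c : X) v) → qmap C c ∈ R := by
    intro c hcn hcT
    obtain ⟨k, o, ho, he⟩ := Nat.exists_eq_two_pow_mul_odd (orderOf_pos c).ne'
    refine mem_of_pow_coprime (a := 2 ^ k) (b := o) ((Nat.coprime_two_left.2 ho).pow_left k) ?_ ?_
    · rw [← map_pow, qmap_eq_one.2 (Shape.commute_T_mem_core h ht ht1 D ?_ fun v hv => ?_)]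
      · exact one_mem _
      · rw [orderOf_coe, orderOf_pow, he, Nat.gcd_eq_right (dvd_mul_right _ _),
          Nat.mul_div_cancel_left _ (by positivity)]
        exact ho
      · rw [SubmonoidClass.coe_pow]; exact ((hcT v hv).pow_left _).symm
    · rw [← map_pow]
      refine hTR ((mem_img hTC).2 ⟨c ^ o, ?_, rfl⟩)
      obtain ⟨U, hU⟩ := h.sylow
      have hp : IsPGroup 2 (zpowers ((c ^ o : ↥C) : X)) := by
        refine IsPGroup.of_card (n := k) ?_
        rw [Nat.card_zpowers, orderOf_coe, orderOf_pow_of_dvd ho.pos.ne' (he ▸ dvd_mul_left o _), he,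
          Nat.mul_div_cancel _ ho.pos]
      have hn' : zpowers ((c ^ o : ↥C) : X) ≤ normalizer (T : Set X) :=
        zpowers_le.2 (by rw [SubmonoidClass.coe_pow]; exact pow_mem hcn o)
      have h2 := U.3 (Q := zpowers ((c ^ o : ↥C) : X) ⊔ T) (hp.to_sup_of_normal_right' h.toEight.isPGroup hn')
        (hU.le.trans le_sup_right)
      exact hU ▸ h2.le (mem_sup_left (mem_zpowers _))
  -- the lines through `t`
  obtain ⟨d, hd, hdt⟩ : ∃ d ∈ T, d ∉ zpowers t := by
    by_contra hcon
    push Not at hcon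
    have := Subgroup.card_le_of_le (show T ≤ zpowers t from hcon)
    rw [h.card, Nat.card_zpowers, h.toEight.orderOf_eq_two ht ht1] at this
    omega
  have hd1 : d ≠ 1 := fun e => hdt (e ▸ one_mem _)
  have hdt' : t ≠ d := fun e => hdt (e ▸ mem_zpowers t)
  set a := h.toEight.lineOf t d
  have ha : IsLine T a := h.toEight.isLine_lineOf ht hd ht1 hd1 hdt'
  have hta : t ∈ a := mem_sup_left (mem_zpowers t)
  have hb := h.toEight.line_map ha hn
  have htb : t ∈ a.map (MulAut.conj (n : X)).toMonoidHom := ⟨t, hta, hfix n⟩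
  have fin : ∀ c : ↥C, (c : X) ∈ normalizer (T : Set X) →
      a.map (MulAut.conj (c : X)).toMonoidHom = a → qmap C c ∈ R := fun c hcn hca =>
    key c hcn (not_not.1 fun hm' => h.toEight.line_moved hcn hm' ht1 (hfix c) ha hta hca)
  have hcomp : ∀ (c e : X), a.map (MulAut.conj (c⁻¹ * e)).toMonoidHom =
      (a.map (MulAut.conj e).toMonoidHom).map (MulAut.conj c⁻¹).toMonoidHom := fun c e => by
    rw [map_map, map_mul]
    rfl
  have hinv : ∀ c : X, (a.map (MulAut.conj c).toMonoidHom).map (MulAut.conj c⁻¹).toMonoidHom = a := fun c => by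
    rw [← hcomp, inv_mul_cancel, map_one]
    exact Subgroup.map_id a
  rcases h.toEight.lines_through hm hmm ht1 (hfix m) ha hb hta htb with e | e | e
  · exact fin n hn e
  · have h1 := fin (m⁻¹ * n) (by rw [Subgroup.coe_mul, Subgroup.coe_inv]; exact mul_mem (inv_mem hm) hn)
      (by rw [Subgroup.coe_mul, Subgroup.coe_inv, hcomp, e, hinv])
    rw [map_mul, map_inv] at h1
    exact (mul_mem_cancel_left (inv_mem (mem_sup_left hmR))).1 h1
  · have e2 : (a.map (MulAut.conj (m : X)).toMonoidHom).map (MulAut.conj (m : X)).toMonoidHom =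
        a.map (MulAut.conj ((m * m : ↥C) : X)).toMonoidHom := by
      rw [map_map, Subgroup.coe_mul, map_mul]
      rfl
    have h1 := fin ((m * m)⁻¹ * n)
      (by rw [Subgroup.coe_mul, Subgroup.coe_inv, Subgroup.coe_mul]; exact mul_mem (inv_mem (mul_mem hm hm)) hn)
      (by rw [Subgroup.coe_mul, Subgroup.coe_inv, hcomp, e, e2, hinv])
    rw [map_mul, map_inv, map_mul] at h1
    exact (mul_mem_cancel_left (inv_mem (mul_mem (mem_sup_left hmR) (mem_sup_left hmR)))).1 h1

end Data

namespace Hyp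

variable (h : Hyp T) {t : X} (ht : t ∈ T) (ht1 : t ≠ 1)

include h ht ht1

/-- An element of odd order centralising `T` lies in every odd core. -/
theorem commute_T_mem_core {c : X} (hc : Odd (orderOf c)) (hcT : ∀ v ∈ T, Commute v c) :
    c ∈ DGroup.coreIn (centralizer ({t} : Set X)) :=
  (h.shape ht ht1).elim fun D => Shape.commute_T_mem_core h ht ht1 D hc hcT

/-- An element of `N(T)` fixing `t` and moving the lines through it. -/
theorem exists_rot : ∃ n : X, Commute n t ∧ n ∈ normalizer (T : Set X) ∧ Moves T n := by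
  obtain ⟨D⟩ := h.shape ht ht1
  obtain ⟨n, hn, hm, -⟩ := Shape.exists_rot h ht ht1 D
  exact ⟨n, mem_centralizer_singleton_iff.1 n.2, hn, hm⟩

theorem model : Nonempty (Model T t) := by
  obtain ⟨D⟩ := h.shape ht ht1
  obtain ⟨p, f, hp, hp2, hF, hf⟩ := Shape.degree h ht ht1 D
  set C := centralizer ({t} : Set X)
  haveI := D.norm
  set x := zbar t with hx
  set Z := zpowers x
  haveI : Z.Normal := ⟨fun z hz g => by
    rw [(Iso.zpowers_le_center (h.iso ht ht1) hz |> mem_center_iff.1) g, mul_inv_cancel_right]; exact hz⟩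
  let φ : P2 D.F →* (↥C ⧸ Cfsg.oddCore ↥C) ⧸ Z := (QuotientGroup.mk' Z).comp D.ι
  have hφ : Function.Bijective φ := by
    refine ⟨(injective_iff_map_eq_one _).2 fun s hs => D.inj ?_, fun q => ?_⟩
    · rw [map_one]
      rcases Iso.mem_zpowers_cases (h.iso ht ht1) ((QuotientGroup.eq_one_iff _).1 hs) with e | e
      · exact e
      · exact absurd ⟨s, e⟩ D.notMem
    · obtain ⟨g, rfl⟩ := QuotientGroup.mk'_surjective Z q
      obtain ⟨y, hy, z, hz, rfl⟩ :=
        (Solvable.mem_sup_of_le_normalizer (show D.ι.range ≤ normalizer (Z : Set (↥C ⧸ Cfsg.oddCore ↥C)) from le_normalizer_of_normal)).1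
          (Shape.mem_range_sup h ht ht1 D g)
      obtain ⟨s, rfl⟩ := hy
      refine ⟨s, ?_⟩
      rw [map_mul, show QuotientGroup.mk' Z z = 1 from (QuotientGroup.eq_one_iff z).2 hz, mul_one]
      rfl
  let μ : ↥C →* P2 D.F := (MulEquiv.ofBijective φ hφ).symm.toMonoidHom.comp ((QuotientGroup.mk' Z).comp (qmap C))
  refine ⟨{ F := D.F, fld := D.fld, fin := D.fin, p := p, f := f, prime := hp, ne_two := hp2, card := hF,
            deg := hf, h8 := D.h8, h5 := D.h5, μ := μ, surj := ?_, ker := fun c => ?_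
            not_dvd := ?_
            noWeight := fun r hr hr2 hd hnc ℓ hl b hb => by
              haveI := Fact.mk hr
              exact Shape.noWeight h ht ht1 D hr2 hd hnc hl hb }⟩
  pick_goal 3
  · haveI := Fact.mk hp
    obtain ⟨hdvd, hnc⟩ := PSL.char_prop (F := D.F) hF (by omega) hp2
    exact Shape.not_dvd_core h ht ht1 D hp2 hdvd hnc
  · exact (MulEquiv.ofBijective φ hφ).symm.surjective.comp
      ((QuotientGroup.mk'_surjective Z).comp (QuotientGroup.mk'_surjective _))
  · show (MulEquiv.ofBijective φ hφ).symm ((QuotientGroup.mk' Z) (qmap C c)) = 1 ↔ _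
    rw [EmbeddingLike.map_eq_one_iff, QuotientGroup.mk'_apply, QuotientGroup.eq_one_iff]
    have ht' : ∀ hm, qmap C c * zbar t = qmap C (⟨(c : X) * t, hm⟩ : ↥C) := fun hm => by
      rw [← map_mul]; rfl
    have hm : (c : X) * t ∈ C := mul_mem c.2 (mem_centralizer_singleton_iff.2 rfl)
    have hxx : zbar t * zbar t = 1 := (h.iso ht ht1).sq _ (h.iso ht ht1).mem
    constructor
    · intro hz
      rcases Iso.mem_zpowers_cases (h.iso ht ht1) hz with e | e
      · exact Or.inl (qmap_eq_one.1 e)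
      · refine Or.inr ((qmap_eq_one (a := (⟨(c : X) * t, hm⟩ : ↥C))).1 ?_)
        rw [← ht' hm, e, hxx]
    · rintro (e | e)
      · rw [qmap_eq_one.2 e]; exact one_mem _
      · have h2 : qmap C c * zbar t = 1 := by
          rw [ht' hm]; exact qmap_eq_one.2 e
        rw [eq_inv_of_mul_eq_one_left h2]
        exact inv_mem (mem_zpowers _)

end Hyp

end CfsgLib.EightCore
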