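import Cfsg.Agent.EightCore.CoreFree
import Cfsg.Agent.EightCore.Fusion

/-!
# Simple groups with Sylow 2-subgroups `E₈`: the shape of the centraliser; the field of 27 elements is excluded
-/

set_option autoImplicit false
set_option linter.unusedSectionVars false
set_option linter.unusedVariables false
set_option linter.style.haveILetI false

namespace CfsgLib.EightCore

open Subgroup
open CfsgLib.Linear.SmallSub (P2)
open CfsgLib.NormCyclic (Inv)

universe u

variable {X : Type u} [Group X] [Finite X] {T : Subgroup X}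

section Data

variable [IsSimpleGroup X] (h : Hyp T) {t : X} (ht : t ∈ T) (ht1 : t ≠ 1) (D : Shape T t)

include h ht ht1

theorem Shape.qmap_injective : Function.Injective (qmap (centralizer ({t} : Set X))) := by
  refine (injective_iff_map_eq_one _).2 fun a ha => Subtype.ext ?_
  have h1 := qmap_eq_one.1 ha
  rwa [h.coreFree ht ht1, mem_bot] at h1

/-- The centraliser is `C₂ × PSL₂(q)`. -/
theorem Shape.centralizer_equiv :
    Nonempty (↥(centralizer ({t} : Set X)) ≃* Multiplicative (ZMod 2) × P2 D.F) := by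
  set C := centralizer ({t} : Set X)
  set x := zbar t with hx
  have hxx : x * x = 1 := (h.iso ht ht1).sq _ (h.iso ht ht1).mem
  let g : Multiplicative (ZMod 2) →* ↥C ⧸ Cfsg.oddCore ↥C :=
    { toFun := fun z => if z = 1 then 1 else x
      map_one' := if_pos rfl
      map_mul' := by
        intro a b
        have hcases : ∀ z : Multiplicative (ZMod 2), z = 1 ∨ z = Multiplicative.ofAdd 1 := by decide
        have h11 : Multiplicative.ofAdd (1 : ZMod 2) * Multiplicative.ofAdd 1 = 1 := by decide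
        have hne : Multiplicative.ofAdd (1 : ZMod 2) ≠ 1 := by decide
        rcases hcases a with rfl | rfl <;> rcases hcases b with rfl | rfl <;> simp [hxx, h11, hne] }
  have hg : ∀ z : Multiplicative (ZMod 2), g z = if z = 1 then 1 else x := fun z => rfl
  let E : Multiplicative (ZMod 2) × P2 D.F →* ↥C ⧸ Cfsg.oddCore ↥C := g.noncommCoprod D.ι fun z s => by
    rw [hg]
    split_ifs
    · exact Commute.one_left _
    · exact Shape.zbar_comm h ht ht1 _
  have hE : ∀ z s, E (z, s) = g z * D.ι s := fun z s => rfl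
  have hbij : Function.Bijective E := by
    refine ⟨(injective_iff_map_eq_one E).2 ?_, fun y => ?_⟩
    · rintro ⟨z, s⟩ e
      rw [hE, hg] at e
      split_ifs at e with hz
      · rw [one_mul] at e
        rw [hz, (D.inj (e.trans (map_one _).symm) : s = 1)]
        rfl
      · exact absurd ⟨s⁻¹, by rw [map_inv, ← eq_inv_of_mul_eq_one_left e]⟩ D.notMem
    · obtain ⟨y₁, hy₁, y₂, hy₂, rfl⟩ : ∃ y₁ ∈ D.ι.range, ∃ y₂ ∈ zpowers x, y₁ * y₂ = y := by
        have := Shape.mem_range_sup h ht ht1 D y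
        exact (Solvable.mem_sup_of_le_normalizer (fun a ha => mem_normalizer_iff.2 fun n => by
          have hc : ∀ n ∈ zpowers x, a * n * a⁻¹ = n := fun n hn => by
            obtain ⟨i, rfl⟩ := mem_zpowers_iff.1 hn
            rw [((Shape.zbar_comm h ht ht1 a).symm.zpow_right i).eq, mul_inv_cancel_right]
          refine ⟨fun hn => by rw [hc n hn]; exact hn, fun hn => ?_⟩
          have := hc _ hn
          rw [show n = a⁻¹ * (a * n * a⁻¹) * a by group]
          have h2 : a⁻¹ * (a * n * a⁻¹) * a = a * n * a⁻¹ := by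
            conv_lhs => rw [← this]
            group
          rw [h2]; exact hn)).1 this
      obtain ⟨s, rfl⟩ := hy₁
      rcases Iso.mem_zpowers_cases (h.iso ht ht1) hy₂ with rfl | rfl
      · exact ⟨(1, s), by rw [hE, hg, if_pos rfl, one_mul, mul_one]⟩
      · refine ⟨(Multiplicative.ofAdd 1, s), ?_⟩
        rw [hE, hg, if_neg (by decide), (Shape.zbar_comm h ht ht1 (D.ι s)).eq]
  exact ⟨(MulEquiv.ofBijective (qmap C) ⟨Shape.qmap_injective h ht ht1, QuotientGroup.mk'_surjective _⟩).trans
    (MulEquiv.ofBijective E hbij).symm⟩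

/-- The field of 27 elements does not occur with `27³` dividing the order. -/
theorem Shape.not_ree (hF : Fintype.card D.F = 27) (hX : 3 ^ 9 ∣ Nat.card X) : False := by
  set C := centralizer ({t} : Set X) with hC
  haveI : Fact (Nat.Prime 3) := ⟨Nat.prime_three⟩
  haveI : Fact (Nat.Prime 2) := ⟨Nat.prime_two⟩
  have hto := h.toEight.orderOf_eq_two ht ht1
  have hodd : Odd (Fintype.card D.F) := by rw [hF]; decide
  have hnc : ∀ v : P2 D.F, Inv v → ¬ 3 ∣ Nat.card (centralizer ({v} : Set (P2 D.F))) := fun v hv => by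
    rw [PSL.card_centralizer hodd hv, hF]; decide
  obtain ⟨u, s, huo, hus, hso⟩ := Shape.exists_lift h ht ht1 D (r := 3) (by decide) (PSL.three_dvd_card hodd)
  have h4u : ¬ 4 ∣ Nat.card (centralizer (zpowers (u : X) : Set X)) := fun h4 => by
    obtain ⟨y, hy, hyt, hyc, hyA⟩ := h.toEight.exists_invol_ne hto
      (mem_centralizer_zpowers (mem_centralizer_singleton_iff.1 u.2)) h4
    obtain ⟨v, hv, hvs, -⟩ := Shape.invol_commute h ht ht1 D
      (y := ⟨y, mem_centralizer_singleton_iff.2 hyc.eq⟩) hy hyt hus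
      (mem_centralizer_iff.1 hyA _ (mem_zpowers _)).symm
    refine hnc v hv ?_
    rw [← hso]
    exact Subgroup.orderOf_dvd_natCard _ (mem_centralizer_singleton_iff.2 hvs.eq.symm)
  have h2u : 2 ∣ Nat.card (centralizer (zpowers (u : X) : Set X)) :=
    hto ▸ Subgroup.orderOf_dvd_natCard _ (mem_centralizer_zpowers (mem_centralizer_singleton_iff.1 u.2))
  -- a central element of order three of a Sylow subgroup
  obtain ⟨P⟩ : Nonempty (Sylow 3 X) := inferInstance
  have hP9 : 3 ^ 9 ∣ Nat.card (P : Subgroup X) := P.pow_dvd_card_of_pow_dvd_card hX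
  haveI : Nontrivial (P : Subgroup X) := Finite.one_lt_card_iff_nontrivial.1
    (lt_of_lt_of_le (by norm_num) (Nat.le_of_dvd Nat.card_pos hP9))
  haveI := P.2.center_nontrivial
  obtain ⟨zc, hzc⟩ := exists_prime_orderOf_dvd_card' (G := center (P : Subgroup X)) 3 (by
    obtain ⟨j, hj⟩ := IsPGroup.iff_card.1 (P.2.to_subgroup (center (P : Subgroup X)))
    rw [hj]
    refine dvd_pow_self 3 fun e => ?_
    rw [e, pow_zero] at hj
    exact (ne_of_gt Finite.one_lt_card) hj)
  set z : X := ((zc : (P : Subgroup X)) : X)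
  have hzo : orderOf z = 3 := by rw [Subgroup.orderOf_coe, Subgroup.orderOf_coe, hzc]
  set Cz := centralizer (zpowers z : Set X)
  have hcard : Nat.card Cz = Nat.card (centralizer (zpowers (u : X) : Set X)) :=
    h.aut.card_centralizer_elem hzo huo
  have hPz : (P : Subgroup X) ≤ Cz := fun x hx => mem_centralizer_zpowers
    (congrArg Subtype.val (mem_center_iff.1 zc.2 ⟨x, hx⟩)).symm
  -- the odd part of the centraliser
  obtain ⟨S2⟩ : Nonempty (Sylow 2 Cz) := inferInstance
  have hS2 : Nat.card (S2 : Subgroup Cz) = 2 := by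
    obtain ⟨k, hk⟩ := IsPGroup.iff_card.1 S2.2
    have h1 : 2 ∣ Nat.card (S2 : Subgroup Cz) := S2.pow_dvd_card_of_pow_dvd_card (n := 1) (hcard ▸ h2u)
    rcases k with _ | _ | k
    · rw [hk] at h1; norm_num at h1
    · exact hk
    · exact absurd ((show 4 ∣ 2 ^ (k + 2) from ⟨2 ^ k, by ring⟩).trans (hk ▸ card_subgroup_dvd_card _)) (hcard ▸ h4u)
  obtain ⟨N, hN, hNodd, hNall⟩ := DGroup.exists_compl_of_cyclic S2 (isCyclic_of_prime_card (p := 2) hS2)
  haveI := hN
  have hPN : (P : Subgroup X).subgroupOf Cz ≤ N := fun x hx => hNall x (by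
    obtain ⟨j, hj⟩ := IsPGroup.iff_orderOf.1 (P.2.comap_subtype (K := Cz)) ⟨x, hx⟩
    rw [show orderOf x = 3 ^ j from (Subgroup.orderOf_coe _).trans hj]
    exact (Nat.odd_iff.2 (by norm_num) : Odd 3).pow)
  obtain ⟨sv, hsv⟩ := exists_prime_orderOf_dvd_card' (G := Cz) 2 (hcard ▸ h2u)
  haveI : Group.IsSolvable (zpowers sv) := Group.isSolvable_of_comm (fun a b => mul_comm' a b)
  obtain ⟨R, hR⟩ := CoprimeAct.exists_invariant_sylow (A := zpowers sv) (K := N) le_normalizer_of_normal
    (by rw [Nat.card_zpowers, hsv]; exact Nat.coprime_two_left.2 hNodd) (Or.inl inferInstance) 3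
  have hR9 : 3 ^ 9 ∣ Nat.card (R : Subgroup N) := R.pow_dvd_card_of_pow_dvd_card (by
    refine hP9.trans ?_
    rw [← Nat.card_congr (subgroupOfEquivOfLe hPz).toEquiv]
    exact card_dvd_of_le hPN)
  set R' := (R : Subgroup N).map N.subtype
  have hR'p : IsPGroup 3 R' := R.2.map _
  -- every pair is centralised by an involution
  obtain ⟨U₀, hU₀⟩ := Sylow.exists_subgroup_card_pow_prime 3 (G := Multiplicative D.F) (n := 2) (by
    rw [Nat.card_congr Multiplicative.toAdd, Nat.card_eq_fintype_card, hF]; norm_num)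
  have hEc : Nat.card ((U₀.map (PSL.uHom D.F)).map D.ι) = 3 ^ 2 := by
    rw [card_map_of_injective D.inj, card_map_of_injective PSL.uHom_injective, hU₀]
  obtain ⟨W, hWp, hWm, hWi⟩ := exists_lift_pgroup C (by rw [h.coreFree ht ht1, card_bot]; norm_num)
    (IsPGroup.of_card hEc)
  have hWc : Nat.card W = 3 ^ 2 := by
    rw [← hEc, ← hWm, card_map_of_injective (Shape.qmap_injective h ht ht1)]
  have hW2 : 2 ∣ Nat.card (centralizer (W.map C.subtype : Set X)) :=
    hto ▸ Subgroup.orderOf_dvd_natCard _ (mem_centralizer_iff.2 (by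
      rintro _ ⟨w, -, rfl⟩
      exact mem_centralizer_singleton_iff.1 w.2))
  -- the involution centralises `R`
  have hsR : ∀ g ∈ R', Commute sv g := by
    intro g hg
    have hss : sv * sv = 1 := by
      have := pow_orderOf_eq_one sv; rwa [hsv, pow_two] at this
    have hsi : sv⁻¹ = sv := inv_eq_of_mul_eq_one_right hss
    have hgs : sv * g * sv⁻¹ ∈ R' := (mem_normalizer_iff.1 (hR (mem_zpowers sv)) g).1 hg
    by_contra hne
    set a := g * (sv * g * sv⁻¹)⁻¹ with ha
    have haR : a ∈ R' := mul_mem hg (inv_mem hgs)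
    have hainv : sv * a * sv⁻¹ = a⁻¹ := by
      rw [ha, mul_inv_rev g, inv_inv]
      calc sv * (g * (sv * g * sv⁻¹)⁻¹) * sv⁻¹ = sv * g * sv * g⁻¹ * (sv * sv)⁻¹ := by group
        _ = sv * g * sv⁻¹ * g⁻¹ := by rw [hss, inv_one, mul_one, hsi]
    have ha1 : a ≠ 1 := fun e => hne (mul_inv_eq_iff_eq_mul.1 (mul_inv_eq_one.1 (ha ▸ e)).symm)
    obtain ⟨j, hj⟩ := IsPGroup.iff_orderOf.1 hR'p ⟨a, haR⟩
    rw [Subgroup.orderOf_mk] at hj
    have hj0 : j ≠ 0 := fun e => ha1 (orderOf_eq_one_iff.1 (hj.trans (by rw [e, pow_zero])))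
    set b := a ^ 3 ^ (j - 1)
    have hbo : orderOf b = 3 := by
      rw [orderOf_pow_of_dvd (pow_ne_zero _ (by norm_num)) (by rw [hj]; exact pow_dvd_pow 3 (Nat.sub_le j 1)),
        hj, Nat.pow_div (Nat.sub_le j 1) (by norm_num), show j - (j - 1) = 1 by omega, pow_one]
    have hbinv : sv * b * sv⁻¹ = b⁻¹ := by rw [← conj_pow, hainv, inv_pow]
    have hbs : Commute sv b → False := fun hc => by
      rw [hc.eq, mul_inv_cancel_right] at hbinv
      have := DGroup.eq_one_of_inv_eq hbinv.symm (by rw [hbo]; decide)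
      rw [this, orderOf_one] at hbo
      omega
    have hbz : Commute z (b : X) := mem_centralizer_iff.1 b.2 z (mem_zpowers z)
    have hsz : Commute z (sv : X) := mem_centralizer_iff.1 sv.2 z (mem_zpowers z)
    have hpair : Pair 3 z (b : X) := by
      refine ⟨hzo, by rw [Subgroup.orderOf_coe, hbo], hbz, fun hb => hbs (Subtype.ext ?_)⟩
      obtain ⟨i, hi⟩ := mem_zpowers_iff.1 hb
      have h1 : Commute (z ^ i) (sv : X) := hsz.zpow_left i
      rw [hi] at h1
      exact h1.eq.symm
    have h2 : 2 ∣ Nat.card (centralizer (pairGroup z (b : X) : Set X)) := by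
      refine hW2.trans (dvd_of_eq ?_)
      refine h.aut.card_centralizer (p := 3) (hWp.map _) hpair.isPGroup ?_ hpair.isMulCommutative
        (by rw [card_map_of_injective C.subtype_injective, hWc, hpair.card])
      refine ⟨⟨?_⟩⟩
      rintro ⟨_, ⟨v, hv, rfl⟩⟩ ⟨_, ⟨w, hw, rfl⟩⟩
      refine Subtype.ext ?_
      have : v * w = w * v := by
        refine hWi _ (mul_mem hv hw) _ (mul_mem hw hv) ?_
        obtain ⟨x, ⟨xu, -, hxu⟩, hx⟩ := hWm.le ⟨v, hv, rfl⟩
        obtain ⟨y, ⟨yu, -, hyu⟩, hy⟩ := hWm.le ⟨w, hw, rfl⟩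
        rw [map_mul, map_mul, ← hx, ← hy, ← map_mul, ← map_mul, ← hxu, ← hyu, ← map_mul, ← map_mul, mul_comm xu yu]
      exact (congrArg (fun z : ↥C => (z : X)) this :)
    set CW := (centralizer (pairGroup z (b : X) : Set X)).subgroupOf Cz with hCWdef
    have hle : centralizer (pairGroup z (b : X) : Set X) ≤ Cz := fun y hy =>
      mem_centralizer_zpowers (centralizer_pairGroup.1 hy).1
    have hn : zpowers sv ≤ normalizer (CW : Set Cz) := by
      refine Signalizer.le_normalizer_of_conj_mem fun v hv y hy => ?_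
      obtain ⟨i, rfl⟩ := mem_zpowers_iff.1 hv
      have hy' := centralizer_pairGroup.1 (mem_subgroupOf.1 hy)
      refine mem_subgroupOf.2 (centralizer_pairGroup.2 ⟨?_, ?_⟩)
      · exact mem_centralizer_iff.1 (sv ^ i * y * (sv ^ i)⁻¹).2 z (mem_zpowers z)
      · rcases Int.even_or_odd i with ⟨k, rfl⟩ | ⟨k, rfl⟩
        · rw [← two_mul, zpow_mul, zpow_ofNat, pow_two, hss, one_zpow, one_mul, inv_one, mul_one]
          exact hy'.2
        · rw [zpow_add, zpow_mul, zpow_ofNat, pow_two, hss, one_zpow, one_mul, zpow_one]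
          have h3 : Commute b y := Subtype.ext hy'.2.eq
          have h4 := (Commute.conj_iff sv).2 h3
          rw [hbinv] at h4
          exact congrArg Subtype.val (Commute.inv_left_iff.1 h4).eq
    have hinf : zpowers sv ⊓ CW ≠ ⊥ := by
      intro hb
      have h1 := Solvable.card_sup_mul_card_inf hn
      rw [hb, card_bot, mul_one, Nat.card_zpowers, hsv] at h1
      have hc : Nat.card CW = Nat.card (centralizer (pairGroup z (b : X) : Set X)) :=
        Nat.card_congr (subgroupOfEquivOfLe hle).toEquiv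
      refine (hcard ▸ h4u : ¬ 4 ∣ Nat.card Cz) ((?_ : 4 ∣ Nat.card ↥(zpowers sv ⊔ CW)).trans (card_subgroup_dvd_card _))
      rw [h1, hc, show (4 : ℕ) = 2 * 2 from rfl]
      exact Nat.mul_dvd_mul_left 2 h2
    obtain ⟨y, hy, hy1⟩ := ((zpowers sv ⊓ CW).bot_or_exists_ne_one).resolve_left hinf
    obtain ⟨hys, hyW⟩ := mem_inf.1 hy
    obtain ⟨i, rfl⟩ := mem_zpowers_iff.1 hys
    refine hbs (Subtype.ext ?_)
    rcases Int.even_or_odd i with ⟨k, rfl⟩ | ⟨k, rfl⟩
    · exact absurd (by rw [← two_mul, zpow_mul, zpow_ofNat, pow_two, hss, one_zpow]) hy1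
    · rw [zpow_add, zpow_mul, zpow_ofNat, pow_two, hss, one_zpow, one_mul, zpow_one] at hyW
      exact (centralizer_pairGroup.1 (mem_subgroupOf.1 hyW)).2.symm.eq
  -- so `3⁹` divides the order of an involution centraliser
  have h1 : 3 ^ 9 ∣ Nat.card (centralizer ({(sv : X)} : Set X)) := by
    refine hR9.trans ?_
    rw [← card_map_of_injective N.subtype_injective, ← card_map_of_injective Cz.subtype_injective]
    refine card_dvd_of_le ?_
    rintro _ ⟨g, hg, rfl⟩
    exact mem_centralizer_singleton_iff.2 (congrArg Subtype.val (hsR g hg).eq).symm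
  obtain ⟨e, he⟩ := h.toEight.card_centralizer_eq ht ht1 (s := (sv : X)) (by rw [Subgroup.orderOf_coe, hsv])
  obtain ⟨eC⟩ := Shape.centralizer_equiv h ht ht1 D
  rw [← card_map_of_injective (f := e.toMonoidHom) e.injective, he, Nat.card_congr eC.toEquiv, Nat.card_prod,
    Nat.card_congr Multiplicative.toAdd, Nat.card_zmod, PSL.two_mul_card hodd, hF] at h1
  norm_num at h1

end Data

end CfsgLib.EightCore
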