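import Cfsg.Agent.EightCore.Ree
import Cfsg.Agent.EightCore.J1Index
import Cfsg.Agent.S1644
import Cfsg.Agent.S0253
import Cfsg.Agent.JankoThompson.Main

/-!
# Simple groups with Sylow 2-subgroups `E₈` whose abelian subgroups of equal order are related by
automorphisms: `L₂(8)` or `J₁`
-/

set_option autoImplicit false
set_option linter.unusedSectionVars false
set_option linter.unusedVariables false
set_option linter.style.haveILetI false

namespace CfsgLib.EightCore

open Subgroup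
open CfsgLib.Linear.SmallSub (P2)

universe u

theorem three_case {X : Type u} [Group X] [Finite X] [IsSimpleGroup X] (hA : AutConj X) (S : Sylow 2 X)
    (hS : ∀ x ∈ (S : Subgroup X), x * x = 1) (h8 : Nat.card (S : Subgroup X) = 8) :
    (∃ (F : Type) (_ : Field F) (_ : Fintype F), Fintype.card F = 8 ∧
      Nonempty (X ≃* Matrix.ProjectiveSpecialLinearGroup (Fin 2) F)) ∨ Cfsg.Spor.IsoJ1 X := by
  set T := (S : Subgroup X)
  have hT : Eight T := ⟨⟨S, rfl⟩, h8, hS⟩
  by_cases hsol : ∃ t ∈ T, t ≠ 1 ∧ Group.IsSolvable ↥(centralizer ({t} : Set X))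
  · obtain ⟨t, ht, ht1, hs⟩ := hsol
    exact Or.inl (hT.eight_of_solvable ht ht1 hs)
  refine Or.inr ?_
  have h : Hyp T := ⟨hT, hA, fun t ht ht1 hs => hsol ⟨t, ht, ht1, hs⟩⟩
  obtain ⟨⟨t, ht⟩, ht1⟩ : ∃ t : T, t ≠ 1 := by
    haveI : Nontrivial T := Finite.one_lt_card_iff_nontrivial.1 (by rw [h8]; norm_num)
    exact exists_ne 1
  replace ht1 : t ≠ 1 := fun e => ht1 (Subtype.ext e)
  have hto := hT.orderOf_eq_two ht ht1
  obtain ⟨D⟩ := h.shape ht ht1
  obtain ⟨e⟩ := Shape.centralizer_equiv h ht ht1 D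
  have hab : IsMulCommutative T := ⟨⟨fun a b => Subtype.ext (hT.comm a.2 b.2).eq⟩⟩
  have habP : ∀ P : Sylow 2 X, ∀ a b : P, a * b = b * a := fun P a b =>
    Subtype.ext (hT.two_comm P.2 a.2 b.2).eq
  have h5 := D.h5
  rcases CfsgLib.JT.janko_thompson habP (by omega) hto e with ⟨m, hm, hF, hcard⟩ | ⟨hq, -⟩
  · exfalso
    obtain ⟨p, f, hp, hp2, hFp, hf⟩ := Shape.degree h ht ht1 D
    rw [hFp] at hF
    obtain rfl : p = 3 := by
      have h1 : p ∣ 3 ^ (2 * m + 1) := hF ▸ dvd_pow_self p (by omega)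
      exact (Nat.prime_dvd_prime_iff_eq hp Nat.prime_three).1 (hp.dvd_of_dvd_pow h1)
    have hfm : f = 2 * m + 1 := Nat.pow_right_injective (by norm_num) hF
    obtain ⟨rfl, rfl⟩ : f = 3 ∧ m = 1 := by omega
    refine Shape.not_ree h ht ht1 D (by rw [hFp]; norm_num) ?_
    rw [hcard]
    norm_num
  · have h5' : Fintype.card D.F = 5 := by
      have := D.h8
      omega
    obtain ⟨e5⟩ := Cfsg.Agent.S0253.result h5'
    exact Cfsg.Agent.S1644.result S hab h8 t hto (e.trans ((MulEquiv.refl _).prodCongr e5))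

end CfsgLib.EightCore
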